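/-
An element of order `p` with dihedral normaliser: the family of virtual characters induced from
`1 - λ` shares exactly one non-trivial constituent.
-/
import Cfsg.Agent.Perm.TwoPrime.SmallNormalizer

set_option autoImplicit false
set_option linter.style.haveILetI false
set_option linter.unusedSectionVars false

namespace CfsgLib.Deg3P

open CfsgLib.Char CfsgLib.TwoPrime
open scoped ComplexConjugate

universe u

variable {p : ℕ} [hp : Fact p.Prime]
variable {G : Type u} [Group G] [Fintype G]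
variable {x t : G}

variable (D : Dih p x t)
include D

theorem xpow_xpow (a m : ZMod p) : xpow (xpow x a) m = xpow x (a * m) := by
  rw [show xpow (xpow x a) m = xpow x a ^ m.val from rfl, xpow_pow D.pow_p, ZMod.natCast_zmod_val,
    mul_comm]

theorem shift {a : ZMod p} (ha : a ≠ 0) : Dih p (xpow x a) t where
  pow_p := by rw [xpow_pow D.pow_p, ZMod.natCast_self, zero_mul, xpow_zero]
  x_ne := xpow_ne_one D.pow_p D.x_ne ha
  t_sq := D.t_sq
  t_ne := D.t_ne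
  inv := by rw [D.conj_xpow, xpow_neg D.pow_p]
  normalizes g hg := by
    have heq : Subgroup.zpowers (xpow x a) = Subgroup.zpowers x := by
      refine le_antisymm (Subgroup.zpowers_le.2 (Subgroup.npow_mem_zpowers x _))
        (Subgroup.zpowers_le.2 ?_)
      have h : xpow (xpow x a) a⁻¹ = x := by rw [xpow_xpow D, mul_inv_cancel₀ ha, xpow_one]
      have h' : xpow (xpow x a) a⁻¹ ∈ Subgroup.zpowers (xpow x a) :=
        Subgroup.npow_mem_zpowers _ _
      rwa [h] at h'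
    rw [heq] at hg ⊢
    refine D.normalizes g ?_
    have h : xpow (xpow x a) a⁻¹ = x := by rw [xpow_xpow D, mul_inv_cancel₀ ha, xpow_one]
    have h' := (Subgroup.zpowers x).pow_mem hg (a⁻¹ : ZMod p).val
    rwa [conj_pow, show xpow x a ^ (a⁻¹ : ZMod p).val = xpow (xpow x a) a⁻¹ from rfl, h] at h'

/-- The virtual characters attached to the non-trivial linear characters of `⟨x⟩`. -/
noncomputable def al (b : (ZMod p)ˣ) : G → ℂ :=
  (shift D (Units.ne_zero b⁻¹)).alpha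

theorem al_xpow (h2 : p ≠ 2) (b : (ZMod p)ˣ) (m : ZMod p) :
    al D b (xpow x m) = psi ((b : ZMod p) * m) + psi (-((b : ZMod p) * m)) := by
  have h := (shift D (Units.ne_zero b⁻¹)).alpha_xpow h2 ((b : ZMod p) * m)
  rw [xpow_xpow D, ← mul_assoc, Units.inv_mul, one_mul] at h
  exact h

theorem al_isClassFunction (b : (ZMod p)ˣ) : Cfsg.IsClassFunction G (al D b) :=
  isClassFunction_indFun _ _

theorem al_one (h2 : p ≠ 2) (b : (ZMod p)ˣ) : al D b 1 = 0 :=
  (shift D (Units.ne_zero b⁻¹)).alpha_one h2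

theorem classInner_al (b : (ZMod p)ˣ) {χ : G → ℂ} (hχ : Cfsg.IsClassFunction G χ) :
    Cfsg.classInner (al D b) χ =
      (p : ℂ)⁻¹ * ∑ m : ZMod p, psi m * conj (χ (xpow x (((b⁻¹ : (ZMod p)ˣ) : ZMod p) * m))) := by
  have D' := shift D (Units.ne_zero b⁻¹)
  have h := classInner_indFun_onPow D'.pow_p D'.x_ne (psi (p := p)) hχ
  simp only [xpow_xpow D] at h
  exact h

theorem classInner_al_one (b : (ZMod p)ˣ) :
    Cfsg.classInner (al D b) (fun _ => 1) = 1 := by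
  rw [classInner_al D b (IsCharacter.isClassFunction isCharacter_one)]
  simp only [map_one, mul_one]
  rw [sum_psi, inv_mul_cancel₀ (Nat.cast_ne_zero.2 hp.out.ne_zero)]

/-- The inner product with a character is `n₀ - n_b` for its coefficients on `⟨x⟩`. -/
theorem classInner_al_coeff (b : (ZMod p)ˣ) {χ : G → ℂ} (hχ : Cfsg.IsClassFunction G χ)
    {n : ZMod p → ℕ} (hn : ∀ m, χ (xpow x m) = ∑ j, (n j : ℂ) * ec (j * m)) :
    Cfsg.classInner (al D b) χ = (n 0 : ℂ) - n (b : ZMod p) := by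
  classical
  have hp0 : (p : ℂ) ≠ 0 := Nat.cast_ne_zero.2 hp.out.ne_zero
  rw [classInner_al D b hχ]
  set bi : ZMod p := ((b⁻¹ : (ZMod p)ˣ) : ZMod p) with hbi
  have hbb : bi * (b : ZMod p) = 1 := Units.inv_mul b
  have h1 : ∀ j : ZMod p, ∑ m : ZMod p, psi m * ec (-(j * (bi * m))) =
      (if j = 0 then (p : ℂ) else 0) - if j = b then (p : ℂ) else 0 := by
    intro j
    have h : ∀ m : ZMod p, psi m * ec (-(j * (bi * m))) =
        ec (m * -(j * bi)) - ec (m * (1 - j * bi)) := fun m => by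
      rw [psi, sub_mul, one_mul, ← AddChar.map_add_eq_mul]
      congr 2 <;> ring
    rw [Finset.sum_congr rfl fun m _ => h m, Finset.sum_sub_distrib, sum_ec_mul, sum_ec_mul]
    congr 1
    · refine if_congr ?_ rfl rfl
      rw [neg_eq_zero, hbi, Units.mul_left_eq_zero]
    · refine if_congr ?_ rfl rfl
      rw [sub_eq_zero]
      constructor
      · intro h
        linear_combination (-(b : ZMod p)) * h - j * hbb
      · intro h
        rw [h, mul_comm, hbb]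
  have h2 : ∀ m : ZMod p, psi m * conj (χ (xpow x (bi * m))) =
      ∑ j, (n j : ℂ) * (psi m * ec (-(j * (bi * m)))) := fun m => by
    simp only [hn, map_sum, map_mul, Complex.conj_natCast, conj_ec, Finset.mul_sum]
    exact Finset.sum_congr rfl fun j _ => by ring
  rw [Finset.sum_congr rfl fun m _ => h2 m, Finset.sum_comm]
  simp only [← Finset.mul_sum, h1, mul_sub, mul_ite, mul_zero, Finset.sum_sub_distrib,
    Finset.sum_ite_eq', Finset.mem_univ, if_true]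
  field_simp

theorem exists_int_classInner_al (b : (ZMod p)ˣ) {χ : G → ℂ} (hχ : Cfsg.IsCharacter G χ) :
    ∃ c : ℤ, Cfsg.classInner (al D b) χ = c := by
  obtain ⟨n, hn⟩ := exists_coeff D.pow_p hχ
  exact ⟨(n 0 : ℤ) - n (b : ZMod p), by
    rw [classInner_al_coeff D b (IsCharacter.isClassFunction hχ) hn]; push_cast; rfl⟩

/-- A character with constant inner products is constant on the non-trivial powers of `x`. -/
theorem apply_xpow_of_classInner {χ : G → ℂ} (hχ : Cfsg.IsCharacter G χ) {c : ℤ}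
    (hc : ∀ b, Cfsg.classInner (al D b) χ = c) :
    (∀ m : ZMod p, m ≠ 0 → χ (xpow x m) = c) ∧ ∃ n : ℕ, χ 1 = (p : ℂ) * n - ((p : ℂ) - 1) * c := by
  classical
  obtain ⟨n, hn⟩ := exists_coeff D.pow_p hχ
  have hb : ∀ b : (ZMod p)ˣ, (n (b : ZMod p) : ℂ) = (n 0 : ℂ) - c := fun b => by
    rw [← hc b, classInner_al_coeff D b (IsCharacter.isClassFunction hχ) hn]; ring
  constructor
  · intro m hm
    rw [hn m, sum_units_split, zero_mul, AddChar.map_zero_eq_one, mul_one]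
    simp only [hb]
    rw [← Finset.mul_sum, sum_ec_units hm]
    ring
  · refine ⟨n 0, ?_⟩
    have h := hn 0
    rw [xpow_zero] at h
    rw [h, sum_units_split, zero_mul, AddChar.map_zero_eq_one, mul_one]
    simp only [mul_zero, AddChar.map_zero_eq_one, mul_one, hb, Finset.sum_const, Finset.card_univ,
      ZMod.card_units, nsmul_eq_mul, Nat.cast_pred hp.out.pos]
    ring

theorem classInner_al_al (h2 : p ≠ 2) (b b' : (ZMod p)ˣ) :
    Cfsg.classInner (al D b) (al D b') =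
      2 + (if b' = b then 1 else 0) + if b' = -b then 1 else 0 := by
  classical
  have hp0 : (p : ℂ) ≠ 0 := Nat.cast_ne_zero.2 hp.out.ne_zero
  rw [classInner_al D b (al_isClassFunction D b')]
  simp only [al_xpow D h2]
  set u : ZMod p := (b' : ZMod p) * (b⁻¹ : (ZMod p)ˣ) with hu
  have h : ∀ m : ZMod p, psi m *
      conj (psi ((b' : ZMod p) * (((b⁻¹ : (ZMod p)ˣ) : ZMod p) * m)) + psi (-((b' : ZMod p) * (((b⁻¹ : (ZMod p)ˣ) : ZMod p) * m)))) =
      2 - ec (m * -u) - ec (m * u) - 2 * ec (m * 1) + ec (m * (1 - u)) + ec (m * (1 + u)) := by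
    intro m
    rw [mul_one, ← mul_assoc, ← hu]
    simp only [psi, map_add, map_sub, map_one, conj_ec, neg_neg]
    rw [show ec (m * (1 - u)) = ec m * ec (-(u * m)) by
        rw [← AddChar.map_add_eq_mul]; congr 1; ring,
      show ec (m * (1 + u)) = ec m * ec (u * m) by
        rw [← AddChar.map_add_eq_mul]; congr 1; ring,
      show m * -u = -(u * m) by ring, show m * u = u * m by ring]
    ring
  have hu0 : u ≠ 0 := mul_ne_zero (Units.ne_zero _) (Units.ne_zero _)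
  rw [Finset.sum_congr rfl fun m _ => h m]
  simp only [Finset.sum_add_distrib, Finset.sum_sub_distrib, ← Finset.mul_sum, sum_ec_mul,
    if_neg (neg_ne_zero.2 hu0), if_neg hu0, if_neg (one_ne_zero (α := ZMod p)), Finset.sum_const,
    Finset.card_univ, ZMod.card, nsmul_eq_mul]
  have e1 : (1 - u = 0) ↔ b' = b := by
    rw [sub_eq_zero, eq_comm, hu, Units.mul_inv_eq_iff_eq_mul, one_mul, Units.val_inj]
  have e2 : (1 + u = 0) ↔ b' = -b := by
    rw [add_eq_zero_iff_eq_neg', hu, Units.mul_inv_eq_iff_eq_mul, neg_one_mul,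
      ← Units.val_neg, Units.val_inj]
  simp only [e1, e2]
  split_ifs <;> field_simp <;> ring

theorem al_neg (h2 : p ≠ 2) (b : (ZMod p)ˣ) : al D (-b) = al D b := by
  classical
  have hne : -b ≠ b := fun h => by
    have h' := congrArg (fun u : (ZMod p)ˣ => (u : ZMod p)) h
    rw [Units.val_neg] at h'
    exact D.two_ne h2 _ (Units.ne_zero b) h'.symm
  refine sub_eq_zero.1 (classInner_self_eq_zero ?_)
  simp only [classInner_sub_left, classInner_sub_right, classInner_al_al D h2, neg_neg,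
    if_neg hne, if_neg hne.symm, if_true]
  ring

/-- The star: one common constituent of all the virtual characters. -/
theorem star (h3 : 3 < p) : ∃ (χ₀ : G → ℂ) (e : ℤ), Cfsg.IsIrrCharacter G χ₀ ∧
    χ₀ ≠ (fun _ => 1) ∧ (e = 1 ∨ e = -1) ∧ (∀ b, Cfsg.classInner (al D b) χ₀ = e) ∧
    ∀ b : (ZMod p)ˣ, ∃ (ψ : G → ℂ) (d : ℤ), Cfsg.IsIrrCharacter G ψ ∧ ψ ≠ (fun _ => 1) ∧
      ψ ≠ χ₀ ∧ (d = 1 ∨ d = -1) ∧ Cfsg.classInner (al D b) ψ = d ∧
      (∀ φ, Cfsg.IsIrrCharacter G φ → φ ≠ (fun _ => 1) → φ ≠ χ₀ → φ ≠ ψ →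
        Cfsg.classInner (al D b) φ = 0) ∧
      (e : ℂ) * χ₀ 1 + (d : ℂ) * ψ 1 = -1 ∧
      ∀ b', b' ≠ b → b' ≠ -b → Cfsg.classInner (al D b') ψ = 0 := by
  classical
  have h2 : p ≠ 2 := by omega
  let one : G → ℂ := fun _ => 1
  have hone : Cfsg.IsIrrCharacter G one := isIrrCharacter_one
  let I := (irrFinset G).erase one
  have hI : ∀ {φ}, φ ∈ I ↔ φ ≠ one ∧ Cfsg.IsIrrCharacter G φ := fun {φ} => by
    rw [Finset.mem_erase, mem_irrFinset]
  have hex : ∀ b φ, ∃ c : ℤ, φ ∈ irrFinset G → Cfsg.classInner (al D b) φ = c := fun b φ => by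
    by_cases h : φ ∈ irrFinset G
    · obtain ⟨c, hc⟩ := exists_int_classInner_al D b (IsIrrCharacter.isCharacter (mem_irrFinset.1 h))
      exact ⟨c, fun _ => hc⟩
    · exact ⟨0, fun h' => absurd h' h⟩
  choose c hc using hex
  have hcI : ∀ b φ, φ ∈ I → Cfsg.classInner (al D b) φ = c b φ := fun b φ h =>
    hc b φ (Finset.mem_of_mem_erase h)
  have hdot : ∀ b b', ∑ φ ∈ I, c b φ * c b' φ =
      1 + (if b' = b then 1 else 0) + if b' = -b then 1 else 0 := by
    intro b b'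
    have h := classInner_eq_sum_irr (al_isClassFunction D b) (al D b')
    rw [classInner_al_al D h2, ← Finset.add_sum_erase _ _ (mem_irrFinset.2 hone),
      classInner_al_one, classInner_al_one, map_one, mul_one,
      Finset.sum_congr rfl fun φ hφ => show Cfsg.classInner (al D b) φ *
        conj (Cfsg.classInner (al D b') φ) = ((c b φ * c b' φ : ℤ) : ℂ) by
          rw [hcI b φ hφ, hcI b' φ hφ, map_intCast, Int.cast_mul]] at h
    have h' : ((∑ φ ∈ I, c b φ * c b' φ : ℤ) : ℂ) =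
        ((1 + (if b' = b then 1 else 0) + if b' = -b then 1 else 0 : ℤ) : ℂ) := by
      push_cast at h ⊢
      linear_combination -h
    exact_mod_cast h'
  have hdeg : ∀ b, ∑ φ ∈ I, (c b φ : ℂ) * φ 1 = -1 := by
    intro b
    have h := congrFun (eq_sum_irr (al_isClassFunction D b)) 1
    rw [al_one D h2, Finset.sum_apply, ← Finset.add_sum_erase _ _ (mem_irrFinset.2 hone)] at h
    simp only [Pi.smul_apply, smul_eq_mul] at h
    rw [classInner_al_one, Finset.sum_congr rfl fun φ hφ => by rw [hcI b φ hφ]] at h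
    linear_combination -h
  have hne : ∀ b : (ZMod p)ˣ, b ≠ -b := fun b h => by
    have h' := congrArg (fun u : (ZMod p)ˣ => (u : ZMod p)) h
    rw [Units.val_neg] at h'
    exact D.two_ne h2 _ (Units.ne_zero b) h'
  -- two constituents each
  have htwo : ∀ b, ∃ χ ψ, χ ≠ ψ ∧ χ ∈ I ∧ ψ ∈ I ∧ (c b χ = 1 ∨ c b χ = -1) ∧
      (c b ψ = 1 ∨ c b ψ = -1) ∧ (∀ φ ∈ I, φ ≠ χ → φ ≠ ψ → c b φ = 0) ∧
      ∀ f : (G → ℂ) → ℂ, ∑ φ ∈ I, (c b φ : ℂ) * f φ = c b χ * f χ + c b ψ * f ψ := by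
    intro b
    have hsq := hdot b b
    rw [if_pos rfl, if_neg (hne b), add_zero] at hsq
    have hle : ∀ φ ∈ I, c b φ * c b φ ≤ 2 := fun φ hφ =>
      le_of_le_of_eq (Finset.single_le_sum (f := fun φ => c b φ * c b φ) (fun _ _ => mul_self_nonneg _) hφ) (by rw [hsq]; norm_num)
    have hval : ∀ φ ∈ I, c b φ ≠ 0 → (c b φ = 1 ∨ c b φ = -1) := fun φ hφ h0 => by
      have h := hle φ hφ
      have h1 : -2 < c b φ := by nlinarith
      have h2 : c b φ < 2 := by nlinarith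
      omega
    let S := I.filter fun φ => c b φ ≠ 0
    have hS : S.card = 2 := by
      have : ∑ φ ∈ S, c b φ * c b φ = (S.card : ℤ) := by
        rw [Finset.card_eq_sum_ones, Nat.cast_sum]
        refine Finset.sum_congr rfl fun φ hφ => ?_
        obtain ⟨hφ, h0⟩ := Finset.mem_filter.1 hφ
        rcases hval φ hφ h0 with h | h <;> simp [h]
      rw [Finset.sum_filter_of_ne (p := fun φ => c b φ ≠ 0) (fun φ _ h h0 => h (by rw [h0, zero_mul])), hsq] at this
      omega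
    obtain ⟨χ, ψ, hne', hSeq⟩ := Finset.card_eq_two.1 hS
    have hχ := Finset.mem_filter.1 (show χ ∈ S by rw [hSeq]; simp)
    have hψ := Finset.mem_filter.1 (show ψ ∈ S by rw [hSeq]; simp)
    refine ⟨χ, ψ, hne', hχ.1, hψ.1, hval _ hχ.1 hχ.2, hval _ hψ.1 hψ.2, fun φ hφ h1 h2 => ?_,
      fun f => ?_⟩
    · by_contra h0
      have : φ ∈ S := Finset.mem_filter.2 ⟨hφ, h0⟩
      rw [hSeq] at this
      simp [h1, h2] at this
    · rw [← Finset.sum_filter_of_ne (p := fun φ => c b φ ≠ 0) (fun φ _ h h0 => h (by simp [h0])),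
        show (I.filter fun φ => c b φ ≠ 0) = {χ, ψ} from hSeq, Finset.sum_pair hne']
  -- two members with different classes share exactly one constituent
  have hshare : ∀ b b' χ ψ, b' ≠ b → b' ≠ -b → χ ≠ ψ → χ ∈ I → ψ ∈ I →
      (c b χ = 1 ∨ c b χ = -1) → (c b ψ = 1 ∨ c b ψ = -1) →
      (∀ φ ∈ I, φ ≠ χ → φ ≠ ψ → c b φ = 0) →
      (c b' χ = c b χ ∧ c b' ψ = 0) ∨ (c b' ψ = c b ψ ∧ c b' χ = 0) := by
    intro b b' χ ψ h1 h2' hne' hχ hψ hcχ hcψ hzero
    have h := hdot b b'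
    rw [if_neg h1, if_neg h2', add_zero, add_zero,
      Finset.sum_eq_add χ ψ hne' (fun φ hφ hh => by rw [hzero φ hφ hh.1 hh.2, zero_mul])
        (fun h => absurd hχ h) (fun h => absurd hψ h)] at h
    have hbd : ∀ φ ∈ I, -1 ≤ c b' φ ∧ c b' φ ≤ 1 := fun φ hφ => by
      obtain ⟨χ', ψ', -, -, -, h1', h2'', hz', -⟩ := htwo b'
      by_cases e1 : φ = χ'
      · subst e1; omega
      by_cases e2 : φ = ψ'
      · subst e2; omega
      rw [hz' φ hφ e1 e2]; norm_num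
    have hb1 := hbd χ hχ
    have hb2 := hbd ψ hψ
    rcases hcχ with e1 | e1 <;> rcases hcψ with e2 | e2 <;> rw [e1, e2] at h ⊢ <;> omega
  -- a second class
  obtain ⟨a, ha1, ha2⟩ : ∃ a : (ZMod p)ˣ, a ≠ 1 ∧ a ≠ -1 := by
    have h : ∀ k : ℕ, 0 < k → k < p → (k : ZMod p) ≠ 0 := fun k h0 h1 h =>
      absurd (Nat.le_of_dvd h0 ((ZMod.natCast_eq_zero_iff k p).1 h)) (by omega)
    refine ⟨Units.mk0 2 (by exact_mod_cast h 2 (by omega) (by omega)), fun e => ?_, fun e => ?_⟩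
    · have e' : (2 : ZMod p) = 1 := congrArg (fun u : (ZMod p)ˣ => (u : ZMod p)) e
      exact one_ne_zero (α := ZMod p) (by linear_combination e')
    · have e' : (2 : ZMod p) = -1 := by
        have := congrArg (fun u : (ZMod p)ˣ => (u : ZMod p)) e
        simpa using this
      exact h 3 (by omega) h3 (by push_cast; linear_combination e')
  obtain ⟨χ, ψ, hne1, hχ, hψ, hcχ, hcψ, hz, hsum⟩ := htwo 1
  -- order the pair so that the first is shared with `a`
  obtain ⟨χ₀, ψ₁, hne0, hχ₀, hψ₁, hc0, hc1, hz1, hsum1, hat, hat'⟩ :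
      ∃ χ₀ ψ₁, χ₀ ≠ ψ₁ ∧ χ₀ ∈ I ∧ ψ₁ ∈ I ∧ (c 1 χ₀ = 1 ∨ c 1 χ₀ = -1) ∧
        (c 1 ψ₁ = 1 ∨ c 1 ψ₁ = -1) ∧ (∀ φ ∈ I, φ ≠ χ₀ → φ ≠ ψ₁ → c 1 φ = 0) ∧
        (∀ f : (G → ℂ) → ℂ, ∑ φ ∈ I, (c 1 φ : ℂ) * f φ = c 1 χ₀ * f χ₀ + c 1 ψ₁ * f ψ₁) ∧
        c a χ₀ = c 1 χ₀ ∧ c a ψ₁ = 0 := by
    rcases hshare 1 a χ ψ ha1 ha2 hne1 hχ hψ hcχ hcψ hz with h | h
    · exact ⟨χ, ψ, hne1, hχ, hψ, hcχ, hcψ, hz, hsum, h.1, h.2⟩
    · exact ⟨ψ, χ, Ne.symm hne1, hψ, hχ, hcψ, hcχ, fun φ hφ h1 h2 => hz φ hφ h2 h1,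
        fun f => by rw [hsum f, add_comm], h.1, h.2⟩
  have hnegc : ∀ b φ, φ ∈ I → c (-b) φ = c b φ := fun b φ hφ => by
    have h := hcI (-b) φ hφ
    rw [al_neg D h2 b, hcI b φ hφ] at h
    exact_mod_cast h.symm
  have hall : ∀ b, c b χ₀ = c 1 χ₀ := by
    intro b
    by_cases e1 : b = 1
    · rw [e1]
    by_cases e2 : b = -1
    · rw [e2, hnegc 1 χ₀ hχ₀]
    rcases hshare 1 b χ₀ ψ₁ e1 e2 hne0 hχ₀ hψ₁ hc0 hc1 hz1 with h | ⟨hbψ, hbχ⟩
    · exact h.1
    exfalso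
    have hba1 : b ≠ a := fun e => by
      rw [e, hat'] at hbψ; omega
    have hba2 : b ≠ -a := fun e => by
      rw [e, hnegc a ψ₁ hψ₁, hat'] at hbψ; omega
    -- the partners of `χ₀` in `a` and of `ψ₁` in `b` coincide
    obtain ⟨u, v, huv, hu, hv, hcu, hcv, hza, hsuma⟩ := htwo a
    obtain ⟨w, hw, hwne, hcw, hsa⟩ : ∃ w ∈ I, w ≠ χ₀ ∧ (c a w = 1 ∨ c a w = -1) ∧
        (∀ φ ∈ I, φ ≠ χ₀ → φ ≠ w → c a φ = 0) := by
      have hmem : χ₀ = u ∨ χ₀ = v := by
        by_contra hcon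
        push Not at hcon
        have := hza χ₀ hχ₀ hcon.1 hcon.2
        omega
      rcases hmem with e | e
      · exact ⟨v, hv, e ▸ Ne.symm huv, hcv, fun φ hφ h1 h2 => hza φ hφ (e ▸ h1) h2⟩
      · exact ⟨u, hu, e ▸ huv, hcu, fun φ hφ h1 h2 => hza φ hφ h2 (e ▸ h1)⟩
    rcases hshare a b χ₀ w hba1 hba2 (Ne.symm hwne) hχ₀ hw (hat ▸ hc0) hcw hsa with h | h
    · rw [hbχ, hat] at h; omega
    -- degrees
    have hwψ : w ≠ ψ₁ := fun e => by rw [e, hat'] at hcw; omega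
    have d1 := hdeg 1
    rw [hsum1] at d1
    have hsum2 : ∀ b' φ₁ φ₂, φ₁ ∈ I → φ₂ ∈ I → φ₁ ≠ φ₂ → c b' φ₁ ≠ 0 → c b' φ₂ ≠ 0 →
        (c b' φ₁ : ℂ) * φ₁ 1 + c b' φ₂ * φ₂ 1 = -1 := by
      intro b' φ₁ φ₂ m1 m2 hd n1 n2
      obtain ⟨u', v', -, -, -, -, -, hz', hs'⟩ := htwo b'
      have d := hdeg b'
      rw [hs'] at d
      have e1' : φ₁ = u' ∨ φ₁ = v' := by
        by_contra hcon
        push Not at hcon
        exact n1 (hz' φ₁ m1 hcon.1 hcon.2)
      have e2' : φ₂ = u' ∨ φ₂ = v' := by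
        by_contra hcon
        push Not at hcon
        exact n2 (hz' φ₂ m2 hcon.1 hcon.2)
      rcases e1' with rfl | rfl <;> rcases e2' with rfl | rfl
      · exact absurd rfl hd
      · exact d
      · linear_combination d
      · exact absurd rfl hd
    have d2 := hsum2 a χ₀ w hχ₀ hw (Ne.symm hwne) (by omega) (by omega)
    have d3 := hsum2 b ψ₁ w hψ₁ hw (Ne.symm hwψ) (by omega) (by omega)
    rw [hat] at d2
    rw [hbψ, h.1] at d3
    obtain ⟨n, -, hn⟩ := IsIrrCharacter.exists_degree (hI.1 hw).2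
    have hz' : ((2 * (c a w * n) : ℤ) : ℂ) = ((-1 : ℤ) : ℂ) := by
      push_cast
      rw [← hn]
      linear_combination d2 + d3 - d1
    have : (2 * (c a w * n) : ℤ) = -1 := by exact_mod_cast hz'
    omega
  refine ⟨χ₀, c 1 χ₀, (hI.1 hχ₀).2, (hI.1 hχ₀).1, hc0, fun b => ?_, fun b => ?_⟩
  · rw [hcI b χ₀ hχ₀, hall b]
  obtain ⟨u, v, huv, hu, hv, hcu, hcv, hzb, hsumb⟩ := htwo b
  obtain ⟨w, hw, hwne, hcw, hsb, hsumw⟩ : ∃ w ∈ I, w ≠ χ₀ ∧ (c b w = 1 ∨ c b w = -1) ∧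
      (∀ φ ∈ I, φ ≠ χ₀ → φ ≠ w → c b φ = 0) ∧
      ∀ f : (G → ℂ) → ℂ, ∑ φ ∈ I, (c b φ : ℂ) * f φ = c b χ₀ * f χ₀ + c b w * f w := by
    have hmem : χ₀ = u ∨ χ₀ = v := by
      by_contra hcon
      push Not at hcon
      have := hzb χ₀ hχ₀ hcon.1 hcon.2
      rw [hall b] at this
      omega
    rcases hmem with e | e
    · exact ⟨v, hv, e ▸ Ne.symm huv, hcv, fun φ hφ h1 h2 => hzb φ hφ (e ▸ h1) h2,
        fun f => e ▸ hsumb f⟩
    · exact ⟨u, hu, e ▸ huv, hcu, fun φ hφ h1 h2 => hzb φ hφ h2 (e ▸ h1),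
        fun f => by rw [hsumb f, e, add_comm]⟩
  have d := hdeg b
  rw [hsumw, hall b] at d
  refine ⟨w, c b w, (hI.1 hw).2, (hI.1 hw).1, hwne, hcw, hcI b w hw, fun φ hφ h1 h2 h3' => ?_, d,
    fun b' h1 h2' => ?_⟩
  · rw [hcI b φ (hI.2 ⟨h1, hφ⟩), hsb φ (hI.2 ⟨h1, hφ⟩) h2 h3', Int.cast_zero]
  · rw [hcI b' w hw]
    rcases hshare b b' χ₀ w h1 h2' (Ne.symm hwne) hχ₀ hw (by rw [hall b]; exact hc0) hcw hsb with
      h | h
    · rw [h.2, Int.cast_zero]
    · rw [hall b'] at h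
      omega

end CfsgLib.Deg3P
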