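/-
Simple groups of degree `3 p` with Sylow normaliser of order `2 p`: first facts and the
distinguished constituent of the permutation character.
-/
import Cfsg.Agent.Deg3P.Star
import Cfsg.Agent.Perm.CentralizerRing
import Cfsg.Agent.Char.PowTwist
import Cfsg.Agent.Char.Galois
import Cfsg.Agent.Char.Kernel
import Cfsg.Agent.S0713
import Cfsg.Agent.Char.CoprimeComplement
import Mathlib.GroupTheory.Perm.Cycle.Concrete
import Mathlib.GroupTheory.Perm.Sign
import Mathlib.GroupTheory.Sylow

set_option autoImplicit false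
set_option linter.style.haveILetI false
set_option linter.unusedSectionVars false

namespace CfsgLib.Deg3P

open MulAction CfsgLib.Char CfsgLib.TwoPrime CfsgLib.CentralizerRing
open scoped ComplexConjugate

universe u v

variable {G : Type u} [Group G] [Finite G]

/-- The standing hypotheses. -/
structure Data (p : ℕ) [Fact p.Prime] (G : Type u) [Group G] (Ω : Type v) [MulAction G Ω]
    [Fintype Ω] (x t : G) : Prop where
  h3 : 3 < p
  card : Fintype.card Ω = 3 * p
  dih : Dih p x t
  nc : ¬ IsMulCommutative G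
  fact : (Nat.card G).factorization p = 1
  sylow : ∃ k, Nat.card G = 2 * p * (p * k + 1)
  fpf : ∀ m : ZMod p, m ≠ 0 → ∀ z : Ω, xpow x m • z ≠ z

section Simple

variable [IsSimpleGroup G]

theorem eq_top_of_ne_bot {N : Subgroup G} (hN : N.Normal) (h : N ≠ ⊥) : N = ⊤ :=
  (IsSimpleGroup.eq_bot_or_eq_top_of_normal N hN).resolve_left h

theorem hom_trivial (hnc : ¬ IsMulCommutative G) {H : Type*} [CommGroup H] (f : G →* H) (g : G) :
    f g = 1 := by
  rcases IsSimpleGroup.eq_bot_or_eq_top_of_normal f.ker inferInstance with h | h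
  · exfalso
    exact hnc ⟨⟨fun a b => (MonoidHom.ker_eq_bot_iff f).1 h (by rw [map_mul, map_mul, mul_comm])⟩⟩
  · exact MonoidHom.mem_ker.1 (h ▸ Subgroup.mem_top g)

theorem eq_one_of_degree_one (hnc : ¬ IsMulCommutative G) {χ : G → ℂ}
    (hχ : Cfsg.IsCharacter G χ) (h1 : χ 1 = 1) : χ = fun _ => 1 := by
  obtain ⟨lam, rfl⟩ := IsCharacter.exists_hom hχ h1
  funext g
  rw [hom_trivial hnc lam g, Units.val_one]

theorem sign_eq_one (hnc : ¬ IsMulCommutative G) {Ω : Type v} [MulAction G Ω] [Fintype Ω]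
    [DecidableEq Ω] (g : G) : Equiv.Perm.sign (MulAction.toPerm g : Equiv.Perm Ω) = 1 :=
  hom_trivial hnc (Equiv.Perm.sign.comp (MulAction.toPermHom G Ω)) g

end Simple

variable {p : ℕ} [hp : Fact p.Prime]
variable {Ω : Type v} [MulAction G Ω] [Fintype Ω] {x t : G}

theorem Data.ne_two (d : Data p G Ω x t) : p ≠ 2 := by have := d.h3; omega

theorem Data.even (d : Data p G Ω x t) : 2 ∣ Nat.card G := by
  obtain ⟨k, hk⟩ := d.sylow
  exact hk ▸ ((dvd_mul_right 2 p).mul_right _)

theorem Data.pi_xpow (d : Data p G Ω x t) {m : ZMod p} (hm : m ≠ 0) : pi G Ω (xpow x m) = 0 := by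
  have : fixedBy Ω (xpow x m) = ∅ :=
    Set.eq_empty_iff_forall_notMem.2 fun z hz => d.fpf m hm z hz
  rw [pi, this]; simp

section Cycle

variable [IsSimpleGroup G] [FaithfulSMul G Ω] [IsPreprimitive G Ω]

/-- No element induces a short cycle of prime length. -/
theorem Data.no_cycle [DecidableEq Ω] (d : Data p G Ω x t) {r : ℕ} (hr : r.Prime)
    (hrn : r + 3 ≤ 3 * p) {σ : Equiv.Perm Ω} (hσ : σ.IsCycle) (hσc : σ.support.card = r)
    (hmem : σ ∈ (MulAction.toPermHom G Ω).range) : False := by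
  classical
  set H := (MulAction.toPermHom G Ω).range with hH
  haveI : IsPreprimitive H Ω := by
    let f : Ω →ₑ[(MulAction.toPermHom G Ω).rangeRestrict] Ω :=
      { toFun := id, map_smul' := fun _ _ => rfl }
    exact IsPreprimitive.of_surjective (f := f) Function.surjective_id
  have hle := Cfsg.Agent.S0713.result H ‹_› hr (by rw [d.card]; have := d.h3; omega)
    (by rw [d.card]; exact hrn) hσ hσc hmem
  have h1 := Subgroup.card_dvd_of_le hle
  have h2 : Nat.card H = Nat.card G := Nat.card_congr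
    (MonoidHom.ofInjective (f := MulAction.toPermHom G Ω) MulAction.toPerm_injective).symm.toEquiv
  rw [h2] at h1
  haveI : Nontrivial Ω := Fintype.one_lt_card_iff_nontrivial.1 (by rw [d.card]; have := d.h3; omega)
  have h3 := two_mul_card_alternatingGroup (α := Ω)
  have hpp : p * p ∣ Nat.card G := by
    refine dvd_trans ?_ h1
    have h4 : p * p ∣ (3 * p).factorial := by
      have h5 := Nat.factorial_dvd_factorial (show 2 * p ≤ 3 * p by omega)
      refine dvd_trans ?_ h5
      have h6 : p * p * p.factorial ∣ (2 * p).factorial * p := by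
        have := Nat.factorial_mul_factorial_dvd_factorial_add p p
        rw [← two_mul] at this
        have hdp : p ∣ p.factorial := Nat.dvd_factorial hp.out.pos le_rfl
        calc p * p * p.factorial ∣ p * (p.factorial * p.factorial) := by
              obtain ⟨c, hc⟩ := hdp
              exact ⟨c, by rw [hc]; ring⟩
          _ ∣ p * (2 * p).factorial := Nat.mul_dvd_mul_left _ this
          _ = (2 * p).factorial * p := mul_comm _ _
      obtain ⟨c, hc⟩ := Nat.dvd_factorial hp.out.pos (le_refl p)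
      refine Nat.dvd_of_mul_dvd_mul_right hp.out.pos (dvd_trans ?_ h6)
      exact ⟨c, by rw [hc]; ring⟩
    rw [← d.card, ← Fintype.card_perm, ← h3, ← Nat.card_eq_fintype_card] at h4
    exact (Nat.Coprime.dvd_of_dvd_mul_left
      (Nat.Coprime.mul_left ((Nat.coprime_primes hp.out Nat.prime_two).2 d.ne_two)
        ((Nat.coprime_primes hp.out Nat.prime_two).2 d.ne_two)) h4)
  have h7 := (hp.out.pow_dvd_iff_le_factorization Nat.card_pos.ne').1 (by rwa [sq] : p ^ 2 ∣ Nat.card G)
  rw [d.fact] at h7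
  omega

/-- No Sylow `r`-subgroup of the symmetric group lies in the image, for small `r`. -/
theorem Data.not_full_sylow (d : Data p G Ω x t) {r : ℕ} (hr : r.Prime) (hrn : r + 3 ≤ 3 * p) :
    (Nat.card G).factorization r ≠ ((3 * p).factorial).factorization r := by
  classical
  haveI := Fact.mk hr
  intro heq
  obtain ⟨Q⟩ : Nonempty (Sylow r G) := inferInstance
  let f := MulAction.toPermHom G Ω
  have hf : Function.Injective f := MulAction.toPerm_injective
  let Q' : Subgroup (Equiv.Perm Ω) := (Q : Subgroup G).map f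
  have hQ' : Nat.card Q' = r ^ (Nat.card (Equiv.Perm Ω)).factorization r := by
    rw [← Nat.card_congr ((Q : Subgroup G).equivMapOfInjective f hf).toEquiv, Q.card_eq_multiplicity,
      heq, Nat.card_eq_fintype_card (α := Equiv.Perm Ω), Fintype.card_perm, d.card]
  let S : Sylow r (Equiv.Perm Ω) := Sylow.ofCard Q' hQ'
  obtain ⟨s, -, hs⟩ := Finset.exists_subset_card_eq (s := (Finset.univ : Finset Ω)) (n := r)
    (by rw [Finset.card_univ, d.card]; omega)
  set σ := s.toList.formPerm with hσ
  have hnd := s.nodup_toList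
  have hlen : 2 ≤ s.toList.length := by rw [Finset.length_toList, hs]; exact hr.two_le
  have hcyc : σ.IsCycle := List.isCycle_formPerm hnd hlen
  have hsupp : σ.support = s := by
    rw [hσ, List.support_formPerm_of_nodup _ hnd fun y hy => by simp [hy] at hlen,
      Finset.toList_toFinset]
  have ho : orderOf σ = r := by rw [hcyc.orderOf, hsupp, hs]
  obtain ⟨R, hR⟩ := (IsPGroup.of_card (n := 1) (G := Subgroup.zpowers σ)
    (by rw [pow_one, Nat.card_zpowers, ho])).exists_le_sylow
  obtain ⟨c, hc⟩ := MulAction.exists_smul_eq (Equiv.Perm Ω) R S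
  have hmem : c * σ * c⁻¹ ∈ (S : Subgroup (Equiv.Perm Ω)) := by
    rw [← hc]
    exact Subgroup.smul_mem_pointwise_smul _ (MulAut.conj c) _ (hR (Subgroup.mem_zpowers _))
  obtain ⟨q, -, hq⟩ := Subgroup.mem_map.1 (show c * σ * c⁻¹ ∈ Q' from hmem)
  exact d.no_cycle hr hrn (hcyc.conj (g := c))
    (by rw [Equiv.Perm.card_support_conj, hsupp, hs]) ⟨q, hq⟩

end Cycle

section Theta

variable [IsSimpleGroup G]

/-- The distinguished constituent. -/
structure Theta (p : ℕ) [Fact p.Prime] (G : Type u) [Group G] [Fintype G] (Ω : Type v)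
    [MulAction G Ω] [Fintype Ω] (x : G) (θ : G → ℂ) (k f : ℕ) : Prop where
  irr : Cfsg.IsIrrCharacter G θ
  ne_one : θ ≠ fun _ => 1
  deg : θ 1 = f
  f_eq : f + 1 = k * p
  k_mem : k = 1 ∨ k = 2 ∨ k = 3
  val : ∀ m : ZMod p, m ≠ 0 → θ (xpow x m) = -1
  int : ∀ g, ∃ z : ℤ, θ g = z
  mult : k ≠ 1 ∨ 5 < p → Cfsg.classInner (pi G Ω) θ = 1 ∧
    ∀ φ, Cfsg.IsIrrCharacter G φ → φ ≠ (fun _ => 1) → φ ≠ θ →
      Cfsg.classInner (pi G Ω) φ ≠ 0 → ∀ m : ZMod p, m ≠ 0 → φ (xpow x m) = 0

theorem Data.classInner_al_pi [Fintype G] (d : Data p G Ω x t) (b : (ZMod p)ˣ) :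
    Cfsg.classInner (al d.dih b) (pi G Ω) = 0 := by
  rw [classInner_al d.dih b (IsCharacter.isClassFunction isCharacter_pi), Finset.sum_eq_zero,
    mul_zero]
  intro m _
  rcases eq_or_ne m 0 with rfl | hm
  · simp only [psi, AddChar.map_zero_eq_one, sub_self, zero_mul]
  · rw [d.pi_xpow (mul_ne_zero (Units.ne_zero _) hm), map_zero, mul_zero]

set_option maxHeartbeats 1600000 in
theorem Data.exists_theta [Fintype G] [IsPretransitive G Ω] (d : Data p G Ω x t) :
    (∃ θ k f, Theta p G Ω x θ k f) ∨ (p = 5 ∧ ∃ ψ₁ ψ₂ : G → ℂ, Cfsg.IsIrrCharacter G ψ₁ ∧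
      Cfsg.IsIrrCharacter G ψ₂ ∧ ψ₁ ≠ ψ₂ ∧ ψ₁ 1 = 7 ∧ ψ₂ 1 = 7 ∧
      pi G Ω = fun g => 1 + ψ₁ g + ψ₂ g) := by
  classical
  have h3 := d.h3
  have D := d.dih
  have hp0 : (p : ℂ) ≠ 0 := Nat.cast_ne_zero.2 hp.out.ne_zero
  let one : G → ℂ := fun _ => 1
  have hone : Cfsg.IsIrrCharacter G one := isIrrCharacter_one
  obtain ⟨χ, e, hχ, hχ1, he, hinn, hstar⟩ := star D h3
  obtain ⟨mlt, hmlt, hpi, -⟩ := exists_mult_fun (G := G) (Ω := Ω)
  choose ψ dd hψ hψ1 hψχ hdd hψinn hψzero hψdeg hψsep using hstar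
  let deg : (G → ℂ) → ℕ := fun φ => Cfsg.charDegree φ
  have hdeg : ∀ {φ}, Cfsg.IsIrrCharacter G φ → φ 1 = deg φ ∧ 0 < deg φ := fun {φ} hφ => by
    obtain ⟨n, hn, hn'⟩ := IsIrrCharacter.exists_degree hφ
    exact ⟨by rw [show deg φ = n from charDegree_eq_natCast hn', hn'],
      by rw [show deg φ = n from charDegree_eq_natCast hn']; omega⟩
  have hm1 : mlt one = 1 := by
    haveI : Subsingleton (orbitRel.Quotient G Ω) :=
      (pretransitive_iff_subsingleton_quotient G Ω).1 ‹_›
    haveI : Nonempty Ω := Fintype.card_pos_iff.1 (by rw [d.card]; omega)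
    haveI : Nonempty (orbitRel.Quotient G Ω) := ⟨Quotient.mk'' (Classical.arbitrary Ω)⟩
    have h := classInner_pi_one (G := G) (Ω := Ω)
    rw [hmlt one hone, Nat.card_of_subsingleton (Classical.arbitrary _)] at h
    exact_mod_cast h
  have htot : ∑ φ ∈ irrFinset G, mlt φ * deg φ = 3 * p := by
    have h := congrFun hpi 1
    rw [Finset.sum_apply, pi, show fixedBy Ω (1 : G) = Set.univ by simp [fixedBy],
      Nat.card_congr (Equiv.Set.univ Ω), Nat.card_eq_fintype_card, d.card] at h
    simp only [Pi.smul_apply, smul_eq_mul] at h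
    rw [Finset.sum_congr rfl fun φ hφ => by rw [(hdeg (mem_irrFinset.1 hφ)).1]] at h
    exact_mod_cast h.symm
  have hbound : ∀ T : Finset (G → ℂ), T ⊆ (irrFinset G).erase one →
      1 + ∑ φ ∈ T, mlt φ * deg φ ≤ 3 * p := by
    intro T hT
    rw [← htot, ← Finset.add_sum_erase _ _ (mem_irrFinset.2 hone)]
    have h1 : 1 ≤ mlt one * deg one := by
      rw [hm1, one_mul]; exact (hdeg hone).2
    exact Nat.add_le_add h1 (Finset.sum_le_sum_of_subset hT)
  have hmem : ∀ {φ}, Cfsg.IsIrrCharacter G φ → φ ≠ one → φ ∈ (irrFinset G).erase one :=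
    fun h1 h2 => Finset.mem_erase.2 ⟨h2, mem_irrFinset.2 h1⟩
  -- the relation from the permutation character
  have hrel : ∀ b, 1 + (mlt χ : ℤ) * e + (mlt (ψ b) : ℤ) * dd b = 0 := by
    intro b
    have h := d.classInner_al_pi b
    rw [hpi, classInner_sum_right] at h
    simp only [classInner_smul_right, Complex.conj_natCast] at h
    rw [← Finset.sum_subset (s₁ := {one, χ, ψ b}) (fun φ hφ => ?_) (fun φ hφ hn => ?_),
      Finset.sum_insert (by simp [Ne.symm hχ1, Ne.symm (hψ1 b)]; exact ⟨Ne.symm hχ1, Ne.symm (hψ1 b)⟩),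
      Finset.sum_pair (Ne.symm (hψχ b)), hm1, classInner_al_one D b, hinn b, hψinn b] at h
    · have h' : ((1 + (mlt χ : ℤ) * e + (mlt (ψ b) : ℤ) * dd b : ℤ) : ℂ) = ((0 : ℤ) : ℂ) := by
        push_cast at h ⊢
        linear_combination h
      exact_mod_cast h'
    · simp only [Finset.mem_insert, Finset.mem_singleton] at hφ
      rcases hφ with rfl | rfl | rfl
      exacts [mem_irrFinset.2 hone, mem_irrFinset.2 hχ, mem_irrFinset.2 (hψ b)]
    · simp only [Finset.mem_insert, Finset.mem_singleton, not_or] at hn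
      rw [hψzero b φ (mem_irrFinset.1 hφ) hn.1 hn.2.1 hn.2.2, mul_zero]
  have hψdeg' : ∀ b, (e : ℤ) * deg χ + dd b * deg (ψ b) = -1 := fun b => by
    have h := hψdeg b
    rw [(hdeg hχ).1, (hdeg (hψ b)).1] at h
    exact_mod_cast h
  obtain ⟨hχval, n, hn⟩ := apply_xpow_of_classInner D (IsIrrCharacter.isCharacter hχ) hinn
  have hn' : (deg χ : ℤ) = p * n - ((p : ℤ) - 1) * e := by
    rw [(hdeg hχ).1] at hn; exact_mod_cast hn
  -- classes of `b`
  have hcls : ∀ i j : ℕ, 0 < i → i < j → i + j < p →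
      ∀ hi : (i : ZMod p) ≠ 0, ∀ hj : (j : ZMod p) ≠ 0,
      ψ (Units.mk0 _ hi) ≠ ψ (Units.mk0 _ hj) := by
    intro i j hi hij hlt hi0 hj0 heq
    have hz : ∀ k : ℕ, 0 < k → k < p → (k : ZMod p) ≠ 0 := fun k h0 h1 h =>
      absurd (Nat.le_of_dvd h0 ((ZMod.natCast_eq_zero_iff k p).1 h)) (by omega)
    have h := hψsep (Units.mk0 _ hi0) (Units.mk0 _ hj0) (fun e' => ?_) (fun e' => ?_)
    · rw [heq, hψinn] at h
      rcases hdd (Units.mk0 _ hj0) with h' | h' <;> simp [h'] at h
    · have e'' : (j : ZMod p) = i := congrArg (fun u : (ZMod p)ˣ => (u : ZMod p)) e'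
      have := (ZMod.natCast_eq_natCast_iff' j i p).1 e''
      rw [Nat.mod_eq_of_lt (by omega), Nat.mod_eq_of_lt (by omega)] at this
      omega
    · have e'' : (j : ZMod p) = -(i : ZMod p) := by
        simpa using congrArg (fun u : (ZMod p)ˣ => (u : ZMod p)) e'
      exact hz (i + j) (by omega) hlt (by push_cast; linear_combination e'')
  have hnz : ∀ k : ℕ, 0 < k → k < p → (k : ZMod p) ≠ 0 := fun k h0 h1 h =>
    absurd (Nat.le_of_dvd h0 ((ZMod.natCast_eq_zero_iff k p).1 h)) (by omega)
  let b1 : (ZMod p)ˣ := Units.mk0 _ (hnz 1 (by omega) (by omega))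
  let b2 : (ZMod p)ˣ := Units.mk0 _ (hnz 2 (by omega) (by omega))
  have h12 : ψ b1 ≠ ψ b2 := hcls 1 2 (by omega) (by omega) (by omega) _ _
  by_cases hcase : e = -1 ∧ 1 ≤ mlt χ
  · obtain ⟨rfl, hm⟩ := hcase
    left
    -- the distinguished character
    have hf : deg χ + 1 = (n + 1) * p := by
      have : (deg χ : ℤ) + 1 = ((n : ℤ) + 1) * p := by rw [hn']; ring
      exact_mod_cast this
    have hb := hbound {χ} (Finset.singleton_subset_iff.2 (hmem hχ hχ1))
    rw [Finset.sum_singleton] at hb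
    have hb' : deg χ + 1 ≤ 3 * p := by nlinarith
    have hk3 : n + 1 ≤ 3 := Nat.le_of_mul_le_mul_right (hf ▸ hb') hp.out.pos
    have huniq : ∀ φ, Cfsg.IsIrrCharacter G φ → φ ≠ one →
        (∀ b, Cfsg.classInner (al D b) φ = ((-1 : ℤ) : ℂ)) → φ = χ := by
      intro φ hφ hφ1 hall
      by_contra hne
      have : ∀ b, φ = ψ b := fun b => by
        by_contra h
        have := hψzero b φ hφ hφ1 hne h
        rw [hall b] at this
        norm_num at this
      exact h12 ((this b1).symm.trans (this b2))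
    have hint : ∀ g, ∃ z : ℤ, χ g = z := fun g => by
      refine IsCharacter.exists_int_apply (IsIrrCharacter.isCharacter hχ) fun k hk => ?_
      have hirr := PowTwist.isIrrCharacter_pow hk hχ
      have hne : (fun g => χ (g ^ k)) ≠ one := fun h => by
        have := congrFun h 1
        simp only [one_pow, one] at this
        exact hχ1 (eq_one_of_degree_one d.nc (IsIrrCharacter.isCharacter hχ) this)
      have heq := huniq _ hirr hne fun b => by
        rw [classInner_al D b (IsIrrCharacter.isClassFunction hirr), ← hinn b,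
          classInner_al D b (IsIrrCharacter.isClassFunction hχ)]
        congr 1
        refine Finset.sum_congr rfl fun m _ => ?_
        rcases eq_or_ne m 0 with rfl | hm0
        · simp only [psi, AddChar.map_zero_eq_one, sub_self, zero_mul]
        have hkp : (k : ZMod p) ≠ 0 := fun h => by
          have h1 := (ZMod.natCast_eq_zero_iff k p).1 h
          have h2 : p ∣ Nat.card G := by
            obtain ⟨c, hc⟩ := d.sylow
            exact hc ▸ ((dvd_mul_left p 2).mul_right _)
          have := Nat.dvd_gcd h1 h2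
          rw [hk] at this
          exact hp.out.one_lt.ne' (Nat.dvd_one.1 this)
        rw [xpow_pow D.pow_p, hχval _ (mul_ne_zero hkp (mul_ne_zero (Units.ne_zero _) hm0)),
          hχval _ (mul_ne_zero (Units.ne_zero _) hm0)]
      exact congrFun heq g
    refine ⟨χ, n + 1, deg χ, hχ, hχ1, (hdeg hχ).1, hf, by omega, fun m hm0 => ?_, hint, ?_⟩
    · rw [hχval m hm0]; norm_num
    intro hcond
    have hm1' : mlt χ = 1 := by
      by_contra hne
      have h2 : 2 * deg χ + 1 ≤ 3 * p := by
        have := Nat.mul_le_mul_right (deg χ) (show 2 ≤ mlt χ by omega)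
        omega
      have hn0 : n = 0 := by
        by_contra hn0
        have : 2 * p ≤ (n + 1) * p := Nat.mul_le_mul_right p (by omega)
        omega
      subst hn0
      have hp7 : 5 < p := hcond.resolve_left (by simp)
      have hd : ∀ b, deg (ψ b) + 2 = p ∧ 1 ≤ mlt (ψ b) := fun b => by
        have h := hrel b
        have h' := hψdeg' b
        rcases hdd b with e' | e' <;> rw [e'] at h h'
        · simp only [Nat.cast_zero, mul_zero] at hn'
          constructor <;> omega
        · omega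
      let b3 : (ZMod p)ˣ := Units.mk0 _ (hnz 3 (by omega) (by omega))
      have h13 : ψ b1 ≠ ψ b3 := hcls 1 3 (by omega) (by omega) (by omega) _ _
      have h23 : ψ b2 ≠ ψ b3 := hcls 2 3 (by omega) (by omega) (by omega) _ _
      have hT := hbound {χ, ψ b1, ψ b2, ψ b3} (by
        simp only [Finset.insert_subset_iff, Finset.singleton_subset_iff]
        exact ⟨hmem hχ hχ1, hmem (hψ _) (hψ1 _), hmem (hψ _) (hψ1 _), hmem (hψ _) (hψ1 _)⟩)
      rw [Finset.sum_insert (by simp [Ne.symm (hψχ _)]), Finset.sum_insert (by simp [h12, h13]),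
        Finset.sum_pair h23] at hT
      have hle := fun b => Nat.mul_le_mul_right (deg (ψ b)) (hd b).2
      have hχle := Nat.mul_le_mul_right (deg χ) (show 2 ≤ mlt χ by omega)
      have e1 := hle b1
      have e2 := hle b2
      have e3 := hle b3
      have f1 := (hd b1).1
      have f2 := (hd b2).1
      have f3 := (hd b3).1
      omega
    refine ⟨by rw [hmlt χ hχ, hm1', Nat.cast_one], fun φ hφ hφ1 hne hin m hm0 => ?_⟩
    rw [hmlt φ hφ, Nat.cast_ne_zero] at hin
    have hz : ∀ b, Cfsg.classInner (al D b) φ = ((0 : ℤ) : ℂ) := fun b => by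
      by_cases h : φ = ψ b
      · exfalso
        have h' := hrel b
        rw [hm1', ← h] at h'
        rcases hdd b with e' | e' <;> rw [e'] at h' <;> omega
      · rw [hψzero b φ hφ hφ1 hne h, Int.cast_zero]
    rw [(apply_xpow_of_classInner D (IsIrrCharacter.isCharacter hφ) hz).1 m hm0, Int.cast_zero]
  · right
    have hb : ∀ b, dd b = -1 ∧ 1 ≤ mlt (ψ b) := fun b => by
      have h := hrel b
      rcases he with rfl | rfl <;> rcases hdd b with e' | e' <;> rw [e'] at h ⊢ <;>
        first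
        | exact ⟨rfl, by omega⟩
        | (exfalso; omega)
    have hd2 : ∀ b, 2 ≤ deg (ψ b) := fun b => by
      by_contra h
      have h1 : deg (ψ b) = 1 := by have := (hdeg (hψ b)).2; omega
      exact hψ1 b (eq_one_of_degree_one d.nc (IsIrrCharacter.isCharacter (hψ b))
        (by rw [(hdeg (hψ b)).1, h1, Nat.cast_one]))
    have he1 : e = 1 := by
      refine he.resolve_right fun e' => ?_
      have h := hψdeg' b1
      rw [e', (hb b1).1] at h
      have := hd2 b1
      omega
    subst he1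
    have hχd : 2 ≤ deg χ := by
      by_contra h
      have h1 : deg χ = 1 := by have := (hdeg hχ).2; omega
      exact hχ1 (eq_one_of_degree_one d.nc (IsIrrCharacter.isCharacter hχ)
        (by rw [(hdeg hχ).1, h1, Nat.cast_one]))
    have hn2 : 2 ≤ n := by
      by_contra h
      have : (p : ℤ) * n ≤ p := by
        calc (p : ℤ) * n ≤ p * 1 := by gcongr; exact_mod_cast (show n ≤ 1 by omega)
          _ = p := mul_one _
      omega
    have hpn : (2 : ℤ) * p ≤ p * n := by
      rw [mul_comm]; gcongr; exact_mod_cast hn2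
    have hdb : ∀ b, (deg (ψ b) : ℤ) = deg χ + 1 := fun b => by
      have h := hψdeg' b
      rw [(hb b).1] at h
      omega
    have e1 := hdb b1
    have e2 := hdb b2
    have hT := hbound {ψ b1, ψ b2} (by
      simp only [Finset.insert_subset_iff, Finset.singleton_subset_iff]
      exact ⟨hmem (hψ _) (hψ1 _), hmem (hψ _) (hψ1 _)⟩)
    rw [Finset.sum_pair h12] at hT
    have l1 := Nat.mul_le_mul_right (deg (ψ b1)) (hb b1).2
    have l2 := Nat.mul_le_mul_right (deg (ψ b2)) (hb b2).2
    have hp5 : p = 5 := by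
      by_contra hne
      have hp7 : 5 < p := by
        rcases Nat.lt_or_ge 5 p with h | h
        · exact h
        · exfalso
          interval_cases p
          all_goals first | omega | exact absurd hp.out (by decide)
      let b3 : (ZMod p)ˣ := Units.mk0 _ (hnz 3 (by omega) (by omega))
      have h13 : ψ b1 ≠ ψ b3 := hcls 1 3 (by omega) (by omega) (by omega) _ _
      have h23 : ψ b2 ≠ ψ b3 := hcls 2 3 (by omega) (by omega) (by omega) _ _
      have hT3 := hbound {ψ b1, ψ b2, ψ b3} (by
        simp only [Finset.insert_subset_iff, Finset.singleton_subset_iff]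
        exact ⟨hmem (hψ _) (hψ1 _), hmem (hψ _) (hψ1 _), hmem (hψ _) (hψ1 _)⟩)
      rw [Finset.sum_insert (by simp [h12, h13]), Finset.sum_pair h23] at hT3
      have e3 := hdb b3
      have l3 := Nat.mul_le_mul_right (deg (ψ b3)) (hb b3).2
      omega
    subst hp5
    have hd7 : ∀ b, b = b1 ∨ b = b2 → deg (ψ b) = 7 ∧ mlt (ψ b) = 1 := by
      have c1 : deg (ψ b1) = 7 := by omega
      have c2 : deg (ψ b2) = 7 := by omega
      rw [c1, c2] at hT
      rintro b (rfl | rfl)
      · exact ⟨c1, by have := (hb b1).2; have := (hb b2).2; omega⟩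
      · exact ⟨c2, by have := (hb b1).2; have := (hb b2).2; omega⟩
    obtain ⟨c1, m1⟩ := hd7 b1 (Or.inl rfl)
    obtain ⟨c2, m2⟩ := hd7 b2 (Or.inr rfl)
    refine ⟨rfl, ψ b1, ψ b2, hψ _, hψ _, h12, by rw [(hdeg (hψ _)).1, c1]; norm_num,
      by rw [(hdeg (hψ _)).1, c2]; norm_num, ?_⟩
    have hsub : ({one, ψ b1, ψ b2} : Finset (G → ℂ)) ⊆ irrFinset G := by
      simp only [Finset.insert_subset_iff, Finset.singleton_subset_iff, mem_irrFinset]
      exact ⟨hone, hψ _, hψ _⟩
    have hrest : ∀ φ ∈ irrFinset G, φ ∉ ({one, ψ b1, ψ b2} : Finset (G → ℂ)) → mlt φ = 0 := by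
      intro φ hφ hn'
      simp only [Finset.mem_insert, Finset.mem_singleton, not_or] at hn'
      have h := hbound {φ, ψ b1, ψ b2} (by
        simp only [Finset.insert_subset_iff, Finset.singleton_subset_iff]
        exact ⟨hmem (mem_irrFinset.1 hφ) hn'.1, hmem (hψ _) (hψ1 _), hmem (hψ _) (hψ1 _)⟩)
      rw [Finset.sum_insert (by simp [hn'.2.1, hn'.2.2]), Finset.sum_pair h12, c1, c2, m1, m2] at h
      have := (hdeg (mem_irrFinset.1 hφ)).2
      have h0 : mlt φ * deg φ = 0 := by omega
      rcases Nat.mul_eq_zero.1 h0 with h | h <;> omega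
    funext g
    rw [hpi, Finset.sum_apply, ← Finset.sum_subset hsub fun φ hφ hn' => by
      simp [hrest φ hφ hn'], Finset.sum_insert (by
        simp only [Finset.mem_insert, Finset.mem_singleton, not_or]
        exact ⟨Ne.symm (hψ1 b1), Ne.symm (hψ1 b2)⟩), Finset.sum_pair h12]
    simp [hm1, m1, m2, one]
    ring

end Theta

end CfsgLib.Deg3P
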