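/-
Degree `3 p`: the matrix of the distinguished constituent and the orbital weights.
-/
import Cfsg.Agent.Deg3P.Basic
import Cfsg.Agent.Perm.TwoPrime.Orbital
import Cfsg.Agent.Perm.TwoPrime.Algebra
import Mathlib.GroupTheory.GroupAction.Primitive

set_option autoImplicit false
set_option linter.style.haveILetI false
set_option linter.unusedSectionVars false

namespace CfsgLib.Deg3P

open MulAction CfsgLib.Char CfsgLib.TwoPrime CfsgLib.CentralizerRing
open scoped ComplexConjugate

universe u v

variable {p : ℕ} [hp : Fact p.Prime]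
variable {G : Type u} [Group G] [Fintype G] {Ω : Type v} [MulAction G Ω] [Fintype Ω]
variable {x t : G} {θ : G → ℂ} {k f : ℕ}

/-- The matrix of the projection to the distinguished constituent. -/
noncomputable def emat (θ : G → ℂ) (z y : Ω) : ℝ := by
  classical exact (θ 1).re / (Nat.card G : ℝ) * ∑ g : G, if g • y = z then (θ g).re else 0

theorem emat_eq (θ : G → ℂ) (z y : Ω) [DecidableEq Ω] :
    emat θ z y = (θ 1).re / (Nat.card G : ℝ) * ∑ g : G, if g • y = z then (θ g).re else 0 := by
  rw [emat]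
  congr 1
  refine Finset.sum_congr rfl fun g _ => ?_
  split_ifs <;> rfl

theorem emat_smul (hθ : Cfsg.IsClassFunction G θ) (h : G) (z y : Ω) :
    emat θ (h • z) (h • y) = emat θ z y := by
  classical
  rw [emat_eq, emat_eq]
  congr 1
  refine (Fintype.sum_equiv (MulAut.conj h).toEquiv _ _ fun g => ?_).symm
  simp only [MulEquiv.toEquiv_eq_coe, EquivLike.coe_coe, MulAut.conj_apply, mul_smul,
    inv_smul_smul, smul_left_cancel_iff, hθ g h]

variable (T : Theta p G Ω x θ k f)
include T

theorem Theta.conj_apply (g : G) : conj (θ g) = θ g := by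
  obtain ⟨z, hz⟩ := T.int g
  rw [hz]; simp

theorem Theta.re_apply (g : G) : ((θ g).re : ℂ) = θ g := by
  obtain ⟨z, hz⟩ := T.int g
  rw [hz]; simp

theorem Theta.apply_inv (g : G) : θ g⁻¹ = θ g := by
  rw [IsIrrCharacter.apply_inv T.irr, T.conj_apply]

theorem Theta.emat_symm (z y : Ω) : emat θ z y = emat θ y z := by
  classical
  rw [emat_eq, emat_eq]
  congr 1
  refine Fintype.sum_equiv (Equiv.inv G) _ _ fun g => ?_
  simp only [Equiv.inv_apply, T.apply_inv, inv_smul_eq_iff]
  exact if_congr eq_comm rfl rfl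

theorem Theta.idem_single [DecidableEq Ω] (z y : Ω) :
    idem θ (Pi.single y (1 : ℂ)) z = (emat θ z y : ℂ) := by
  rw [idem, LinearMap.smul_apply, Pi.smul_apply, op_apply_single, emat_eq]
  push_cast
  rw [T.re_apply, smul_eq_mul]
  congr 1
  refine Finset.sum_congr rfl fun g _ => ?_
  rw [T.conj_apply]
  split_ifs <;> simp [T.re_apply]

theorem Theta.emat_mul (z w : Ω) : ∑ y, emat θ z y * emat θ y w = emat θ z w := by
  classical
  have h := congrFun (LinearMap.congr_fun (idem_mul_idem (Ω := Ω) T.irr T.irr) (Pi.single w 1)) z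
  rw [if_pos rfl, Module.End.mul_apply] at h
  have hv : idem θ (Pi.single w (1 : ℂ)) =
      ∑ y, (emat θ y w : ℂ) • (Pi.single y (1 : ℂ) : Ω → ℂ) := by
    funext y
    rw [T.idem_single]
    simp [Pi.single_apply]
  rw [T.idem_single] at h
  rw [hv, map_sum, Finset.sum_apply] at h
  simp only [map_smul, Pi.smul_apply, smul_eq_mul, T.idem_single] at h
  have h' : ((∑ y, emat θ z y * emat θ y w : ℝ) : ℂ) = (emat θ z w : ℂ) := by
    push_cast
    rw [← h]
    exact Finset.sum_congr rfl fun y _ => mul_comm _ _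
  exact_mod_cast h'

theorem Theta.sum_emat_diag (hm : Cfsg.classInner (pi G Ω) θ = 1) : ∑ z : Ω, emat θ z z = f := by
  classical
  have h : LinearMap.trace ℂ (Ω → ℂ) (idem θ) = θ 1 := by
    have h := trace_op_mul (Ω := Ω) T.irr 1
    rw [map_one, mul_one, hm] at h
    rw [idem, map_smul, h, smul_eq_mul]
    have h1 := IsIrrCharacter.apply_one_ne_zero T.irr
    have hG : (Nat.card G : ℂ) ≠ 0 := Nat.cast_ne_zero.2 Nat.card_pos.ne'
    field_simp
  rw [LinearMap.trace_eq_matrix_trace ℂ (Pi.basisFun ℂ Ω)] at h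
  simp only [Matrix.trace, Matrix.diag_apply, LinearMap.toMatrix_apply, Pi.basisFun_repr,
    Pi.basisFun_apply, T.idem_single, T.deg] at h
  exact_mod_cast h

variable [IsPretransitive G Ω] (d : Data p G Ω x t)
include d

theorem Theta.emat_diag (hm : Cfsg.classInner (pi G Ω) θ = 1) (z : Ω) :
    emat θ z z = f / (3 * p) := by
  have h := T.sum_emat_diag hm
  have hc : ∀ y : Ω, emat θ y y = emat θ z z := fun y => by
    obtain ⟨g, rfl⟩ := exists_smul_eq G z y
    exact emat_smul (IsIrrCharacter.isClassFunction T.irr) g z z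
  rw [Finset.sum_congr rfl fun y _ => hc y, Finset.sum_const, Finset.card_univ, d.card,
    nsmul_eq_mul] at h
  have hp0 : (p : ℝ) ≠ 0 := Nat.cast_ne_zero.2 hp.out.ne_zero
  push_cast at h
  field_simp
  linarith

/-- The matrix entry on an orbital. -/
noncomputable def Theta.eps (o : orbitRel.Quotient G (Ω × Ω)) : ℝ :=
  Quotient.liftOn' o (fun q => emat θ q.1 q.2) fun _ b ⟨g, hg⟩ => by
    rw [← hg]
    exact emat_smul (IsIrrCharacter.isClassFunction T.irr) g b.1 b.2

theorem Theta.eps_orb (z y : Ω) : T.eps (orb G z y) = emat θ z y := rfl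

end CfsgLib.Deg3P

namespace CfsgLib.Deg3P

open MulAction CfsgLib.Char CfsgLib.TwoPrime CfsgLib.CentralizerRing
open scoped ComplexConjugate

universe u v

variable {p : ℕ} [hp : Fact p.Prime]
variable {G : Type u} [Group G] {Ω : Type v} [MulAction G Ω] [Fintype Ω]
variable {x t : G}

/-- Points moved along an orbital. -/
noncomputable def cnt (o : orbitRel.Quotient G (Ω × Ω)) (g : G) : ℕ := by
  classical exact (Finset.univ.filter fun z : Ω => orb G z (g • z) = o).card

theorem cnt_eq [DecidableEq (orbitRel.Quotient G (Ω × Ω))] (o : orbitRel.Quotient G (Ω × Ω))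
    (g : G) : cnt o g = (Finset.univ.filter fun z : Ω => orb G z (g • z) = o).card := by
  rw [cnt]
  congr 1
  ext z
  simp

theorem cnt_conj (o : orbitRel.Quotient G (Ω × Ω)) (g h : G) :
    cnt o (h * g * h⁻¹) = cnt o g := by
  classical
  rw [cnt_eq, cnt_eq]
  refine (Finset.card_bij (fun z _ => h • z) (fun z hz => ?_)
    (fun _ _ _ _ e => smul_left_cancel _ e) fun z hz => ⟨h⁻¹ • z, ?_, smul_inv_smul h z⟩).symm
  · simp only [Finset.mem_filter, Finset.mem_univ, true_and] at hz ⊢
    rw [← hz, mul_smul, mul_smul, inv_smul_smul, orb_smul]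
  · simp only [Finset.mem_filter, Finset.mem_univ, true_and] at hz ⊢
    rw [← hz]
    conv_rhs => rw [← smul_inv_smul h z, mul_smul, mul_smul, orb_smul, inv_smul_smul]

theorem cnt_swap (o : orbitRel.Quotient G (Ω × Ω)) (g : G) : cnt (swapOrb o) g = cnt o g⁻¹ := by
  classical
  rw [cnt_eq, cnt_eq]
  refine Finset.card_bij (fun z _ => g • z) (fun z hz => ?_)
    (fun _ _ _ _ e => smul_left_cancel _ e) fun z hz => ⟨g⁻¹ • z, ?_, smul_inv_smul g z⟩
  · simp only [Finset.mem_filter, Finset.mem_univ, true_and] at hz ⊢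
    rw [inv_smul_smul, ← swapOrb_swapOrb o, ← hz, swapOrb_orb]
  · simp only [Finset.mem_filter, Finset.mem_univ, true_and] at hz ⊢
    rw [smul_inv_smul, ← hz, swapOrb_orb]

variable [Fintype G] [IsPretransitive G Ω]

theorem card_transporter (d : Data p G Ω x t) (z y : Ω) [DecidableEq Ω] :
    (∑ g : G, if g • z = y then (1 : ℂ) else 0) = (Nat.card G : ℂ) / (3 * p : ℕ) := by
  obtain ⟨g₀, hg₀⟩ := exists_smul_eq G z y
  have h1 : (∑ g : G, if g • z = y then (1 : ℂ) else 0) =
      ∑ g : G, if g • z = z then (1 : ℂ) else 0 := by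
    refine (Fintype.sum_equiv (Equiv.mulLeft g₀) _ _ fun g => ?_).symm
    simp only [Equiv.coe_mulLeft, mul_smul]
    exact if_congr ⟨fun h => by rw [h, hg₀], fun h => smul_left_cancel g₀ (h.trans hg₀.symm)⟩ rfl rfl
  rw [h1, Finset.sum_boole, eq_div_iff (by
    have := hp.out.ne_zero
    simp [this])]
  norm_cast
  rw [← d.card, ← Nat.card_eq_fintype_card, ← index_stabilizer_of_transitive G z,
    ← (stabilizer G z).card_mul_index, Nat.card_eq_fintype_card (α := stabilizer G z),
    Fintype.card_subtype]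
  rfl

variable {θ : G → ℂ} {k f : ℕ}

theorem classInner_cnt (o : orbitRel.Quotient G (Ω × Ω)) (χ : G → ℂ)
    [DecidableEq (orbitRel.Quotient G (Ω × Ω))] [DecidableEq Ω] :
    Cfsg.classInner (fun g => (cnt o g : ℂ)) χ = (Nat.card G : ℂ)⁻¹ *
      ∑ z : Ω, ∑ y : Ω, if orb G z y = o then (∑ g : G, if g • z = y then conj (χ g) else 0)
        else 0 := by
  rw [classInner_def]
  congr 1
  simp only [cnt_eq, ← Finset.sum_boole, Finset.sum_mul, ite_mul, one_mul, zero_mul]
  rw [Finset.sum_comm]
  refine Finset.sum_congr rfl fun z _ => ?_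
  refine Eq.trans (Finset.sum_congr rfl (g := fun g => ∑ y : Ω, if orb G z y = o then
    (if g • z = y then conj (χ g) else 0) else 0) fun g _ => ?_)
    (Finset.sum_comm.trans (Finset.sum_congr rfl fun y _ => ?_))
  · rw [Finset.sum_eq_single (g • z) (fun y _ hy => by simp [Ne.symm hy]) (by simp)]
    simp
  · split_ifs <;> simp

/-- The orbital weight. -/
noncomputable def wt (p : ℕ) (x : G) (o : orbitRel.Quotient G (Ω × Ω)) : ℕ := cnt o x / p

variable (T : Theta p G Ω x θ k f) (d : Data p G Ω x t)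
  (hm : Cfsg.classInner (pi G Ω) θ = 1 ∧
    ∀ φ, Cfsg.IsIrrCharacter G φ → φ ≠ (fun _ => 1) → φ ≠ θ →
      Cfsg.classInner (pi G Ω) φ ≠ 0 → ∀ m : ZMod p, m ≠ 0 → φ (xpow x m) = 0)
include T d hm

theorem Theta.cnt_xpow (a : Ω) (o : orbitRel.Quotient G (Ω × Ω)) {m : ZMod p} (hm0 : m ≠ 0) :
    (cnt o (xpow x m) : ℝ) = valency a o - 3 * p * valency a o * T.eps o / f := by
  classical
  let one : G → ℂ := fun _ => 1
  have hone : Cfsg.IsIrrCharacter G one := isIrrCharacter_one
  let φ : G → ℂ := fun g => (cnt o g : ℂ)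
  have hφ : Cfsg.IsClassFunction G φ := fun g h => by simp only [φ, cnt_conj]
  have hpairs : ∑ z : Ω, ∑ y : Ω, (if orb G z y = o then (1 : ℂ) else 0) =
      ((3 * p * valency a o : ℕ) : ℂ) := by
    rw [← d.card, ← CfsgLib.TwoPrime.card_pairs a o]; push_cast; rfl
  have hG : (Nat.card G : ℂ) ≠ 0 := Nat.cast_ne_zero.2 Nat.card_pos.ne'
  have hp0 : ((3 * p : ℕ) : ℂ) ≠ 0 := Nat.cast_ne_zero.2 (by have := hp.out.pos; omega)
  have h1 : Cfsg.classInner φ one = (valency a o : ℂ) := by
    rw [classInner_cnt]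
    simp only [one, map_one, card_transporter d]
    rw [Finset.sum_congr rfl fun z _ => Finset.sum_congr rfl fun y _ =>
      show (if orb G z y = o then (Nat.card G : ℂ) / (3 * p : ℕ) else 0) =
        (if orb G z y = o then (1 : ℂ) else 0) * ((Nat.card G : ℂ) / (3 * p : ℕ)) by
        rw [ite_mul, one_mul, zero_mul]]
    simp only [← Finset.sum_mul]
    rw [hpairs, Nat.cast_mul]
    field_simp
  have hθd : θ 1 ≠ 0 := IsIrrCharacter.apply_one_ne_zero T.irr
  have h2 : Cfsg.classInner φ θ = ((3 * p * valency a o * T.eps o / f : ℝ) : ℂ) := by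
    rw [classInner_cnt]
    have hS : ∀ z y : Ω, (∑ g : G, if g • z = y then conj (θ g) else 0) =
        (Nat.card G : ℂ) / θ 1 * (emat θ y z : ℂ) := by
      intro z y
      rw [emat_eq]
      push_cast
      rw [T.re_apply, ← mul_assoc, show (Nat.card G : ℂ) / θ 1 * (θ 1 / (Nat.card G : ℂ)) = 1 by
        field_simp, one_mul]
      refine Finset.sum_congr rfl fun g _ => ?_
      rw [T.conj_apply]
      split_ifs <;> simp [T.re_apply]
    rw [Finset.sum_congr rfl fun z _ => Finset.sum_congr rfl fun y _ =>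
      show (if orb G z y = o then (∑ g : G, if g • z = y then conj (θ g) else 0) else 0) =
        (if orb G z y = o then (1 : ℂ) else 0) *
          ((Nat.card G : ℂ) / θ 1 * (T.eps o : ℂ)) by
        split_ifs with h
        · rw [hS, one_mul, T.emat_symm y z, ← T.eps_orb d z y, h]
        · rw [zero_mul]]
    simp only [← Finset.sum_mul]
    rw [hpairs, T.deg]
    push_cast
    have hf0 : (f : ℂ) ≠ 0 := by rw [← T.deg]; exact hθd
    field_simp
  have h3 : ∀ χ ∈ irrFinset G, χ ≠ one → χ ≠ θ →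
      Cfsg.classInner φ χ * χ (xpow x m) = 0 := by
    intro χ hχ hne1 hneθ
    rw [mem_irrFinset] at hχ
    by_cases hin : Cfsg.classInner (pi G Ω) χ = 0
    · refine mul_eq_zero_of_left ?_ _
      have hI : (idem χ : Module.End ℂ (Ω → ℂ)) = 0 := by
        have hidem : IsIdempotentElem (idem χ : Module.End ℂ (Ω → ℂ)) := by
          show idem χ * idem χ = idem χ
          rw [idem_mul_idem hχ hχ, if_pos rfl]
        have htr : LinearMap.trace ℂ (Ω → ℂ) (idem χ) = 0 := by
          have h := trace_op_mul (Ω := Ω) hχ 1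
          rw [map_one, mul_one, hin, mul_zero, zero_mul] at h
          rw [idem, map_smul, h, smul_zero]
        rw [((LinearMap.isProj_range_iff_isIdempotentElem _).2 hidem).trace, Nat.cast_eq_zero] at htr
        exact LinearMap.range_eq_bot.1 (Submodule.finrank_eq_zero.1 htr)
      rw [classInner_cnt, Finset.sum_eq_zero, mul_zero]
      intro z _
      refine Finset.sum_eq_zero fun y _ => ?_
      have h := congrFun (LinearMap.congr_fun hI (Pi.single z 1)) y
      rw [idem, LinearMap.smul_apply, Pi.smul_apply, op_apply_single, smul_eq_mul,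
        LinearMap.zero_apply, Pi.zero_apply] at h
      rw [(mul_eq_zero.1 h).resolve_left (div_ne_zero (IsIrrCharacter.apply_one_ne_zero hχ) hG),
        ite_self]
    · rw [hm.2 χ hχ hne1 hneθ hin m hm0, mul_zero]
  have h := congrFun (eq_sum_irr hφ) (xpow x m)
  simp only [Finset.sum_apply, Pi.smul_apply, smul_eq_mul] at h
  rw [Finset.sum_eq_add one θ (Ne.symm T.ne_one)
    (fun χ hχ hh => h3 χ hχ hh.1 hh.2) (fun h => absurd (mem_irrFinset.2 hone) h)
    (fun h => absurd (mem_irrFinset.2 T.irr) h)] at h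
  simp only [h1, h2, T.val m hm0, one] at h
  have h' : ((cnt o (xpow x m) : ℝ) : ℂ) =
      ((valency a o - 3 * p * valency a o * T.eps o / f : ℝ) : ℂ) := by
    push_cast
    push_cast at h
    linear_combination h
  exact_mod_cast h'

theorem Theta.cnt_eq_wt (o : orbitRel.Quotient G (Ω × Ω)) {m : ZMod p} (hm0 : m ≠ 0) :
    cnt o (xpow x m) = p * wt p x o := by
  classical
  haveI : Nonempty Ω := Fintype.card_pos_iff.1 (by rw [d.card]; have := hp.out.pos; omega)
  have a := Classical.arbitrary Ω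
  have h : cnt o (xpow x m) = cnt o x := by
    have h1 := T.cnt_xpow d hm a o hm0
    have h2 := T.cnt_xpow d hm a o (one_ne_zero : (1 : ZMod p) ≠ 0)
    rw [xpow_one, ← h1] at h2
    exact_mod_cast h2.symm
  rw [h, wt, Nat.mul_div_cancel']
  rw [cnt_eq]
  refine dvd_card_of_invariant (MulAction.toPermHom G Ω x) ?_ (fun z => ?_) _ fun z => ?_
  · rw [← map_pow, d.dih.pow_p, map_one]
  · have h := d.fpf 1 one_ne_zero z
    rwa [xpow_one] at h
  · simp only [Finset.mem_filter, Finset.mem_univ, true_and, MulAction.toPermHom_apply,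
      MulAction.toPerm_apply, orb_smul]

/-- The eigenvalue is `k - p w`. -/
theorem Theta.wt_rel (a : Ω) (o : orbitRel.Quotient G (Ω × Ω)) :
    (valency a o : ℝ) - p * wt p x o = 3 * p * valency a o * T.eps o / f := by
  have h1 := T.cnt_xpow d hm a o (one_ne_zero : (1 : ZMod p) ≠ 0)
  rw [T.cnt_eq_wt d hm o one_ne_zero] at h1
  push_cast at h1
  linarith

theorem Theta.wt_swap (o : orbitRel.Quotient G (Ω × Ω)) :
    wt p x (swapOrb o) = wt p x o := by
  refine Nat.eq_of_mul_eq_mul_left hp.out.pos ?_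
  rw [← T.cnt_eq_wt d hm o (neg_ne_zero.2 one_ne_zero : (-1 : ZMod p) ≠ 0),
    ← T.cnt_eq_wt d hm (swapOrb o) (one_ne_zero : (1 : ZMod p) ≠ 0), xpow_one, cnt_swap,
    xpow_neg d.dih.pow_p, xpow_one]

theorem Theta.wt_diag (a : Ω) : wt p x (orb G a a) = 0 := by
  classical
  rw [wt, cnt_eq, Finset.card_eq_zero.2 (Finset.filter_eq_empty_iff.2 fun z _ h => ?_), Nat.zero_div]
  have h1 := d.fpf 1 one_ne_zero z
  rw [xpow_one] at h1
  exact h1 ((orb_eq_diag_iff a z _).1 h).symm

theorem Theta.sum_wt [Fintype (orbitRel.Quotient G (Ω × Ω))] :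
    ∑ o : orbitRel.Quotient G (Ω × Ω), wt p x o = 3 := by
  classical
  refine Nat.eq_of_mul_eq_mul_left hp.out.pos ?_
  rw [Finset.mul_sum, Finset.sum_congr rfl fun o _ =>
    (T.cnt_eq_wt d hm o (one_ne_zero : (1 : ZMod p) ≠ 0)).symm, mul_comm, ← d.card,
    ← Finset.card_univ]
  simp only [cnt_eq]
  exact (Finset.card_eq_sum_card_fiberwise (f := fun z : Ω => orb G z (xpow x (1 : ZMod p) • z))
    (t := Finset.univ) fun z _ => Finset.mem_univ _).symm

theorem Theta.sum_sq [Fintype (orbitRel.Quotient G (Ω × Ω))] (a : Ω) :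
    ∑ o : orbitRel.Quotient G (Ω × Ω), ((valency a o : ℝ) - p * wt p x o) ^ 2 / valency a o =
      3 * p / f := by
  classical
  have hf0 : (f : ℝ) ≠ 0 := by
    have h := IsIrrCharacter.apply_one_ne_zero T.irr
    rw [T.deg] at h
    exact_mod_cast h
  have hp0 : (p : ℝ) ≠ 0 := Nat.cast_ne_zero.2 hp.out.ne_zero
  have key : ∑ o : orbitRel.Quotient G (Ω × Ω), (valency a o : ℝ) * T.eps o ^ 2 =
      f / (3 * p) := by
    rw [← T.emat_diag d hm.1 a, ← T.emat_mul a a]
    rw [← Finset.sum_fiberwise_of_maps_to (g := fun y : Ω => orb G a y) (t := Finset.univ)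
      (fun y _ => Finset.mem_univ _)]
    refine Finset.sum_congr rfl fun o _ => ?_
    rw [Finset.sum_congr rfl fun y hy => show emat θ a y * emat θ y a = T.eps o ^ 2 by
      rw [← T.emat_symm a y, ← T.eps_orb d a y, (Finset.mem_filter.1 hy).2, sq],
      Finset.sum_const, nsmul_eq_mul, valency_eq a a]
  calc _ = ∑ o : orbitRel.Quotient G (Ω × Ω),
        (3 * p / f : ℝ) ^ 2 * ((valency a o : ℝ) * T.eps o ^ 2) := by
        refine Finset.sum_congr rfl fun o _ => ?_
        rw [T.wt_rel d hm a o]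
        rcases Nat.eq_zero_or_pos (valency a o) with h | h
        · simp [h]
        · have : (valency a o : ℝ) ≠ 0 := Nat.cast_ne_zero.2 h.ne'
          field_simp
    _ = _ := by
        rw [← Finset.mul_sum, key]
        field_simp

/-- Every non-diagonal orbital meets `x`. -/
theorem Theta.wt_pos (hprim : IsPreprimitive G Ω) {z y : Ω} (hzy : z ≠ y) :
    0 < wt p x (orb G z y) := by
  classical
  by_contra hw
  have hw0 : wt p x (orb G z y) = 0 := by omega
  have hf0 : (f : ℝ) ≠ 0 := by
    have h := IsIrrCharacter.apply_one_ne_zero T.irr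
    rw [T.deg] at h
    exact_mod_cast h
  have hp0 : (p : ℝ) ≠ 0 := Nat.cast_ne_zero.2 hp.out.ne_zero
  have heps : ∀ u v : Ω, wt p x (orb G u v) = 0 ↔ emat θ u v = f / (3 * p) := by
    intro u v
    have h := T.wt_rel d hm u (orb G u v)
    rw [T.eps_orb d] at h
    have hv : (valency u (orb G u v) : ℝ) ≠ 0 := by
      refine Nat.cast_ne_zero.2 ?_
      rw [valency]
      exact (Finset.card_pos.2 ⟨v, by simp⟩).ne'
    constructor
    · intro h0
      rw [h0, Nat.cast_zero, mul_zero, sub_zero, eq_div_iff hf0] at h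
      field_simp
      apply mul_left_cancel₀ hv
      linear_combination -h
    · intro h0
      rw [h0] at h
      field_simp at h
      have h' : (p : ℝ) * wt p x (orb G u v) = 0 := by linarith
      exact_mod_cast (mul_eq_zero.1 h').resolve_left hp0
  have hrow : ∀ u v : Ω, emat θ u v = f / (3 * p) → ∀ w, emat θ u w = emat θ v w := by
    intro u v h
    have h0 : ∑ w, (emat θ u w - emat θ v w) ^ 2 = 0 := by
      rw [Finset.sum_congr rfl fun w _ => show (emat θ u w - emat θ v w) ^ 2 =
        emat θ u w * emat θ w u - 2 * (emat θ u w * emat θ w v) + emat θ v w * emat θ w v by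
          rw [T.emat_symm w u, T.emat_symm w v]; ring, Finset.sum_add_distrib,
        Finset.sum_sub_distrib, ← Finset.mul_sum, T.emat_mul, T.emat_mul, T.emat_mul,
        T.emat_diag d hm.1, T.emat_diag d hm.1, h]
      ring
    intro w
    have := (Finset.sum_eq_zero_iff_of_nonneg fun i _ => sq_nonneg _).1 h0 w (Finset.mem_univ w)
    exact sub_eq_zero.1 (pow_eq_zero_iff (n := 2) (by norm_num) |>.1 this)
  let B : Set Ω := {u | ∀ w, emat θ u w = emat θ z w}
  have hB : IsBlock G B := by
    rw [isBlock_iff_smul_eq_or_disjoint]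
    intro g
    refine or_iff_not_imp_right.2 fun hd => ?_
    obtain ⟨u, hu1, hu2⟩ := Set.not_disjoint_iff.1 hd
    obtain ⟨u', hu', rfl⟩ := hu1
    have hg : ∀ v w : Ω, emat θ (g • v) w = emat θ v (g⁻¹ • w) := fun v w => by
      rw [← emat_smul (IsIrrCharacter.isClassFunction T.irr) g v (g⁻¹ • w), smul_inv_smul]
    ext v
    rw [Set.mem_smul_set_iff_inv_smul_mem]
    constructor
    · intro h w
      rw [← hu2 w, show v = g • g⁻¹ • v by rw [smul_inv_smul], hg, hg, h, hu']
    · intro h w
      have := hg (g⁻¹ • v) (g • w)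
      rw [smul_inv_smul, inv_smul_smul] at this
      rw [← this, h, ← hu2, hg, inv_smul_smul, hu']
  have hyB : y ∈ B := fun w => (hrow z y ((heps z y).1 hw0) w).symm
  rcases IsPreprimitive.isTrivialBlock_of_isBlock hB with h | h
  · exact hzy (h (fun w => rfl) hyB)
  · haveI : Fintype (orbitRel.Quotient G (Ω × Ω)) := Fintype.ofFinite _
    have h3 := T.sum_wt d hm
    rw [Finset.sum_eq_zero fun o _ => ?_] at h3
    · omega
    induction o using Quotient.inductionOn' with
    | h q =>
      obtain ⟨u, v⟩ := q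
      refine (heps u v).2 ?_
      have e1 : u ∈ B := h ▸ Set.mem_univ u
      have e2 : v ∈ B := h ▸ Set.mem_univ v
      rw [e1 v, ← e2 v, T.emat_diag d hm.1]

end CfsgLib.Deg3P
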