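/-
The class equation of the involutions for a character with value `-1` on an element of order `p`
with dihedral normaliser.
-/
import Cfsg.Agent.Deg3P.Orbital
import Cfsg.Agent.FGSB.FrobeniusRoots

set_option autoImplicit false
set_option linter.style.haveILetI false
set_option linter.unusedSectionVars false

namespace CfsgLib.Deg3P

open CfsgLib.Char CfsgLib.TwoPrime
open scoped ComplexConjugate

universe u v

section General

variable {p : ℕ} [hp : Fact p.Prime] {G : Type u} [Group G] [Fintype G] {x t : G}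
variable (D : Dih p x t) {θ : G → ℂ} {f : ℕ}
  (h2 : p ≠ 2) (hθ : Cfsg.IsIrrCharacter G θ) (hθ1 : θ 1 = f) (hf : 3 ≤ f)
  (hθx : ∀ m : ZMod p, m ≠ 0 → θ (xpow x m) = -1)
include D h2 hθ hθ1 hf hθx

theorem exists_gamma : ∃ γ : G → ℂ, Cfsg.IsIrrCharacter G γ ∧ γ 1 = (f : ℂ) - 1 ∧
    γ = fun g => D.alpha g - 1 + θ g := by
  classical
  have hp0 : (p : ℂ) ≠ 0 := Nat.cast_ne_zero.2 hp.out.ne_zero
  let one : G → ℂ := fun _ => 1
  have hθ_ne : θ ≠ one := fun h => by
    have := congrFun h 1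
    rw [hθ1] at this
    simp only [one] at this
    have h' : f = 1 := by exact_mod_cast this
    omega
  have haa : Cfsg.classInner D.alpha D.alpha = 3 := by
    rw [Dih.alpha, classInner_indFun_onPow D.pow_p D.x_ne _ (isClassFunction_indFun _ _)]
    rw [Finset.sum_congr rfl fun m _ => show psi m *
      conj (Cfsg.indFun _ (onPow D.pow_p D.x_ne psi) (xpow x m)) = psi m * conj (psi m + psi (-m))
      from by rw [← D.alpha_xpow h2 m]; rfl, sum_psi_self h2]
    field_simp
  have ha1 : Cfsg.classInner D.alpha one = 1 := by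
    rw [Dih.alpha, classInner_indFun_onPow D.pow_p D.x_ne _
      (IsCharacter.isClassFunction isCharacter_one)]
    simp only [one, map_one, mul_one]
    rw [sum_psi, inv_mul_cancel₀ hp0]
  have haθ : Cfsg.classInner D.alpha θ = -1 := by
    rw [Dih.alpha, classInner_indFun_onPow D.pow_p D.x_ne _ (IsIrrCharacter.isClassFunction hθ),
      Finset.sum_congr rfl fun m _ => show psi m * conj (θ (xpow x m)) = -psi m from by
        rcases eq_or_ne m 0 with rfl | hm
        · simp [psi]
        · rw [hθx m hm]; simp,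
      Finset.sum_neg_distrib, sum_psi, mul_neg, inv_mul_cancel₀ hp0]
  have h1a : Cfsg.classInner one D.alpha = 1 := by rw [← classInner_conj, ha1, map_one]
  have hθa : Cfsg.classInner θ D.alpha = -1 := by rw [← classInner_conj, haθ]; simp
  have hγgen : Cfsg.IsGeneralizedCharacter G (D.alpha - one + θ) :=
    IsGeneralized.add (IsGeneralized.sub D.alpha_isGeneralized
      (IsIrrCharacter.isGeneralized isIrrCharacter_one)) (IsIrrCharacter.isGeneralized hθ)
  have hnorm : Cfsg.classInner (D.alpha - one + θ) (D.alpha - one + θ) = 1 := by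
    simp only [classInner_add_left, classInner_add_right, classInner_sub_left, classInner_sub_right,
      haa, ha1, haθ, h1a, hθa, IsIrrCharacter.classInner_self isIrrCharacter_one (G := G),
      IsIrrCharacter.classInner_self hθ, IsIrrCharacter.classInner_of_ne hθ isIrrCharacter_one hθ_ne,
      IsIrrCharacter.classInner_of_ne isIrrCharacter_one hθ (Ne.symm hθ_ne), one]
    norm_num
  have hdeg : (D.alpha - one + θ) 1 = (f : ℂ) - 1 := by
    simp only [Pi.add_apply, Pi.sub_apply, D.alpha_one h2, hθ1, one]; ring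
  rcases IsGeneralized.isIrr_or_neg hγgen hnorm with h | h
  · exact ⟨_, h, hdeg, rfl⟩
  · exfalso
    obtain ⟨d, hd, hd'⟩ := IsIrrCharacter.exists_degree h
    rw [Pi.neg_apply, hdeg] at hd'
    have : ((d + f : ℕ) : ℂ) = ((1 : ℕ) : ℂ) := by push_cast; linear_combination -hd'
    have := Nat.cast_injective this
    omega

theorem weighted_count (b : G) :
    ∑ m : ZMod p, psi m *
      (Nat.card {q : G × G // IsConj t q.1 ∧ IsConj b q.2 ∧ q.1 * q.2 = xpow x m} : ℂ) =
      (p : ℂ) * ((Nat.card {g : G // IsConj t g} : ℂ) * (Nat.card {g : G // IsConj b g} : ℂ) /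
        (Nat.card G : ℂ)) * (1 - θ t * θ b / (f : ℂ) +
          (D.alpha t - 1 + θ t) * (D.alpha b - 1 + θ b) / ((f : ℂ) - 1)) := by
  classical
  obtain ⟨γ, hγ, hγ1, hγdef⟩ := exists_gamma D h2 hθ hθ1 hf hθx
  have hp0 : (p : ℂ) ≠ 0 := Nat.cast_ne_zero.2 hp.out.ne_zero
  let one : G → ℂ := fun _ => 1
  have hone : Cfsg.IsIrrCharacter G one := isIrrCharacter_one
  have hne1θ : one ≠ θ := fun h => by
    have := congrFun h 1
    rw [hθ1] at this
    simp only [one] at this
    have h' : (1 : ℕ) = f := by exact_mod_cast this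
    omega
  have hne1γ : one ≠ γ := fun h => by
    have := congrFun h 1
    rw [hγ1] at this
    have h' : ((2 : ℕ) : ℂ) = (f : ℕ) := by push_cast; linear_combination this
    have := Nat.cast_injective h'
    omega
  have halpha : D.alpha = one - θ + γ := by
    funext g
    simp only [hγdef, one, Pi.add_apply, Pi.sub_apply]; ring
  have hinner : ∀ χ ∈ irrFinset G, ∑ m : ZMod p, psi m * conj (χ (xpow x m)) =
      (p : ℂ) * ((if χ = one then 1 else 0) - (if χ = θ then 1 else 0) +
        if χ = γ then 1 else 0) := by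
    intro χ hχ
    rw [mem_irrFinset] at hχ
    have h := classInner_indFun_onPow D.pow_p D.x_ne (psi (p := p))
      (IsIrrCharacter.isClassFunction hχ)
    change Cfsg.classInner D.alpha χ = _ at h
    rw [halpha, classInner_add_left, classInner_sub_left, IsIrrCharacter.classInner_eq hone hχ,
      IsIrrCharacter.classInner_eq hθ hχ, IsIrrCharacter.classInner_eq hγ hχ] at h
    simp only [eq_comm (a := χ)]
    rw [h, ← mul_assoc, mul_inv_cancel₀ hp0, one_mul]
  simp only [card_class_products]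
  rw [Finset.sum_congr rfl fun m _ => mul_left_comm _ _ _, ← Finset.mul_sum]
  simp only [Finset.mul_sum]
  rw [Finset.sum_comm]
  have hterm : ∀ χ ∈ irrFinset G, ∑ m : ZMod p,
      (Nat.card {g : G // IsConj t g} : ℂ) * (Nat.card {g : G // IsConj b g} : ℂ) /
        (Nat.card G : ℂ) * (psi m * (χ t * χ b * conj (χ (xpow x m)) / χ 1)) =
      (p : ℂ) * ((Nat.card {g : G // IsConj t g} : ℂ) * (Nat.card {g : G // IsConj b g} : ℂ) /
        (Nat.card G : ℂ)) * ((if χ = one then χ t * χ b / χ 1 else 0) -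
          (if χ = θ then χ t * χ b / χ 1 else 0) + if χ = γ then χ t * χ b / χ 1 else 0) := by
    intro χ hχ
    rw [← Finset.mul_sum, Finset.sum_congr rfl fun m _ => show
      psi m * (χ t * χ b * conj (χ (xpow x m)) / χ 1) =
        χ t * χ b / χ 1 * (psi m * conj (χ (xpow x m))) by ring, ← Finset.mul_sum, hinner χ hχ]
    split_ifs <;> ring
  rw [Finset.sum_congr rfl hterm, ← Finset.mul_sum, Finset.sum_add_distrib, Finset.sum_sub_distrib,
    Finset.sum_ite_eq' _ one, Finset.sum_ite_eq' _ θ, Finset.sum_ite_eq' _ γ,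
    if_pos (mem_irrFinset.2 hone), if_pos (mem_irrFinset.2 hθ), if_pos (mem_irrFinset.2 hγ),
    hθ1, hγ1]
  simp [one, hγdef]

theorem involution_eq {w : G} (hw : w * w = 1) (hw1 : w ≠ 1) (hne : (f : ℂ) ≠ θ t) :
    IsConj t w ∨ θ w = θ 1 := by
  classical
  by_cases hc : IsConj t w
  · exact Or.inl hc
  right
  have h := weighted_count D h2 hθ hθ1 hf hθx w
  rw [Finset.sum_eq_zero fun m _ => by
    rcases eq_or_ne m 0 with rfl | hm
    · simp [psi]
    · rw [D.no_pairs h2 hm hw hc, Nat.cast_zero, mul_zero]] at h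
  have hK : ∀ g : G, (Nat.card {y : G // IsConj g y} : ℂ) ≠ 0 := fun g => by
    haveI : Nonempty {y : G // IsConj g y} := ⟨⟨g, IsConj.refl g⟩⟩
    exact Nat.cast_ne_zero.2 Nat.card_pos.ne'
  have hG0 : (Nat.card G : ℂ) ≠ 0 := Nat.cast_ne_zero.2 Nat.card_pos.ne'
  have hp0 : (p : ℂ) ≠ 0 := Nat.cast_ne_zero.2 hp.out.ne_zero
  have h' := (mul_eq_zero.1 h.symm).resolve_left
    (mul_ne_zero hp0 (div_ne_zero (mul_ne_zero (hK t) (hK w)) hG0))
  rw [D.alpha_involution h2 D.t_sq D.t_ne, D.alpha_involution h2 hw hw1] at h'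
  have hf0 : (f : ℂ) ≠ 0 := Nat.cast_ne_zero.2 (by omega)
  have hf1 : (f : ℂ) - 1 ≠ 0 := by
    rw [← Nat.cast_one, sub_ne_zero, Ne, Nat.cast_inj]; omega
  field_simp at h'
  have h'' : ((f : ℂ) - θ t) * ((f : ℂ) - θ w) = 0 := by linear_combination h'
  rw [hθ1]
  exact (sub_eq_zero.1 ((mul_eq_zero.1 h'').resolve_left (sub_ne_zero.2 hne))).symm

theorem class_equation :
    (Nat.card {g : G // IsConj t g} : ℂ) ^ 2 * ((f : ℂ) - θ t) ^ 2 =
      (p : ℂ) * Nat.card G * f * ((f : ℂ) - 1) := by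
  classical
  have h := weighted_count D h2 hθ hθ1 hf hθx t
  rw [Finset.sum_congr rfl fun m _ => show psi m * _ = psi m * (p : ℂ) from by
    rcases eq_or_ne m 0 with rfl | hm
    · simp [psi]
    · rw [D.card_pairs h2 hm], ← Finset.sum_mul, sum_psi] at h
  have hG0 : (Nat.card G : ℂ) ≠ 0 := Nat.cast_ne_zero.2 Nat.card_pos.ne'
  have hp0 : (p : ℂ) ≠ 0 := Nat.cast_ne_zero.2 hp.out.ne_zero
  have hf0 : (f : ℂ) ≠ 0 := Nat.cast_ne_zero.2 (by omega)
  have hf1 : (f : ℂ) - 1 ≠ 0 := by
    rw [← Nat.cast_one, sub_ne_zero, Ne, Nat.cast_inj]; omega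
  rw [D.alpha_involution h2 D.t_sq D.t_ne] at h
  field_simp at h
  linear_combination -h

omit hf in
/-- The value at `t` is bounded by the multiplicity of the trivial character on `⟨x⟩`. -/
theorem theta_t_bound {n₀ : ℕ} (hn : f + 1 = (n₀ + 1) * p) :
    ∃ a b : ℕ, a + b = n₀ ∧ θ t = (a : ℂ) - b := by
  classical
  have hθc : Cfsg.IsCharacter G θ := IsIrrCharacter.isCharacter hθ
  have hcls := IsIrrCharacter.isClassFunction hθ
  obtain ⟨n, ρ, rfl⟩ := hθc
  have hp0 : (p : ℂ) ≠ 0 := Nat.cast_ne_zero.2 hp.out.ne_zero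
  set S : Module.End ℂ (Fin n → ℂ) := ∑ m : ZMod p, ρ (xpow x m) with hS
  have hSS : S * S = (p : ℂ) • S := by
    rw [hS, Finset.sum_mul]
    rw [show ((p : ℂ) • ∑ m : ZMod p, ρ (xpow x m)) =
      ∑ _i : ZMod p, ∑ m : ZMod p, ρ (xpow x m) by simp [Nat.cast_smul_eq_nsmul]]
    refine Finset.sum_congr rfl fun i _ => ?_
    rw [Finset.mul_sum]
    exact Fintype.sum_equiv (Equiv.addLeft i) _ _ fun m => by
      simp [← map_mul, xpow_add D.pow_p]
  have htS : ρ t * S = S * ρ t := by
    rw [hS, Finset.mul_sum, Finset.sum_mul]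
    refine Fintype.sum_equiv (Equiv.neg _) _ _ fun m => ?_
    simp only [Equiv.neg_apply, ← map_mul]
    rw [← D.conj_xpow, mul_assoc, D.t_sq, mul_one]
  have htt : ρ t * ρ t = 1 := by rw [← map_mul, D.t_sq, map_one]
  set P : Module.End ℂ (Fin n → ℂ) := (p : ℂ)⁻¹ • S with hP
  have hPP : P * P = P := by
    rw [hP, smul_mul_smul_comm, hSS, smul_smul, mul_assoc, inv_mul_cancel₀ hp0, mul_one]
  have htP : ρ t * P = P * ρ t := by
    rw [hP, mul_smul_comm, smul_mul_assoc, htS]
  set X := ρ t * P with hX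
  have hXP : X * P = X := by rw [hX, mul_assoc, hPP]
  have hPX : P * X = X := by rw [hX, ← mul_assoc, ← htP, mul_assoc, hPP]
  have hXX : X * X = P := by
    rw [hX, mul_assoc, ← mul_assoc P, ← htP, mul_assoc (ρ t) P P, hPP, ← mul_assoc, htt, one_mul]
  have htr : ∀ Q : Module.End ℂ (Fin n → ℂ), Q * Q = Q →
      ∃ a : ℕ, LinearMap.trace ℂ _ Q = a := fun Q hQ =>
    ⟨_, ((LinearMap.isProj_range_iff_isIdempotentElem Q).2 hQ).trace⟩
  obtain ⟨a, ha⟩ := htr ((2 : ℂ)⁻¹ • (P + X)) (by
    rw [smul_mul_smul_comm, add_mul, mul_add, mul_add, hPP, hPX, hXP, hXX]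
    module)
  obtain ⟨b, hb⟩ := htr ((2 : ℂ)⁻¹ • (P - X)) (by
    rw [smul_mul_smul_comm, sub_mul, mul_sub, mul_sub, hPP, hPX, hXP, hXX]
    module)
  have hθS : ∀ m : ZMod p, LinearMap.trace ℂ _ (ρ (xpow x m)) = if m = 0 then (f : ℂ) else -1 := by
    intro m
    split_ifs with h
    · rw [h, xpow_zero, ← hθ1]; rfl
    · exact hθx m h
  have hP0 : LinearMap.trace ℂ _ P = n₀ := by
    rw [hP, map_smul, hS, map_sum, Finset.sum_congr rfl fun m _ => hθS m,
      ← Finset.add_sum_erase _ _ (Finset.mem_univ (0 : ZMod p)), if_pos rfl,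
      Finset.sum_congr rfl fun m hm => if_neg (Finset.ne_of_mem_erase hm), Finset.sum_const,
      Finset.card_erase_of_mem (Finset.mem_univ _), Finset.card_univ, ZMod.card, nsmul_eq_mul,
      Nat.cast_pred hp.out.pos, smul_eq_mul]
    have h : (f : ℂ) + 1 = ((n₀ : ℂ) + 1) * p := by exact_mod_cast hn
    field_simp
    linear_combination h
  have hX0 : LinearMap.trace ℂ _ X = ρ.character t := by
    rw [hX, hP, mul_smul_comm, map_smul, hS, Finset.mul_sum, map_sum,
      Finset.sum_congr rfl fun m _ => show LinearMap.trace ℂ _ (ρ t * ρ (xpow x m)) =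
        ρ.character t by
        rw [← map_mul]
        show ρ.character (t * xpow x m) = _
        obtain ⟨c, hc⟩ := isConj_iff.1 (D.isConj_coset h2 (-m))
        rw [show t * xpow x m = xpow x (-m) * t by
          rw [← D.conj_xpow, mul_assoc, D.t_sq, mul_one], ← hc]
        exact hcls t c,
      Finset.sum_const, Finset.card_univ, ZMod.card, nsmul_eq_mul, smul_eq_mul]
    field_simp
  rw [map_smul, map_add, hP0, hX0, smul_eq_mul] at ha
  rw [map_smul, map_sub, hP0, hX0, smul_eq_mul] at hb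
  refine ⟨a, b, ?_, by rw [← ha, ← hb]; ring⟩
  have : ((a + b : ℕ) : ℂ) = (n₀ : ℂ) := by push_cast; rw [← ha, ← hb]; ring
  exact_mod_cast this

end General

open MulAction CfsgLib.CentralizerRing

variable {p : ℕ} [hp : Fact p.Prime]
variable {G : Type u} [Group G] [Fintype G] [IsSimpleGroup G] {Ω : Type v} [MulAction G Ω]
  [Fintype Ω] {x t : G} {θ : G → ℂ} {k f : ℕ}
  (T : Theta p G Ω x θ k f) (d : Data p G Ω x t)
include T d

theorem Theta.three_le : 3 ≤ f := by
  have h := T.f_eq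
  have := d.h3
  rcases T.k_mem with rfl | rfl | rfl <;> omega

theorem Theta.theta_t : ∃ a b : ℕ, a + b + 1 = k ∧ θ t = (a : ℂ) - b := by
  obtain ⟨n, rfl⟩ : ∃ n, k = n + 1 := ⟨k - 1, by rcases T.k_mem with h | h | h <;> omega⟩
  obtain ⟨a, b, h1, h2⟩ := theta_t_bound d.dih d.ne_two T.irr T.deg T.val T.f_eq
  exact ⟨a, b, by omega, h2⟩

theorem Theta.apply_t_ne : (f : ℂ) ≠ θ t := by
  obtain ⟨a, b, hab, h⟩ := T.theta_t d
  rw [h]
  intro e
  have e' : ((f + b : ℕ) : ℂ) = (a : ℂ) := by push_cast; linear_combination e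
  have e'' := Nat.cast_injective e'
  have hf := T.f_eq
  have := d.h3
  rcases T.k_mem with rfl | rfl | rfl <;> omega

theorem Theta.kernel_trivial {g : G} (hg : θ g = θ 1) : g = 1 := by
  by_contra hg1
  have hθc := IsIrrCharacter.isCharacter T.irr
  have htop := eq_top_of_ne_bot (kerSubgroup_normal hθc) fun h =>
    hg1 ((Subgroup.eq_bot_iff_forall _).1 h g hg)
  have h := (mem_kerSubgroup hθc (xpow x (1 : ZMod p))).1 (htop ▸ Subgroup.mem_top _)
  rw [T.val 1 one_ne_zero, T.deg] at h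
  have h' : ((f + 1 : ℕ) : ℂ) = ((0 : ℕ) : ℂ) := by push_cast; linear_combination -h
  exact absurd (Nat.cast_injective h') (by omega)

/-- One class of involutions. -/
theorem Theta.isConj_invol {w : G} (hw : w * w = 1) (hw1 : w ≠ 1) : IsConj t w :=
  (involution_eq d.dih d.ne_two T.irr T.deg (T.three_le d) T.val hw hw1 (T.apply_t_ne d)).resolve_right
    fun h => hw1 (T.kernel_trivial d h)

theorem Theta.isConj_iff (w : G) : IsConj t w ↔ w * w = 1 ∧ w ≠ 1 := by
  refine ⟨fun h => ?_, fun h => T.isConj_invol d h.1 h.2⟩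
  obtain ⟨c, rfl⟩ := _root_.isConj_iff.1 h
  refine ⟨by rw [show c * t * c⁻¹ * (c * t * c⁻¹) = c * (t * t) * c⁻¹ by group, d.dih.t_sq,
    mul_one, mul_inv_cancel], fun e => d.dih.t_ne ?_⟩
  have := congrArg (fun z => c⁻¹ * z * c) e
  simpa [mul_assoc] using this

/-- The number of involutions is odd. -/
theorem Theta.odd_invol : ¬ 2 ∣ Nat.card {g : G // IsConj t g} := by
  classical
  have h := CfsgLib.FrobRoots.gcd_dvd_card_pow_eq_one G 2
  rw [Nat.gcd_eq_left d.even] at h
  have h1 : Nat.card {g : G // g ^ 2 = 1} = Nat.card {g : G // IsConj t g} + 1 := by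
    rw [Nat.card_eq_fintype_card, Nat.card_eq_fintype_card, Fintype.card_subtype,
      Fintype.card_subtype, ← Finset.card_insert_of_notMem (a := (1 : G))
        (fun h => ((T.isConj_iff d 1).1 (Finset.mem_filter.1 h).2).2 rfl)]
    congr 1
    ext g
    simp only [Finset.mem_filter, Finset.mem_univ, true_and, Finset.mem_insert, sq,
      T.isConj_iff d]
    by_cases hg : g = 1 <;> simp [hg]
  omega

theorem Theta.class_eq : (Nat.card {g : G // IsConj t g} : ℂ) ^ 2 * ((f : ℂ) - θ t) ^ 2 =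
    (p : ℂ) * Nat.card G * f * ((f : ℂ) - 1) :=
  class_equation d.dih d.ne_two T.irr T.deg (T.three_le d) T.val

end CfsgLib.Deg3P
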