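/-
Counting products of two involutions with a prescribed involution as `2`-part.
-/
import Mathlib.GroupTheory.Subgroup.Centralizer
import Mathlib.GroupTheory.OrderOfElement
import Mathlib.Data.Fintype.Prod
import Mathlib.Algebra.Order.BigOperators.Group.Finset
import Mathlib.Algebra.Group.Commute.Basic
import Mathlib.SetTheory.Cardinal.Finite
import Mathlib.Algebra.BigOperators.Ring.Finset
import Mathlib.Tactic.Group
import Mathlib.Tactic.Ring
import Mathlib.Tactic.Linarith

set_option autoImplicit false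
set_option linter.unusedSectionVars false

namespace CfsgLib.Deg3P

universe u

variable {G : Type u} [Group G] [Fintype G]

/-- The two orbits of an odd subgroup on the involutions of a four-group. -/
theorem local_sets [DecidableEq G] {z u : G} (hz : z * z = 1) (hz1 : z ≠ 1) (hu : u * u = 1)
    (hu1 : u ≠ 1) (huz : u ≠ z) (hcz : z * u = u * z) (O : Subgroup G) {M : ℕ} (hM : Odd M)
    (hOM : ∀ o ∈ O, o ^ M = 1) (hOz : ∀ o ∈ O, z * o = o * z)
    (hOu : ∀ o ∈ O, u * o * u⁻¹ ∈ O) :
    ∃ X Y : Finset G, (∀ i ∈ X, ∃ o ∈ O, i = o * u * o⁻¹) ∧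
      (∀ i ∈ Y, ∃ o ∈ O, i = o * (z * u) * o⁻¹) ∧ Disjoint X Y ∧
      4 * Nat.card O ≤ X.card * Nat.card (Subgroup.centralizer ({z, u} : Set G)) ∧
      4 * Nat.card O ≤ Y.card * Nat.card (Subgroup.centralizer ({z, u} : Set G)) ∧
      ∀ i ∈ X, ∀ k ∈ Y, (i * k) ^ M = z ∧ (k * i) ^ M = z := by
  classical
  let OF := Finset.univ.filter fun o : G => o ∈ O
  let D := OF.filter fun o => u * o = o * u
  have hOF : OF.card = Nat.card O := by
    rw [← Fintype.card_subtype, ← Nat.card_eq_fintype_card]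
  have hui : u⁻¹ = u := inv_eq_of_mul_eq_one_right hu
  have hinv : ∀ v ∈ O, v * v = 1 → v = 1 := fun v hv h => by
    obtain ⟨m, hm⟩ := hM
    have h' := hOM v hv
    rwa [hm, pow_succ, pow_mul, sq, h, one_pow, one_mul] at h'
  -- the four-group
  let E : Finset G := {1, z, u, z * u}
  have hE : E.card = 4 := by
    rw [Finset.card_insert_of_notMem, Finset.card_insert_of_notMem, Finset.card_pair]
    · exact fun e => hz1 (by simpa using e.symm)
    · simp only [Finset.mem_insert, Finset.mem_singleton]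
      rintro (e | e)
      · exact huz e.symm
      · exact hu1 (by simpa using e.symm)
    · simp only [Finset.mem_insert, Finset.mem_singleton]
      rintro (e | e | e)
      · exact hz1 e.symm
      · exact hu1 e.symm
      · exact huz (by
          have h := congrArg (fun g => z * g) e
          simpa [← mul_assoc, hz] using h.symm)
  have hEsq : ∀ e ∈ E, e * e = 1 ∧ Commute z e ∧ Commute u e := by
    intro e he
    simp only [E, Finset.mem_insert, Finset.mem_singleton] at he
    have c : Commute z u := hcz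
    rcases he with rfl | rfl | rfl | rfl
    · exact ⟨mul_one 1, Commute.one_right z, Commute.one_right u⟩
    · exact ⟨hz, Commute.refl _, c.symm⟩
    · exact ⟨hu, c, Commute.refl _⟩
    · refine ⟨?_, (Commute.refl z).mul_right c, c.symm.mul_right (Commute.refl u)⟩
      rw [c.symm.mul_mul_mul_comm, hz, hu, one_mul]
  have hEcomm : ∀ e ∈ E, ∀ e' ∈ E, Commute e e' := by
    intro e he e' he'
    obtain ⟨-, h1, h2⟩ := hEsq e he
    simp only [E, Finset.mem_insert, Finset.mem_singleton] at he'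
    rcases he' with rfl | rfl | rfl | rfl
    exacts [Commute.one_right e, h1.symm, h2.symm, h1.symm.mul_right h2.symm]
  have hDmem : ∀ d ∈ D, d ∈ O ∧ u * d = d * u := fun d hd =>
    ⟨(Finset.mem_filter.1 (Finset.mem_filter.1 hd).1).2, (Finset.mem_filter.1 hd).2⟩
  have hD : 4 * D.card ≤ Nat.card (Subgroup.centralizer ({z, u} : Set G)) := by
    rw [← hE, mul_comm, ← Finset.card_product, Nat.card_eq_fintype_card, Fintype.card_subtype]
    refine Finset.card_le_card_of_injOn (fun q => q.1 * q.2) (fun q hq => ?_) ?_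
    · obtain ⟨hd, he⟩ := Finset.mem_product.1 (Finset.mem_coe.1 hq)
      obtain ⟨hdO, hdu⟩ := hDmem _ hd
      obtain ⟨-, ez, eu⟩ := hEsq _ he
      refine Finset.mem_coe.2 (Finset.mem_filter.2 ⟨Finset.mem_univ _, ?_⟩)
      rw [Subgroup.mem_centralizer_iff]
      rintro g (rfl | rfl)
      · exact (Commute.mul_right (hOz _ hdO) ez).eq
      · exact (Commute.mul_right hdu eu).eq
    · rintro ⟨d, e⟩ hq ⟨d', e'⟩ hq' heq
      obtain ⟨hd, he⟩ := Finset.mem_product.1 (Finset.mem_coe.1 hq)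
      obtain ⟨hd', he'⟩ := Finset.mem_product.1 (Finset.mem_coe.1 hq')
      simp only at heq hd he hd' he'
      have hv : d'⁻¹ * d = e' * e⁻¹ := by
        rw [eq_mul_inv_iff_mul_eq, mul_assoc, heq, inv_mul_cancel_left]
      have hei : e⁻¹ = e := inv_eq_of_mul_eq_one_right (hEsq e he).1
      have hv2 : (e' * e⁻¹) * (e' * e⁻¹) = 1 := by
        rw [hei, (hEcomm e he e' he').mul_mul_mul_comm, (hEsq e he).1, (hEsq e' he').1, one_mul]
      have h1 : d'⁻¹ * d = 1 := hinv _ (O.mul_mem (inv_mem (hDmem _ hd').1) (hDmem _ hd).1)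
        (hv ▸ hv2)
      have hde : d = d' := (inv_mul_eq_one.1 h1).symm
      subst hde
      rw [mul_left_cancel heq]
  have hfib : ∀ v : G, (∀ o ∈ O, (v * o = o * v) → u * o = o * u) →
      OF.card ≤ (OF.image fun o => o * v * o⁻¹).card * D.card := by
    intro v hv
    refine le_trans (Finset.card_le_mul_card_image OF D.card fun i hi => ?_) (le_of_eq (mul_comm _ _))
    obtain ⟨o₀, ho₀, rfl⟩ := Finset.mem_image.1 hi
    refine Finset.card_le_card_of_injOn (fun o => o₀⁻¹ * o) (fun o ho => ?_)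
      fun o _ o' _ h => mul_left_cancel h
    obtain ⟨hoF, heq⟩ := Finset.mem_filter.1 (Finset.mem_coe.1 ho)
    have h0 := (Finset.mem_filter.1 ho₀).2
    have hoO := (Finset.mem_filter.1 hoF).2
    have hmem : o₀⁻¹ * o ∈ O := O.mul_mem (inv_mem h0) hoO
    refine Finset.mem_coe.2 (Finset.mem_filter.2 ⟨Finset.mem_filter.2 ⟨Finset.mem_univ _, hmem⟩,
      hv _ hmem ?_⟩)
    calc v * (o₀⁻¹ * o) = o₀⁻¹ * (o₀ * v * o₀⁻¹) * o := by group
      _ = o₀⁻¹ * (o * v * o⁻¹) * o := by rw [heq]
      _ = o₀⁻¹ * o * v := by group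
  have hmemO : ∀ {i : G}, i ∈ OF → i ∈ O := fun h => (Finset.mem_filter.1 h).2
  refine ⟨OF.image fun o => o * u * o⁻¹, OF.image fun o => o * (z * u) * o⁻¹, ?_, ?_, ?_, ?_, ?_, ?_⟩
  · intro i hi
    obtain ⟨o, ho, rfl⟩ := Finset.mem_image.1 hi
    exact ⟨o, hmemO ho, rfl⟩
  · intro i hi
    obtain ⟨o, ho, rfl⟩ := Finset.mem_image.1 hi
    exact ⟨o, hmemO ho, rfl⟩
  · rw [Finset.disjoint_left]
    intro i hi hi'
    obtain ⟨o, ho, rfl⟩ := Finset.mem_image.1 hi
    obtain ⟨o', ho', heq⟩ := Finset.mem_image.1 hi'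
    have h1 : o'⁻¹ * o ∈ O := O.mul_mem (inv_mem (hmemO ho')) (hmemO ho)
    have hzv : z = (o'⁻¹ * o) * (u * (o⁻¹ * o') * u⁻¹) := by
      calc z = o'⁻¹ * (o' * (z * u) * o'⁻¹) * o' * u⁻¹ := by group
        _ = o'⁻¹ * (o * u * o⁻¹) * o' * u⁻¹ := by rw [heq]
        _ = _ := by group
    refine hz1 (hinv z ?_ hz)
    rw [hzv]
    exact O.mul_mem h1 (hOu _ (O.mul_mem (inv_mem (hmemO ho)) (hmemO ho')))
  · rw [← hOF]
    calc 4 * OF.card ≤ 4 * ((OF.image fun o => o * u * o⁻¹).card * D.card) :=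
          Nat.mul_le_mul_left 4 (hfib u fun o _ h => h)
      _ = (OF.image fun o => o * u * o⁻¹).card * (4 * D.card) := by ring
      _ ≤ _ := Nat.mul_le_mul_left _ hD
  · rw [← hOF]
    calc 4 * OF.card ≤ 4 * ((OF.image fun o => o * (z * u) * o⁻¹).card * D.card) :=
          Nat.mul_le_mul_left 4 (hfib (z * u) fun o ho h => by
            rw [mul_assoc, ← mul_assoc o, ← hOz o ho, mul_assoc z o] at h
            exact mul_left_cancel h)
      _ = (OF.image fun o => o * (z * u) * o⁻¹).card * (4 * D.card) := by ring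
      _ ≤ _ := Nat.mul_le_mul_left _ hD
  · intro i hi k hk
    obtain ⟨o, ho, rfl⟩ := Finset.mem_image.1 hi
    obtain ⟨o', ho', rfl⟩ := Finset.mem_image.1 hk
    have zo : Commute z o := hOz o (hmemO ho)
    have zo' : Commute z o' := hOz o' (hmemO ho')
    have zu : Commute z u := hcz
    have key : ∀ w ∈ O, (z * w) ^ M = z := fun w hw => by
      rw [Commute.mul_pow (hOz w hw), hOM w hw, mul_one]
      obtain ⟨m, hm⟩ := hM
      rw [hm, pow_succ, pow_mul, sq, hz, one_pow, one_mul]
    have zi : Commute z (o * u * o⁻¹) := (zo.mul_right zu).mul_right zo.inv_right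
    have hk' : o' * (z * u) * o'⁻¹ = z * (o' * u * o'⁻¹) := by
      simp only [← mul_assoc, zo'.eq]
    refine ⟨?_, ?_⟩
    · have e : o * u * o⁻¹ * (o' * (z * u) * o'⁻¹) =
          z * (o * (u * (o⁻¹ * o') * u⁻¹) * o'⁻¹) := by
        rw [hk', ← mul_assoc, ← zi.eq, hui]; group
      rw [e]
      exact key _ (O.mul_mem (O.mul_mem (hmemO ho) (hOu _ (O.mul_mem (inv_mem (hmemO ho))
        (hmemO ho')))) (inv_mem (hmemO ho')))
    · have e : o' * (z * u) * o'⁻¹ * (o * u * o⁻¹) =
          z * (o' * (u * (o'⁻¹ * o) * u⁻¹) * o⁻¹) := by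
        rw [hk', hui]; group
      rw [e]
      exact key _ (O.mul_mem (O.mul_mem (hmemO ho') (hOu _ (O.mul_mem (inv_mem (hmemO ho'))
        (hmemO ho)))) (inv_mem (hmemO ho)))

/-- Pairs with different prescribed `2`-parts are different. -/
theorem count_bound [DecidableEq G] {I Z : Finset G} {L c M : ℕ}
    (h : ∀ z ∈ Z, ∃ X Y : Finset G, X ⊆ I ∧ Y ⊆ I ∧ Disjoint X Y ∧ L ≤ X.card * c ∧
      L ≤ Y.card * c ∧ ∀ i ∈ X, ∀ k ∈ Y, (i * k) ^ M = z ∧ (k * i) ^ M = z) :
    2 * Z.card * L ^ 2 ≤ I.card ^ 2 * c ^ 2 := by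
  choose! X Y hX hY hdisj hLX hLY hpow using h
  let F : G → Finset (G × G) := fun z => X z ×ˢ Y z ∪ Y z ×ˢ X z
  have hcard : ∀ z ∈ Z, (F z).card = 2 * ((X z).card * (Y z).card) := by
    intro z hz
    rw [Finset.card_union_of_disjoint, Finset.card_product, Finset.card_product]
    · ring
    · rw [Finset.disjoint_left]
      rintro ⟨i, k⟩ h1 h2
      exact Finset.disjoint_left.1 (hdisj z hz) (Finset.mem_product.1 h1).1
        (Finset.mem_product.1 h2).1
  have hd : (Z : Set G).PairwiseDisjoint F := by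
    intro z hz z' hz' hne
    rw [Function.onFun, Finset.disjoint_left]
    rintro ⟨i, k⟩ h1 h2
    have key : ∀ w ∈ Z, (i, k) ∈ F w → (i * k) ^ M = w := fun w hw hm => by
      rcases Finset.mem_union.1 hm with e | e
      · exact (hpow w hw i (Finset.mem_product.1 e).1 k (Finset.mem_product.1 e).2).1
      · exact (hpow w hw k (Finset.mem_product.1 e).2 i (Finset.mem_product.1 e).1).2
    exact hne ((key z hz h1).symm.trans (key z' hz' h2))
  have hle : ∑ z ∈ Z, (F z).card ≤ I.card ^ 2 := by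
    rw [← Finset.card_biUnion hd, sq, ← Finset.card_product]
    refine Finset.card_le_card (Finset.biUnion_subset.2 fun z hz => ?_)
    exact Finset.union_subset (Finset.product_subset_product (hX z hz) (hY z hz))
      (Finset.product_subset_product (hY z hz) (hX z hz))
  calc 2 * Z.card * L ^ 2 = ∑ _z ∈ Z, 2 * (L * L) := by
        rw [Finset.sum_const, smul_eq_mul]; ring
    _ ≤ ∑ z ∈ Z, (F z).card * c ^ 2 := Finset.sum_le_sum fun z hz => by
        rw [hcard z hz]
        have := Nat.mul_le_mul (hLX z hz) (hLY z hz)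
        nlinarith
    _ ≤ _ := by
        rw [← Finset.sum_mul]
        exact Nat.mul_le_mul_right _ hle

end CfsgLib.Deg3P
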