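/-
An odd order subgroup of two-power index with trivial core: its conjugates cover more than four
times its order.
-/
import Mathlib.GroupTheory.IndexNormal
import Mathlib.GroupTheory.GroupAction.Quotient
import Mathlib.Algebra.Order.Chebyshev
import Mathlib.GroupTheory.PGroup
import Mathlib.Tactic.Linarith
import Mathlib.Tactic.Ring
import Mathlib.Tactic.IntervalCases

set_option autoImplicit false
set_option linter.style.haveILetI false
set_option linter.unusedSectionVars false

namespace CfsgLib.Deg3P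

universe u v

/-- A lower bound for a union of equally large sets with small pairwise intersections. -/
theorem union_bound {α : Type v} [DecidableEq α] {ι : Type u} [DecidableEq ι] (I : Finset ι)
    (A : ι → Finset α) (U : Finset α) (hA : ∀ i ∈ I, A i ⊆ U) {a b : ℕ}
    (ha : ∀ i ∈ I, (A i).card = a) (hb : ∀ i ∈ I, ∀ k ∈ I, i ≠ k → (A i ∩ A k).card ≤ b) :
    (I.card * a) ^ 2 ≤ U.card * (I.card * (a + (I.card - 1) * b)) := by
  have h1 : ∑ u ∈ U, (∑ i ∈ I, if u ∈ A i then 1 else 0) = I.card * a := by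
    rw [Finset.sum_comm, Finset.sum_congr rfl fun i hi => show
      (∑ u ∈ U, if u ∈ A i then 1 else 0) = a by
      rw [Finset.sum_boole, Nat.cast_id, Finset.filter_mem_eq_inter,
        Finset.inter_eq_right.2 (hA i hi), ha i hi], Finset.sum_const, smul_eq_mul]
  have h2 : ∑ u ∈ U, (∑ i ∈ I, if u ∈ A i then 1 else 0) ^ 2 ≤
      I.card * (a + (I.card - 1) * b) := by
    calc ∑ u ∈ U, (∑ i ∈ I, if u ∈ A i then 1 else 0) ^ 2
        = ∑ i ∈ I, ∑ k ∈ I, (A i ∩ A k).card := by
          simp only [sq, Finset.sum_mul_sum]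
          rw [Finset.sum_comm]
          refine Finset.sum_congr rfl fun i hi => ?_
          rw [Finset.sum_comm]
          refine Finset.sum_congr rfl fun k hk => ?_
          simp only [← ite_and, mul_ite, mul_one, mul_zero]
          rw [Finset.sum_boole, Nat.cast_id]
          congr 1
          ext u
          simp only [Finset.mem_filter, Finset.mem_inter]
          exact ⟨fun h => ⟨h.2.2, h.2.1⟩, fun h => ⟨hA i hi h.1, h.2, h.1⟩⟩
      _ ≤ ∑ i ∈ I, (a + (I.card - 1) * b) := Finset.sum_le_sum fun i hi => by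
          rw [← Finset.add_sum_erase _ _ hi, Finset.inter_self, ha i hi]
          refine Nat.add_le_add_left ?_ _
          refine (Finset.sum_le_card_nsmul _ _ b fun k hk => hb i hi k (Finset.mem_of_mem_erase hk)
            (Finset.ne_of_mem_erase hk).symm).trans ?_
          rw [Finset.card_erase_of_mem hi, smul_eq_mul]
      _ = _ := by rw [Finset.sum_const, smul_eq_mul]
  calc (I.card * a) ^ 2 = (∑ u ∈ U, (∑ i ∈ I, if u ∈ A i then 1 else 0)) ^ 2 := by rw [h1]
    _ ≤ U.card * ∑ u ∈ U, (∑ i ∈ I, if u ∈ A i then 1 else 0) ^ 2 := sq_sum_le_card_mul_sum_sq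
    _ ≤ _ := Nat.mul_le_mul_left _ h2

variable {C : Type u} [Group C] [Fintype C]

/-- The conjugate by `c`. -/
def cj (H : Subgroup C) (c : C) : Subgroup C := H.map (MulAut.conj c).toMonoidHom

theorem mem_cj {H : Subgroup C} {c g : C} : g ∈ cj H c ↔ c⁻¹ * g * c ∈ H := by
  constructor
  · rintro ⟨y, hy, rfl⟩
    simpa [mul_assoc] using hy
  · exact fun h => ⟨c⁻¹ * g * c, h, by simp [mul_assoc]⟩

theorem cj_cj (H : Subgroup C) (c d : C) : cj (cj H d) c = cj H (c * d) := by
  ext g
  simp only [mem_cj, mul_inv_rev, mul_assoc]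

theorem card_cj (H : Subgroup C) (c : C) : Nat.card (cj H c) = Nat.card H :=
  (Nat.card_congr (H.equivMapOfInjective _ (MulAut.conj c).injective).toEquiv).symm

theorem cj_eq_self_iff (H : Subgroup C) (c : C) :
    cj H c = H ↔ c ∈ Subgroup.normalizer (H : Set C) := by
  rw [Subgroup.mem_normalizer_iff'', SetLike.ext_iff]
  simp only [mem_cj]
  exact forall_congr' fun g => Iff.comm

theorem mem_of_pow_two {N : Subgroup C} (n : ℕ) {g : C} (ho : Odd n) (hn : g ^ n = 1)
    (h2 : g * g ∈ N) : g ∈ N := by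
  obtain ⟨m, hm⟩ := ho
  have h : g = ((g * g) ^ m)⁻¹ := by
    rw [eq_inv_iff_mul_eq_one, ← sq, ← pow_mul, ← pow_succ', ← hm, hn]
  rw [h]
  exact inv_mem (pow_mem h2 m)

variable {H : Subgroup C} (hodd : Odd (Nat.card H)) (hidx : ∃ v, H.index = 2 ^ v)
include hodd hidx

theorem index_cj (c : C) : ∃ v, (cj H c).index = 2 ^ v := by
  obtain ⟨v, hv⟩ := hidx
  refine ⟨v, ?_⟩
  have h1 := (cj H c).card_mul_index
  rw [card_cj, ← H.card_mul_index] at h1
  rw [Nat.eq_of_mul_eq_mul_left Nat.card_pos h1, hv]

/-- An element of odd order normalising a conjugate lies in it. -/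
theorem mem_of_normalizes (c : C) {g : C} (hg : Odd (orderOf g))
    (hn : g ∈ Subgroup.normalizer (cj H c : Set C)) : g ∈ cj H c := by
  obtain ⟨v, hv⟩ := index_cj hodd hidx c
  set N := Subgroup.normalizer (cj H c : Set C)
  haveI : ((cj H c).subgroupOf N).Normal := Subgroup.normal_in_normalizer
  have hd : ((cj H c).subgroupOf N).index ∣ 2 ^ v :=
    hv ▸ Subgroup.relIndex_dvd_index_of_le Subgroup.le_normalizer
  have h1 : orderOf ((QuotientGroup.mk ⟨g, hn⟩ : N ⧸ (cj H c).subgroupOf N)) ∣ 2 ^ v :=
    (orderOf_dvd_natCard _).trans hd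
  have h2 : orderOf ((QuotientGroup.mk ⟨g, hn⟩ : N ⧸ (cj H c).subgroupOf N)) ∣ orderOf g := by
    rw [orderOf_dvd_iff_pow_eq_one, ← QuotientGroup.mk_pow,
      show (⟨g, hn⟩ : N) ^ orderOf g = 1 from Subtype.ext (pow_orderOf_eq_one g),
      QuotientGroup.mk_one]
  have h3 := Nat.dvd_gcd h2 h1
  rw [Nat.Coprime.pow_right v (Nat.coprime_two_right.2 hg), Nat.dvd_one, orderOf_eq_one_iff,
    QuotientGroup.eq_one_iff, Subgroup.mem_subgroupOf] at h3
  exact h3

theorem odd_orderOf (c : C) {g : C} (hg : g ∈ cj H c) : Odd (orderOf g) :=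
  Odd.of_dvd_nat hodd (card_cj H c ▸ Subgroup.orderOf_dvd_natCard _ hg)

/-- An odd order subgroup containing a conjugate equals it. -/
theorem eq_of_odd_le (c : C) {K : Subgroup C} (hK : Odd (Nat.card K)) (hle : cj H c ≤ K) :
    cj H c = K := by
  obtain ⟨v, hv⟩ := hidx
  refine Subgroup.eq_of_le_of_card_ge hle ?_
  have h1 := Subgroup.card_subgroup_dvd_card K
  rw [← H.card_mul_index, hv] at h1
  have h2 := (Nat.Coprime.pow_right v (Nat.coprime_two_right.2 hK)).dvd_of_dvd_mul_right h1
  rw [card_cj]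
  exact Nat.le_of_dvd Nat.card_pos h2

/-- Distinct conjugates meet in a subgroup of odd index at least three. -/
theorem meet_index (c d : C) (hne : cj H c ≠ cj H d) :
    ∃ k, Odd k ∧ 3 ≤ k ∧ k * Nat.card (cj H c ⊓ cj H d : Subgroup C) = Nat.card H := by
  obtain ⟨k, hk⟩ := Subgroup.card_dvd_of_le (inf_le_left : cj H c ⊓ cj H d ≤ cj H c)
  rw [card_cj] at hk
  have hko : Odd k := Odd.of_dvd_nat hodd ⟨_, hk.trans (mul_comm _ _)⟩
  refine ⟨k, hko, ?_, by rw [hk, mul_comm]⟩
  by_contra h
  have hk1 : k = 1 := by rw [Nat.odd_iff] at hko; omega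
  rw [hk1, mul_one] at hk
  refine hne ?_
  have e1 := Subgroup.eq_of_le_of_card_ge (inf_le_left : cj H c ⊓ cj H d ≤ cj H c)
    (by rw [card_cj, hk])
  exact Subgroup.eq_of_le_of_card_ge (inf_eq_left.1 e1) (by rw [card_cj, card_cj])

theorem exists_eq_cj_of_mem [DecidableEq (Subgroup C)] (s : Finset C) {L : Subgroup C}
    (h : L ∈ s.image fun c => cj H c) : ∃ c ∈ s, L = cj H c := by
  obtain ⟨c, hc, rfl⟩ := Finset.mem_image.1 h
  exact ⟨c, hc, rfl⟩

/-- The number of conjugates is a power of two, at least eight. -/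
theorem conj_count (hcore : H.normalCore = ⊥) (h5 : 5 ≤ Nat.card H) [DecidableEq (Subgroup C)] :
    8 ≤ (Finset.univ.image fun c => cj H c).card ∧
      ∃ i, (Finset.univ.image fun c => cj H c).card = 2 ^ i := by
  classical
  set N := Subgroup.normalizer (H : Set C) with hN
  set 𝓛 := Finset.univ.image fun c : C => cj H c
  have hcount : 𝓛.card = N.index := by
    have hfib : ∀ L ∈ 𝓛, (Finset.univ.filter fun c : C => cj H c = L).card = Nat.card N := by
      intro L hL
      obtain ⟨c₀, -, rfl⟩ := Finset.mem_image.1 hL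
      rw [Nat.card_eq_fintype_card, Fintype.card_subtype]
      refine Finset.card_bij (fun c _ => c₀⁻¹ * c) (fun c hc => ?_)
        (fun _ _ _ _ e => mul_left_cancel e)
        (fun n hn => ⟨c₀ * n, ?_, inv_mul_cancel_left c₀ n⟩)
      · refine Finset.mem_filter.2 ⟨Finset.mem_univ _, (cj_eq_self_iff H _).1 ?_⟩
        rw [← cj_cj, (Finset.mem_filter.1 hc).2, cj_cj, inv_mul_cancel]
        ext g; simp [mem_cj]
      · refine Finset.mem_filter.2 ⟨Finset.mem_univ _, ?_⟩
        rw [← cj_cj, (cj_eq_self_iff H n).2 (Finset.mem_filter.1 hn).2]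
    have h1 := Finset.card_eq_sum_card_image (fun c : C => cj H c) (Finset.univ : Finset C)
    rw [Finset.sum_congr rfl hfib, Finset.sum_const, smul_eq_mul, Finset.card_univ,
      ← Nat.card_eq_fintype_card, ← N.card_mul_index, mul_comm] at h1
    exact (Nat.eq_of_mul_eq_mul_right Nat.card_pos h1).symm
  obtain ⟨v, hv⟩ := hidx
  obtain ⟨i, -, hi⟩ := (Nat.dvd_prime_pow Nat.prime_two).1
    (hv ▸ Subgroup.index_dvd_of_le Subgroup.le_normalizer : N.index ∣ 2 ^ v)
  refine ⟨?_, i, hcount.trans hi⟩
  by_contra hlt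
  have h4 : N.index ∣ 4 := by
    rw [hi, show (4 : ℕ) = 2 ^ 2 from rfl]
    refine Nat.pow_dvd_pow 2 ?_
    by_contra h
    have := Nat.pow_le_pow_right (show 0 < 2 by norm_num) (show 3 ≤ i by omega)
    omega
  set K := N.normalCore with hK
  have hKidx : K.index ∣ 24 := by
    rw [hK, Subgroup.normalCore_eq_ker, Subgroup.index_ker]
    refine (Subgroup.card_subgroup_dvd_card _).trans ?_
    rw [Nat.card_perm, ← Subgroup.index_eq_card]
    have hle := Nat.le_of_dvd (by norm_num) h4
    exact (Nat.factorial_dvd_factorial hle).trans (dvd_of_eq rfl)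
  have hrel : (H ⊓ K).relIndex H ∣ 3 := by
    rw [inf_comm, Subgroup.inf_relIndex_right]
    have h1 : K.relIndex H ∣ Nat.card H := Subgroup.relIndex_dvd_card K H
    have h2 : K.relIndex H ∣ 2 ^ 3 * 3 := (Subgroup.relIndex_dvd_index_of_normal K H).trans hKidx
    have ho : Odd (K.relIndex H) := Odd.of_dvd_nat hodd h1
    exact (Nat.Coprime.pow_right 3 (Nat.coprime_two_right.2 ho)).dvd_of_dvd_mul_left h2
  have hne : H ⊓ K ≠ ⊥ := fun e => by
    rw [e, Subgroup.relIndex_bot_left] at hrel
    have := Nat.le_of_dvd (by norm_num) hrel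
    omega
  refine hne ?_
  rw [Subgroup.eq_bot_iff_forall]
  intro g hg
  rw [← Subgroup.mem_bot, ← hcore]
  intro b
  have hgodd : Odd (orderOf g) :=
    Odd.of_dvd_nat hodd (Subgroup.orderOf_dvd_natCard H hg.1)
  have hnorm : g ∈ Subgroup.normalizer (cj H b⁻¹ : Set C) := by
    rw [← cj_eq_self_iff, cj_cj]
    have hb : b * g * b⁻¹ ∈ N := hg.2 b
    rw [show g * b⁻¹ = b⁻¹ * (b * g * b⁻¹) by group, ← cj_cj,
      (cj_eq_self_iff H (b * g * b⁻¹)).2 hb]
  have h := mem_cj.1 (mem_of_normalizes hodd ⟨v, hv⟩ b⁻¹ hgodd hnorm)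
  rwa [inv_inv] at h

/-- The conjugates cover more than four times the order. -/
theorem hall_union (hcore : H.normalCore = ⊥) (h5 : 5 ≤ Nat.card H) :
    4 * Nat.card H < Nat.card {g : C // ∃ c, g ∈ cj H c} := by
  classical
  set h := Nat.card H with hh
  set 𝓛 := Finset.univ.image fun c : C => cj H c with h𝓛
  obtain ⟨h8', i₀, hi₀'⟩ := conj_count hodd hidx hcore h5
  have h8 : 8 ≤ 𝓛.card := by convert h8'
  have hi₀ : 𝓛.card = 2 ^ i₀ := by convert hi₀'
  let el : Subgroup C → Finset C := fun L => Finset.univ.filter fun g => g ∈ L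
  have hel : ∀ L : Subgroup C, (el L).card = Nat.card L := fun L => by
    rw [Nat.card_eq_fintype_card, Fintype.card_subtype]
  have helinter : ∀ L L' : Subgroup C, el L ∩ el L' = el (L ⊓ L') := fun L L' => by
    ext g; simp [el, Subgroup.mem_inf]
  let U := Finset.univ.filter fun g : C => ∃ c, g ∈ cj H c
  have hU : Nat.card {g : C // ∃ c, g ∈ cj H c} = U.card := by
    rw [Nat.card_eq_fintype_card, Fintype.card_subtype]
  rw [hU]
  have hsub : ∀ L ∈ 𝓛, el L ⊆ U := fun L hL g hg => by
    obtain ⟨c, -, rfl⟩ := Finset.mem_image.1 hL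
    exact Finset.mem_filter.2 ⟨Finset.mem_univ _, c, (Finset.mem_filter.1 hg).2⟩
  have hcard : ∀ L ∈ 𝓛, Nat.card L = h := fun L hL => by
    obtain ⟨c, -, rfl⟩ := Finset.mem_image.1 hL
    exact card_cj H c
  have hmeet : ∀ L ∈ 𝓛, ∀ L' ∈ 𝓛, L ≠ L' →
      ∃ k, Odd k ∧ 3 ≤ k ∧ k * Nat.card (L ⊓ L' : Subgroup C) = h := by
    intro L hL L' hL' hne
    obtain ⟨c, -, rfl⟩ := Finset.mem_image.1 hL
    obtain ⟨d, -, rfl⟩ := Finset.mem_image.1 hL'
    exact meet_index hodd hidx c d hne
  by_cases hA : ∃ L ∈ 𝓛, ∃ L' ∈ 𝓛, L ≠ L' ∧ 3 * Nat.card (L ⊓ L' : Subgroup C) = h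
  · obtain ⟨L, hL, L', hL', hne, h3⟩ := hA
    set J := L ⊓ L' with hJ
    set d := Nat.card J with hd
    let F := 𝓛.filter fun R => J ≤ R
    let NJ := Subgroup.normalizer (J : Set C)
    have hFnorm : ∀ R ∈ F, R ≤ NJ := by
      intro R hR
      obtain ⟨hR𝓛, hJR⟩ := Finset.mem_filter.1 hR
      have hidx3 : (J.subgroupOf R).index = 3 := by
        have e := (J.subgroupOf R).card_mul_index
        rw [Nat.card_congr (Subgroup.subgroupOfEquivOfLe hJR).toEquiv, hcard R hR𝓛, ← h3,
          mul_comm 3] at e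
        exact Nat.eq_of_mul_eq_mul_left Nat.card_pos e
      haveI : (J.subgroupOf R).Normal := by
        refine Subgroup.normal_of_index_eq_minFac_card ?_
        rw [hidx3, hcard R hR𝓛]
        refine (le_antisymm (Nat.minFac_le_of_dvd (by norm_num) ⟨_, h3.symm⟩) ?_).symm
        have hp := Nat.minFac_prime (show h ≠ 1 by omega)
        have hne2 : Nat.minFac h ≠ 2 := fun e => by
          have := Nat.minFac_dvd h
          rw [e] at this
          rw [Nat.odd_iff] at hodd
          omega
        have := hp.two_le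
        omega
      exact (Subgroup.normal_subgroupOf_iff_le_normalizer hJR).1 ‹_›
    have hLF : L ∈ F := Finset.mem_filter.2 ⟨hL, inf_le_left⟩
    have hL'F : L' ∈ F := Finset.mem_filter.2 ⟨hL', inf_le_right⟩
    have hF4 : 4 ≤ F.card := by
      let M := Subgroup.normalizer (L : Set C)
      obtain ⟨c, -, rfl⟩ := Finset.mem_image.1 hL
      let Nf := Finset.univ.filter fun n : C => n ∈ NJ
      let 𝓢 := Nf.image fun n => cj (cj H c) n
      have hsubF : 𝓢 ⊆ F := by
        intro R hR
        obtain ⟨n, hn, rfl⟩ := Finset.mem_image.1 hR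
        refine Finset.mem_filter.2 ⟨Finset.mem_image.2 ⟨n * c, Finset.mem_univ _,
          (cj_cj H n c).symm⟩, fun g hg => mem_cj.2 ?_⟩
        exact (hJ ▸ inf_le_left : J ≤ cj H c)
          ((Subgroup.mem_normalizer_iff''.1 (Finset.mem_filter.1 hn).2 g).1 hg)
      have hS : 𝓢.card = M.relIndex NJ := by
        have hfib : ∀ R ∈ 𝓢, (Nf.filter fun n => cj (cj H c) n = R).card =
            Nat.card (M.subgroupOf NJ) := by
          intro R hR
          obtain ⟨n₀, hn₀, rfl⟩ := Finset.mem_image.1 hR
          rw [Nat.card_eq_fintype_card, Fintype.card_subtype]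
          refine Finset.card_bij (fun n hn => ⟨n₀⁻¹ * n, NJ.mul_mem
              (inv_mem (Finset.mem_filter.1 hn₀).2)
              (Finset.mem_filter.1 (Finset.mem_filter.1 hn).1).2⟩) (fun n hn => ?_)
            (fun _ _ _ _ e => mul_left_cancel (congrArg Subtype.val e))
            (fun m hm => ⟨n₀ * (m : C), ?_, Subtype.ext (inv_mul_cancel_left n₀ (m : C))⟩)
          · refine Finset.mem_filter.2 ⟨Finset.mem_univ _, ?_⟩
            show n₀⁻¹ * n ∈ M
            refine (cj_eq_self_iff (cj H c) _).1 ?_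
            rw [← cj_cj, (Finset.mem_filter.1 hn).2, cj_cj, inv_mul_cancel]
            ext g; simp [mem_cj]
          · refine Finset.mem_filter.2 ⟨Finset.mem_filter.2 ⟨Finset.mem_univ _,
              NJ.mul_mem (Finset.mem_filter.1 hn₀).2 m.2⟩, ?_⟩
            rw [← cj_cj, (cj_eq_self_iff (cj H c) (m : C)).2 (Finset.mem_filter.1 hm).2]
        have h1 := Finset.card_eq_sum_card_image (fun n : C => cj (cj H c) n) Nf
        have hNf : Nf.card = Nat.card NJ := by
          rw [Nat.card_eq_fintype_card, Fintype.card_subtype]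
        rw [Finset.sum_congr rfl hfib, Finset.sum_const, smul_eq_mul, hNf,
          ← (M.subgroupOf NJ).card_mul_index, mul_comm] at h1
        exact (Nat.eq_of_mul_eq_mul_right Nat.card_pos h1).symm
      obtain ⟨v, hv⟩ := index_cj hodd hidx c
      have hLNJ := hFnorm _ hLF
      have hdvd : (M.subgroupOf NJ).index ∣ 2 ^ v := by
        rw [← hv]
        exact (Subgroup.index_dvd_of_le (fun g hg =>
          Subgroup.le_normalizer (Subgroup.mem_subgroupOf.1 hg) :
            (cj H c).subgroupOf NJ ≤ M.subgroupOf NJ)).trans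
          (Subgroup.relIndex_dvd_index_of_le hLNJ)
      obtain ⟨i, -, hi⟩ := (Nat.dvd_prime_pow Nat.prime_two).1 hdvd
      refine le_trans ?_ (Finset.card_le_card hsubF)
      rw [hS]
      show 4 ≤ (M.subgroupOf NJ).index
      rw [hi]
      obtain ⟨g, hg, hgL⟩ : ∃ g ∈ L', g ∉ cj H c := by
        by_contra hcon
        push Not at hcon
        exact hne (Subgroup.eq_of_le_of_card_ge hcon (by rw [card_cj, hcard L' hL'])).symm
      obtain ⟨c', -, rfl⟩ := Finset.mem_image.1 hL'
      have hgodd := odd_orderOf hodd hidx c' hg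
      have hgM : g ∉ M := fun h => hgL (mem_of_normalizes hodd hidx c hgodd h)
      match i, hi with
      | 0, hi =>
        exfalso
        rw [pow_zero, Subgroup.index_eq_one] at hi
        exact hgM (Subgroup.mem_subgroupOf.1
          (hi ▸ Subgroup.mem_top (⟨g, hFnorm _ hL'F hg⟩ : NJ)))
      | 1, hi =>
        exfalso
        rw [pow_one] at hi
        exact hgM (mem_of_pow_two (orderOf g) hgodd (pow_orderOf_eq_one g)
          (Subgroup.mem_subgroupOf.1 (Subgroup.mul_self_mem_of_index_two hi
            (⟨g, hFnorm _ hL'F hg⟩ : NJ))))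
      | (i + 2), hi => exact Nat.pow_le_pow_right (show 0 < 2 by norm_num) (show 2 ≤ i + 2 by omega)
    -- members of `F` meet in `J`
    have hFmeet : ∀ R ∈ F, ∀ S ∈ F, R ≠ S → R ⊓ S = J := by
      intro R hR S hS hne'
      obtain ⟨k, -, hk3, hk⟩ := hmeet R (Finset.mem_filter.1 hR).1 S (Finset.mem_filter.1 hS).1 hne'
      refine (Subgroup.eq_of_le_of_card_ge
        (le_inf (Finset.mem_filter.1 hR).2 (Finset.mem_filter.1 hS).2) ?_).symm
      have := Nat.mul_le_mul_right (Nat.card (R ⊓ S : Subgroup C)) hk3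
      omega
    let UF := F.biUnion el
    have hUF : el J ⊆ UF ∧ UF.card = d + F.card * (2 * d) := by
      have hsplit : UF = el J ∪ F.biUnion fun R => el R \ el J := by
        ext g
        simp only [UF, el, Finset.mem_biUnion, Finset.mem_union, Finset.mem_sdiff, Finset.mem_filter,
          Finset.mem_univ, true_and]
        refine ⟨fun ⟨R, hR, hg⟩ => ?_, ?_⟩
        · by_cases hgJ : g ∈ J
          · exact Or.inl hgJ
          · exact Or.inr ⟨R, hR, hg, hgJ⟩
        · rintro (hg | ⟨R, hR, hg, -⟩)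
          · exact ⟨L, hLF, (Finset.mem_filter.1 hLF).2 hg⟩
          · exact ⟨R, hR, hg⟩
      refine ⟨by rw [hsplit]; exact Finset.subset_union_left, ?_⟩
      rw [hsplit, Finset.card_union_of_disjoint, hel, Finset.card_biUnion, Finset.sum_congr rfl
        (g := fun _ => 2 * d) fun R hR => ?_, Finset.sum_const, smul_eq_mul]
      · rw [Finset.card_sdiff_of_subset, hel, hel, hcard R (Finset.mem_filter.1 hR).1]
        · omega
        · intro g hg
          simp only [el, Finset.mem_filter, Finset.mem_univ, true_and] at hg ⊢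
          exact (Finset.mem_filter.1 hR).2 hg
      · intro R hR S hS hne'
        rw [Function.onFun, Finset.disjoint_left]
        intro g hg hg'
        simp only [el, Finset.mem_sdiff, Finset.mem_filter, Finset.mem_univ, true_and] at hg hg'
        exact hg.2 (hFmeet R hR S hS hne' ▸ ⟨hg.1, hg'.1⟩)
      · rw [Finset.disjoint_left]
        intro g hg hg'
        obtain ⟨R, -, hgR⟩ := Finset.mem_biUnion.1 hg'
        exact (Finset.mem_sdiff.1 hgR).2 hg
    have hUFsub : UF ⊆ U := Finset.biUnion_subset.2 fun R hR => hsub R (Finset.mem_filter.1 hR).1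
    have hout : ∀ R ∈ 𝓛, R ∉ F → (el R ∩ UF).card ≤ d := by
      intro R hR hRF
      have hnot : ¬ R ≤ NJ := by
        intro hle
        refine hRF (Finset.mem_filter.2 ⟨hR, ?_⟩)
        obtain ⟨c, -, rfl⟩ := Finset.mem_image.1 hR
        haveI : (J.subgroupOf NJ).Normal := Subgroup.normal_in_normalizer
        let K := (cj H c).subgroupOf NJ ⊔ J.subgroupOf NJ
        have hK : Odd (Nat.card K) := by
          have e := ((J.subgroupOf NJ).subgroupOf K).card_mul_index
          rw [Nat.card_congr (Subgroup.subgroupOfEquivOfLe le_sup_right).toEquiv,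
            Nat.card_congr (Subgroup.subgroupOfEquivOfLe Subgroup.le_normalizer).toEquiv] at e
          rw [← e]
          refine Odd.mul ?_ ?_
          · exact Odd.of_dvd_nat hodd ⟨3, by omega⟩
          · refine Odd.of_dvd_nat hodd ?_
            show (J.subgroupOf NJ).relIndex ((cj H c).subgroupOf NJ ⊔ J.subgroupOf NJ) ∣ _
            rw [Subgroup.relIndex_sup_right]
            exact (Subgroup.relIndex_dvd_card _ _).trans (dvd_of_eq
              ((Nat.card_congr (Subgroup.subgroupOfEquivOfLe hle).toEquiv).trans (card_cj H c)))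
        have heq := eq_of_odd_le hodd hidx c (K := K.map NJ.subtype)
          (by rwa [← Nat.card_congr (K.equivMapOfInjective _ NJ.subtype_injective).toEquiv])
          fun g hg => ⟨⟨g, hle hg⟩, Subgroup.mem_sup_left (Subgroup.mem_subgroupOf.2 hg), rfl⟩
        intro g hg
        rw [heq]
        exact ⟨⟨g, Subgroup.le_normalizer hg⟩,
          Subgroup.mem_sup_right (Subgroup.mem_subgroupOf.2 hg), rfl⟩
      have hsubN : el R ∩ UF ⊆ el (R ⊓ NJ) := by
        intro g hg
        obtain ⟨hgR, hgU⟩ := Finset.mem_inter.1 hg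
        obtain ⟨S, hS, hgS⟩ := Finset.mem_biUnion.1 hgU
        exact Finset.mem_filter.2 ⟨Finset.mem_univ _, (Finset.mem_filter.1 hgR).2,
          hFnorm S hS (Finset.mem_filter.1 hgS).2⟩
      refine (Finset.card_le_card hsubN).trans ?_
      rw [hel]
      obtain ⟨k, hk⟩ := Subgroup.card_dvd_of_le (inf_le_left : R ⊓ NJ ≤ R)
      rw [hcard R hR] at hk
      have hko : Odd k := Odd.of_dvd_nat hodd ⟨_, hk.trans (mul_comm _ _)⟩
      have hk3 : 3 ≤ k := by
        by_contra hlt
        have hk1 : k = 1 := by rw [Nat.odd_iff] at hko; omega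
        rw [hk1, mul_one] at hk
        exact hnot (inf_eq_left.1 (Subgroup.eq_of_le_of_card_ge inf_le_left
          (by rw [hcard R hR, hk])))
      have := Nat.mul_le_mul_left (Nat.card (R ⊓ NJ : Subgroup C)) hk3
      omega
    have hd0 : 0 < d := Nat.card_pos
    have hh3 : h = 3 * d := h3.symm
    by_cases hm : 6 ≤ F.card
    · have := Finset.card_le_card hUFsub
      rw [hUF.2] at this
      have := Nat.mul_le_mul_right (2 * d) hm
      omega
    obtain ⟨R, hR, hRF⟩ : ∃ R ∈ 𝓛, R ∉ F := by
      by_contra hcon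
      push Not at hcon
      have := Finset.card_le_card hcon
      omega
    have hsdiff : ∀ (S : Finset C) (T : Subgroup C), T ∈ 𝓛 → ∀ n, (el T ∩ S).card ≤ n →
        S.card + h ≤ (S ∪ el T).card + n := by
      intro S T hT n hn
      have e := Finset.card_union_add_card_inter S (el T)
      rw [hel, hcard T hT, Finset.inter_comm] at e
      omega
    have h1 := hsdiff UF R hR d (hout R hR hRF)
    have hsub1 : UF ∪ el R ⊆ U := Finset.union_subset hUFsub (hsub R hR)
    by_cases hm5 : 5 ≤ F.card
    · have := Finset.card_le_card hsub1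
      rw [hUF.2] at h1
      have := Nat.mul_le_mul_right (2 * d) hm5
      omega
    obtain ⟨R', hR', hR'F, hne'⟩ : ∃ R' ∈ 𝓛, R' ∉ F ∧ R' ≠ R := by
      by_contra hcon
      push Not at hcon
      have hss : 𝓛 ⊆ insert R F := fun S hS => by
        rw [Finset.mem_insert]
        by_cases hSF : S ∈ F
        · exact Or.inr hSF
        · exact Or.inl (hcon S hS hSF)
      have := (Finset.card_le_card hss).trans (Finset.card_insert_le _ _)
      omega
    have h2 : (el R' ∩ (UF ∪ el R)).card ≤ 2 * d - 1 := by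
      rw [Finset.inter_union_distrib_left]
      have hu := Finset.card_union_add_card_inter (el R' ∩ UF) (el R' ∩ el R)
      have hone : 0 < ((el R' ∩ UF) ∩ (el R' ∩ el R)).card := Finset.card_pos.2 ⟨1, by
        simp only [Finset.mem_inter, el, Finset.mem_filter, Finset.mem_univ, true_and]
        refine ⟨⟨R'.one_mem, ?_⟩, R'.one_mem, R.one_mem⟩
        exact hUF.1 (Finset.mem_filter.2 ⟨Finset.mem_univ _, J.one_mem⟩)⟩
      have e1 := hout R' hR' hR'F
      have e2 : (el R' ∩ el R).card ≤ d := by
        obtain ⟨k, -, hk3, hk⟩ := hmeet R' hR' R hR hne'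
        rw [helinter, hel]
        have := Nat.mul_le_mul_right (Nat.card (R' ⊓ R : Subgroup C)) hk3
        omega
      omega
    have h3' := hsdiff (UF ∪ el R) R' hR' (2 * d - 1) h2
    have := Finset.card_le_card (Finset.union_subset hsub1 (hsub R' hR') :
      UF ∪ el R ∪ el R' ⊆ U)
    rw [hUF.2] at h1
    have := Nat.mul_le_mul_right (2 * d) hF4
    omega
  · push Not at hA
    have h5k : ∀ L ∈ 𝓛, ∀ L' ∈ 𝓛, L ≠ L' →
        ∃ k, Odd k ∧ 5 ≤ k ∧ k * Nat.card (L ⊓ L' : Subgroup C) = h := by
      intro L hL L' hL' hne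
      obtain ⟨k, hko, hk3, hk⟩ := hmeet L hL L' hL' hne
      refine ⟨k, hko, ?_, hk⟩
      by_contra hlt
      have : k = 3 := by rw [Nat.odd_iff] at hko; omega
      exact hA L hL L' hL' hne (this ▸ hk)
    let U₁ := U.erase 1
    have h1U : (1 : C) ∈ U := Finset.mem_filter.2 ⟨Finset.mem_univ _, 1, (cj H 1).one_mem⟩
    have hfinish : ∀ (I : Finset (Subgroup C)) (n b : ℕ), I ⊆ 𝓛 → I.card = n → 0 < n →
        (∀ L ∈ I, ∀ L' ∈ I, L ≠ L' → Nat.card (L ⊓ L' : Subgroup C) ≤ b + 1) →
        4 * ((h - 1) + (n - 1) * b) + 4 * n ≤ n * h →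
        4 * h < U.card := by
      intro I n b hI hn hn0 hb hineq
      have hub := union_bound I (fun L => (el L).erase 1) U₁
        (fun L hL => Finset.erase_subset_erase _ (hsub L (hI hL))) (a := h - 1) (b := b)
        (fun L hL => by
          rw [Finset.card_erase_of_mem (Finset.mem_filter.2 ⟨Finset.mem_univ _, L.one_mem⟩), hel,
            hcard L (hI hL)])
        (fun L hL L' hL' hne => by
          have hs : (el L).erase 1 ∩ (el L').erase 1 = (el (L ⊓ L')).erase 1 := by
            rw [← helinter]; ext g; simp; tauto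
          rw [hs, Finset.card_erase_of_mem (Finset.mem_filter.2
            ⟨Finset.mem_univ _, (L ⊓ L').one_mem⟩), hel]
          have := hb L hL L' hL' hne
          omega)
      rw [hn] at hub
      have hU1 : U.card = U₁.card + 1 := (Finset.card_erase_add_one h1U).symm
      by_contra hle
      have hU4 : U₁.card + 1 ≤ 4 * h := by omega
      obtain ⟨a, ha⟩ : ∃ a, h = a + 1 := ⟨h - 1, by omega⟩
      rw [ha] at hU4 hineq hub
      simp only [Nat.add_sub_cancel] at hineq hub
      set D := a + (n - 1) * b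
      have h1' : n * a ^ 2 ≤ U₁.card * D :=
        Nat.le_of_mul_le_mul_left (by linarith) hn0
      have h2' : 4 * (n * a ^ 2) ≤ (4 * a + 3) * (4 * D) := by
        calc 4 * (n * a ^ 2) ≤ 4 * (U₁.card * D) := Nat.mul_le_mul_left 4 h1'
          _ = U₁.card * (4 * D) := by ring
          _ ≤ _ := Nat.mul_le_mul_right _ (by omega)
      nlinarith
    by_cases h16 : 16 ≤ 𝓛.card
    · obtain ⟨I, hI, hIc⟩ := Finset.exists_subset_card_eq h16
      refine hfinish I 16 ((h - 5) / 5) hI hIc (by norm_num) (fun L hL L' hL' hne => ?_) ?_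
      · obtain ⟨k, -, hk5, hk⟩ := h5k L (hI hL) L' (hI hL') hne
        have := Nat.mul_le_mul_right (Nat.card (L ⊓ L' : Subgroup C)) hk5
        omega
      · omega
    · have h𝓛8 : 𝓛.card = 8 := by
        rw [hi₀] at h8 h16 ⊢
        have h1 : 3 ≤ i₀ := by
          by_contra hlt
          have := Nat.pow_le_pow_right (show 0 < 2 by norm_num) (show i₀ ≤ 2 by omega)
          omega
        have h2 : i₀ < 4 := by
          by_contra hlt
          have := Nat.pow_le_pow_right (show 0 < 2 by norm_num) (show 4 ≤ i₀ by omega)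
          omega
        rw [show i₀ = 3 by omega]; rfl
      have h7 : ∀ L ∈ 𝓛, ∀ L' ∈ 𝓛, L ≠ L' → 7 * Nat.card (L ⊓ L' : Subgroup C) = h := by
        intro L hL
        obtain ⟨c, -, rfl⟩ := Finset.mem_image.1 hL
        let orb : Subgroup C → Finset (Subgroup C) := fun L' =>
          (el (cj H c)).image fun g => cj L' g
        have horb : ∀ L' ∈ 𝓛, L' ≠ cj H c →
            (orb L').card * Nat.card (cj H c ⊓ L' : Subgroup C) = h ∧
              orb L' ⊆ 𝓛.erase (cj H c) := by
          intro L' hL' hne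
          obtain ⟨c', -, rfl⟩ := Finset.mem_image.1 hL'
          constructor
          · have hfib : ∀ R ∈ orb (cj H c'), ((el (cj H c)).filter fun g => cj (cj H c') g = R).card =
                Nat.card (cj H c ⊓ cj H c' : Subgroup C) := by
              intro R hR
              obtain ⟨g₀, hg₀, rfl⟩ := Finset.mem_image.1 hR
              rw [← hel]
              have hg₀' := (Finset.mem_filter.1 hg₀).2
              refine Finset.card_bij (fun g _ => g₀⁻¹ * g) (fun g hg => ?_)
                (fun _ _ _ _ e => mul_left_cancel e)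
                (fun m hm => ⟨g₀ * m, ?_, inv_mul_cancel_left g₀ m⟩)
              · obtain ⟨hgH, hgeq⟩ := Finset.mem_filter.1 hg
                have hm : g₀⁻¹ * g ∈ cj H c :=
                  Subgroup.mul_mem _ (inv_mem hg₀') (Finset.mem_filter.1 hgH).2
                refine Finset.mem_filter.2 ⟨Finset.mem_univ _, hm,
                  mem_of_normalizes hodd hidx c' (odd_orderOf hodd hidx c hm)
                    ((cj_eq_self_iff _ _).1 ?_)⟩
                rw [← cj_cj, hgeq, cj_cj, inv_mul_cancel]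
                ext y; simp [mem_cj]
              · obtain ⟨-, hm1, hm2⟩ := Finset.mem_filter.1 hm
                refine Finset.mem_filter.2 ⟨Finset.mem_filter.2 ⟨Finset.mem_univ _,
                  Subgroup.mul_mem _ hg₀' hm1⟩, ?_⟩
                rw [← cj_cj, (cj_eq_self_iff _ m).2 (Subgroup.le_normalizer hm2)]
            have e := Finset.card_eq_sum_card_image (fun g => cj (cj H c') g) (el (cj H c))
            rw [Finset.sum_congr rfl hfib, Finset.sum_const, smul_eq_mul, hel, card_cj] at e
            exact e.symm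
          · intro R hR
            obtain ⟨g, hg, rfl⟩ := Finset.mem_image.1 hR
            refine Finset.mem_erase.2 ⟨fun e => hne ?_,
              Finset.mem_image.2 ⟨g * c', Finset.mem_univ _, (cj_cj H g c').symm⟩⟩
            have hg' := (cj_eq_self_iff (cj H c) g⁻¹).2
              (inv_mem (Subgroup.le_normalizer (Finset.mem_filter.1 hg).2))
            rw [← hg', ← e, cj_cj (cj H c'), inv_mul_cancel]
            ext y; simp [mem_cj]
        intro L' hL' hne
        obtain ⟨k, hko, hk5, hk⟩ := h5k _ hL L' hL' hne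
        obtain ⟨ho1, ho2⟩ := horb L' hL' (Ne.symm hne)
        have horbk : (orb L').card = k :=
          Nat.eq_of_mul_eq_mul_right Nat.card_pos (ho1.trans hk.symm)
        have hle : k ≤ 7 := by
          have := Finset.card_le_card ho2
          rw [Finset.card_erase_of_mem hL, h𝓛8] at this
          omega
        have hk7 : k = 7 := by
          by_contra hne7
          have hk5' : k = 5 := by rw [Nat.odd_iff] at hko; omega
          obtain ⟨M, hM, hMo⟩ : ∃ M ∈ 𝓛.erase (cj H c), M ∉ orb L' := by
            by_contra hcon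
            push Not at hcon
            have := Finset.card_le_card hcon
            rw [Finset.card_erase_of_mem hL, h𝓛8] at this
            omega
          obtain ⟨hMne, hM𝓛⟩ := Finset.mem_erase.1 hM
          obtain ⟨k', -, hk5'', hk'⟩ := h5k _ hL M hM𝓛 (Ne.symm hMne)
          obtain ⟨hm1, hm2⟩ := horb M hM𝓛 hMne
          have hmk : (orb M).card = k' :=
            Nat.eq_of_mul_eq_mul_right Nat.card_pos (hm1.trans hk'.symm)
          have hd : Disjoint (orb L') (orb M) := by
            rw [Finset.disjoint_left]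
            intro R hR hR'
            obtain ⟨g, hg, rfl⟩ := Finset.mem_image.1 hR
            obtain ⟨g', hg', e⟩ := Finset.mem_image.1 hR'
            refine hMo (Finset.mem_image.2 ⟨g'⁻¹ * g, Finset.mem_filter.2 ⟨Finset.mem_univ _,
              Subgroup.mul_mem _ (inv_mem (Finset.mem_filter.1 hg').2)
                (Finset.mem_filter.1 hg).2⟩, ?_⟩)
            rw [← cj_cj, ← e, cj_cj, inv_mul_cancel]
            ext y; simp [mem_cj]
          have := Finset.card_le_card (Finset.union_subset ho2 hm2)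
          rw [Finset.card_union_of_disjoint hd, Finset.card_erase_of_mem hL, h𝓛8] at this
          omega
        rw [← hk7]; exact hk
      refine hfinish 𝓛 8 ((h - 7) / 7) subset_rfl h𝓛8 (by norm_num) (fun L hL L' hL' hne => ?_) ?_
      · have := h7 L hL L' hL' hne
        omega
      · obtain ⟨L, hL⟩ : 𝓛.Nonempty := Finset.card_pos.1 (by omega)
        obtain ⟨L', hL'⟩ : (𝓛.erase L).Nonempty :=
          Finset.card_pos.1 (by rw [Finset.card_erase_of_mem hL]; omega)
        have e := h7 L hL L' (Finset.mem_erase.1 hL').2 (Finset.mem_erase.1 hL').1.symm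
        have : 0 < Nat.card (L ⊓ L' : Subgroup C) := Nat.card_pos
        omega

end CfsgLib.Deg3P
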