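/-
Simple groups of degree `3 p`: the imprimitive case.
-/
import Cfsg.Agent.Deg3P.Basic
import Cfsg.Agent.S4706
import Mathlib.GroupTheory.GroupAction.Primitive
import Mathlib.GroupTheory.GroupAction.Blocks
import Mathlib.LinearAlgebra.Matrix.SpecialLinearGroup
import Mathlib.LinearAlgebra.Matrix.ProjectiveSpecialLinearGroup

set_option autoImplicit false
set_option linter.style.haveILetI false
set_option linter.unusedSectionVars false

namespace CfsgLib.Deg3P

open MulAction
open scoped Pointwise

universe u v

theorem simple_of_smul_all {G : Type u} [Group G] {Ω : Type v} [MulAction G Ω]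
    [IsPretransitive G Ω] {B : Set Ω} (hne : B.Nonempty) (h : ∀ g : G, g • B = B) :
    B = Set.univ := by
  obtain ⟨a, ha⟩ := hne
  refine Set.eq_univ_of_forall fun z => ?_
  obtain ⟨g, rfl⟩ := exists_smul_eq G a z
  rw [← h g]
  exact Set.smul_mem_smul_set ha

/-- In the imprimitive case `p = 2 ^ m + 1` and the group is `PSL₂ (2 ^ m)`. -/
theorem imprimitive_case {G : Type u} [Group G] [Finite G] [IsSimpleGroup G]
    (hG : ¬ IsMulCommutative G) {p : ℕ} [hp : Fact p.Prime] (hp3 : 3 < p) {Ω : Type v} [Fintype Ω]
    [MulAction G Ω] [IsPretransitive G Ω] (hΩ : Fintype.card Ω = 3 * p) (P : Sylow p G)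
    (hP : Nat.card (P : Subgroup G) = p)
    (hN : Nat.card ↥(Subgroup.normalizer ((P : Subgroup G) : Set G)) = 2 * p)
    (hnot : ¬ IsPreprimitive G Ω) :
    ∃ (F : Type) (_ : Field F) (_ : Fintype F) (m : ℕ), Fintype.card F = 2 ^ m ∧ p = 2 ^ m + 1 ∧
      Nonempty (G ≃* Matrix.ProjectiveSpecialLinearGroup (Fin 2) F) := by
  classical
  obtain ⟨B, hB, hBnt⟩ : ∃ B : Set Ω, IsBlock G B ∧ ¬ IsTrivialBlock B := by
    by_contra h
    push Not at h
    exact hnot { isTrivialBlock_of_isBlock := fun {B} hB => h B hB }
  have hB1 : ¬ B.Subsingleton := fun h => hBnt (Or.inl h)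
  have hB2 : B ≠ Set.univ := fun h => hBnt (Or.inr h)
  have hne : B.Nonempty := by
    rw [Set.nonempty_iff_ne_empty]
    rintro rfl
    exact hB1 Set.subsingleton_empty
  have hmul := hB.ncard_block_mul_ncard_orbit_eq hne
  rw [Nat.card_eq_fintype_card (α := Ω), hΩ] at hmul
  set n := Set.ncard (orbit G B)
  have hn0 : B.ncard ≠ 1 := fun h => by
    obtain ⟨b, hb⟩ := Set.ncard_eq_one.1 h
    exact hB1 (hb ▸ Set.subsingleton_singleton)
  have hn1 : n ≠ 1 := fun h => by
    refine hB2 (Set.eq_of_subset_of_ncard_le (Set.subset_univ B) ?_)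
    rw [Set.ncard_univ, Nat.card_eq_fintype_card, hΩ, ← hmul, h, mul_one]
  haveI : Fintype (orbit G B) := Fintype.ofFinite _
  let f : G →* Equiv.Perm (orbit G B) := MulAction.toPermHom G (orbit G B)
  have hker : f.ker = ⊥ := by
    rcases IsSimpleGroup.eq_bot_or_eq_top_of_normal f.ker inferInstance with h | h
    · exact h
    · exfalso
      refine hB2 (simple_of_smul_all (G := G) hne fun g => ?_)
      have hg : f g = 1 := MonoidHom.mem_ker.1 (h ▸ Subgroup.mem_top g)
      exact congrArg Subtype.val (Equiv.congr_fun hg ⟨B, mem_orbit_self B⟩)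
  have hinj : Function.Injective f := (MonoidHom.ker_eq_bot_iff f).1 hker
  have hα : Fintype.card (orbit G B) = n := by
    rw [← Nat.card_eq_fintype_card, Nat.card_coe_set_eq]
  have hdvd : p ∣ Nat.card G := hP ▸ Subgroup.card_subgroup_dvd_card _
  have hle : Nat.card G ∣ n.factorial := by
    rw [← hα, ← Fintype.card_perm, ← Nat.card_eq_fintype_card]
    exact Subgroup.card_dvd_of_injective f hinj
  have hpn : p ≤ n := hp.out.dvd_factorial.1 (hdvd.trans hle)
  have hn : n = p := by
    have hd : B.ncard ∣ 3 * p := ⟨n, hmul.symm⟩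
    have hlt : B.ncard ≤ 3 := by
      by_contra h
      have := Nat.mul_le_mul (show 4 ≤ B.ncard by omega) hpn
      omega
    interval_cases hc : B.ncard
    · omega
    · exact absurd rfl hn0
    · exfalso
      have h2 : 2 ∣ 3 * p := hd
      have hodd := hp.out.eq_two_or_odd.resolve_left (by omega)
      omega
    · omega
  have e : G ≃* f.range := MonoidHom.ofInjective hinj
  let P' : Sylow p f.range := Sylow.ofCard ((P : Subgroup G).map e.toMonoidHom) (by
    rw [← Nat.card_congr ((P : Subgroup G).equivMapOfInjective _ e.injective).toEquiv,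
      P.card_eq_multiplicity, Nat.card_congr e.toEquiv])
  have hN' : Nat.card (Subgroup.normalizer ((P' : Subgroup f.range) : Set f.range)) = 2 * p := by
    rw [← hN]
    show Nat.card (Subgroup.normalizer ((((P : Subgroup G).map e.toMonoidHom)) : Set f.range)) = _
    rw [← Subgroup.map_equiv_normalizer_eq]
    exact (Nat.card_congr (Subgroup.equivMapOfInjective _ _ e.injective).toEquiv).symm
  rcases Cfsg.Agent.S4706.result (α := orbit G B) (by omega) (by rw [hα, hn]) f.range P' hN' with
    hnor | ⟨a, F, iF, iF', hpa, hF, ⟨e'⟩⟩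
  · exfalso
    have hnG : (P : Subgroup G).Normal := by
      have h := hnor.comap e.toMonoidHom
      have heq : (P' : Subgroup f.range).comap e.toMonoidHom = (P : Subgroup G) :=
        Subgroup.comap_map_eq_self_of_injective e.injective _
      rwa [heq] at h
    rcases IsSimpleGroup.eq_bot_or_eq_top_of_normal _ hnG with h | h
    · rw [h, Subgroup.card_bot] at hP
      omega
    · rw [h, Subgroup.card_top] at hP
      haveI := isCyclic_of_prime_card hP
      exact hG IsCyclic.isMulCommutative
  · letI := iF
    refine ⟨F, iF, iF', a, hF, hpa, ?_⟩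
    have e'' := e.trans e'
    have hc : Subgroup.center (Matrix.SpecialLinearGroup (Fin 2) F) = ⊥ := by
      haveI : Nontrivial (Matrix.SpecialLinearGroup (Fin 2) F) := e''.symm.toEquiv.nontrivial
      haveI : IsSimpleGroup (Matrix.SpecialLinearGroup (Fin 2) F) :=
        IsSimpleGroup.isSimpleGroup_of_surjective e''.toMonoidHom e''.surjective
      rcases IsSimpleGroup.eq_bot_or_eq_top_of_normal
        (Subgroup.center (Matrix.SpecialLinearGroup (Fin 2) F)) inferInstance with h | h
      · exact h
      · exfalso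
        refine hG ⟨⟨fun u v => e''.injective ?_⟩⟩
        rw [map_mul, map_mul]
        exact (Subgroup.mem_center_iff.1 (h ▸ Subgroup.mem_top (e'' v)) (e'' u))
    exact ⟨e''.trans ((QuotientGroup.quotientMulEquivOfEq hc).trans
      QuotientGroup.quotientBot).symm⟩

end CfsgLib.Deg3P
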