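/-
Degree `3 p`: fixed points of involutions and counts.
-/
import Cfsg.Agent.Deg3P.ClassEq
import Mathlib.GroupTheory.Perm.Cycle.Type

set_option autoImplicit false
set_option linter.style.haveILetI false
set_option linter.unusedSectionVars false

namespace CfsgLib.Deg3P

open MulAction CfsgLib.TwoPrime CfsgLib.CentralizerRing

universe u v

variable {p : ℕ} [hp : Fact p.Prime]
variable {G : Type u} [Group G] {Ω : Type v} [MulAction G Ω] [Fintype Ω] {x t : G}

theorem Data.xpow_smul_inj (d : Data p G Ω x t) {m m' : ZMod p} {z : Ω}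
    (h : xpow x m • z = xpow x m' • z) : m = m' := by
  by_contra hne
  refine d.fpf (-m' + m) (fun e => hne (by linear_combination e)) z ?_
  rw [xpow_add d.dih.pow_p, mul_smul, h, ← mul_smul, ← xpow_add d.dih.pow_p, neg_add_cancel,
    xpow_zero, one_smul]

theorem Data.t_xpow_smul (d : Data p G Ω x t) (m : ZMod p) (z : Ω) :
    t • xpow x m • z = xpow x (-m) • t • z := by
  rw [← d.dih.conj_xpow, mul_smul, mul_smul, ← mul_smul t t, d.dih.t_sq, one_smul]

/-- Three orbit representatives give coordinates. -/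
theorem Data.coords (d : Data p G Ω x t) (z : Fin 3 → Ω)
    (hsep : ∀ i j, i ≠ j → ∀ m : ZMod p, xpow x m • z i ≠ z j) :
    Function.Bijective fun q : Fin 3 × ZMod p => xpow x q.2 • z q.1 := by
  classical
  have hinj : Function.Injective fun q : Fin 3 × ZMod p => xpow x q.2 • z q.1 := by
    rintro ⟨i, m⟩ ⟨j, m'⟩ h
    simp only at h
    by_cases hij : i = j
    · subst hij; rw [d.xpow_smul_inj h]
    · exfalso
      refine hsep i j hij (-m' + m) ?_
      rw [xpow_add d.dih.pow_p, mul_smul, h, ← mul_smul, ← xpow_add d.dih.pow_p, neg_add_cancel,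
        xpow_zero, one_smul]
  refine (Fintype.bijective_iff_injective_and_card _).2 ⟨hinj, ?_⟩
  rw [Fintype.card_prod, Fintype.card_fin, ZMod.card, d.card]

/-- Two fixed points of `t` lie in different orbits of `x`. -/
theorem Data.fixed_sep [Finite G] (d : Data p G Ω x t) {z w : Ω} (hz : t • z = z) (hw : t • w = w)
    (hne : z ≠ w) (m : ZMod p) : xpow x m • z ≠ w := by
  intro h
  have h1 : xpow x (-m) • z = w := by
    have := d.t_xpow_smul m z
    rw [h, hz, hw] at this
    exact this.symm
  have h2 := d.xpow_smul_inj (h.trans h1.symm)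
  by_cases hm : m = 0
  · exact hne (by rw [← h, hm, xpow_zero, one_smul])
  · exact d.dih.two_ne d.ne_two m hm h2

variable [Fintype G] [IsSimpleGroup G]

theorem Data.card_fixed_t (d : Data p G Ω x t) :
    (Nat.card (fixedBy Ω t) = 1 ∧ p % 4 = 3) ∨ (Nat.card (fixedBy Ω t) = 3 ∧ p % 4 = 1) := by
  classical
  set σ : Equiv.Perm Ω := MulAction.toPerm t with hσ
  have hsign := sign_eq_one d.nc (Ω := Ω) t
  have hcard : Nat.card (fixedBy Ω t) + σ.support.card = 3 * p := by
    have : σ.support = (Finset.univ.filter fun z : Ω => z ∈ fixedBy Ω t)ᶜ := by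
      ext z; simp [σ, mem_fixedBy]
    rw [this, Finset.card_compl, Nat.card_eq_fintype_card, Fintype.card_subtype, ← d.card]
    exact Nat.add_sub_cancel' (Finset.card_le_univ _)
  have hle : Nat.card (fixedBy Ω t) ≤ 3 := by
    have hi : Function.Injective fun q : fixedBy Ω t × ZMod p => xpow x q.2 • (q.1 : Ω) := by
      rintro ⟨⟨z, hz⟩, m⟩ ⟨⟨w, hw⟩, m'⟩ h
      simp only at h
      by_cases hzw : z = w
      · subst hzw; rw [d.xpow_smul_inj h]
      · exfalso
        refine d.fixed_sep hz hw hzw (-m' + m) ?_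
        rw [xpow_add d.dih.pow_p, mul_smul, h, ← mul_smul, ← xpow_add d.dih.pow_p, neg_add_cancel,
          xpow_zero, one_smul]
    have := Fintype.card_le_of_injective _ hi
    rw [Fintype.card_prod, ZMod.card, d.card] at this
    rw [Nat.card_eq_fintype_card]
    exact Nat.le_of_mul_le_mul_right this hp.out.pos
  have hpodd : p % 2 = 1 := hp.out.eq_two_or_odd.resolve_left d.ne_two
  have hsq : σ ^ 2 = 1 := by
    ext z; simp [sq, σ, ← mul_smul, d.dih.t_sq]
  have hσ1 : σ ≠ 1 := by
    intro h
    have hfix : fixedBy Ω t = Set.univ := Set.eq_univ_of_forall fun z =>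
      show t • z = z from Equiv.congr_fun h z
    rw [hfix, Nat.card_congr (Equiv.Set.univ Ω), Nat.card_eq_fintype_card, d.card] at hle
    have := d.h3
    omega
  have ho : orderOf σ = 2 := orderOf_eq_prime hsq hσ1
  obtain ⟨n, hn⟩ := Equiv.Perm.cycleType_prime_order (σ := σ) (ho ▸ Nat.prime_two)
  rw [ho] at hn
  have hsupp := σ.sum_cycleType
  rw [hn, Multiset.sum_replicate, smul_eq_mul] at hsupp
  rw [Equiv.Perm.sign_of_cycleType, hn, Multiset.sum_replicate, Multiset.card_replicate,
    smul_eq_mul] at hsign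
  have hev : (n + 1) % 2 = 0 := by
    by_contra h
    have : Odd ((n + 1) * 2 + (n + 1)) := Nat.odd_iff.2 (by omega)
    rw [this.neg_one_pow] at hsign
    exact absurd hsign (by decide)
  omega

theorem pi_eq (g : G) : pi G Ω g = (Nat.card (fixedBy Ω g) : ℂ) := rfl

variable {θ : G → ℂ} {k f : ℕ} (T : Theta p G Ω x θ k f) (d : Data p G Ω x t)
include T d

/-- All involutions fix the same number of points. -/
theorem Theta.card_fixed (w : G) (hw : w * w = 1) (hw1 : w ≠ 1) :
    Nat.card (fixedBy Ω w) = Nat.card (fixedBy Ω t) := by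
  obtain ⟨c, hc⟩ := _root_.isConj_iff.1 (T.isConj_invol d hw hw1)
  refine Nat.card_congr
    { toFun := fun z => ⟨c⁻¹ • (z : Ω), ?_⟩
      invFun := fun z => ⟨c • (z : Ω), ?_⟩
      left_inv := fun z => Subtype.ext (smul_inv_smul c (z : Ω))
      right_inv := fun z => Subtype.ext (inv_smul_smul c (z : Ω)) }
  · have h : w • (z : Ω) = z := z.2
    show t • c⁻¹ • (z : Ω) = c⁻¹ • z
    have e : w • (z : Ω) = (c * t * c⁻¹) • (z : Ω) := by rw [hc]
    rw [mul_smul, mul_smul, h] at e
    exact (inv_smul_eq_iff.2 e).symm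
  · have h : t • (z : Ω) = z := z.2
    show w • c • (z : Ω) = c • z
    rw [← hc, mul_smul, mul_smul, inv_smul_smul, h]

omit T in
/-- An element commuting with an involution with three fixed points that fixes two of them fixes
the third. -/
theorem Data.fix_third {z g : G} (h3f : Nat.card (fixedBy Ω z) ≤ 3) (hcomm : g * z = z * g)
    {a b c : Ω} (hab : a ≠ b) (hac : a ≠ c) (hbc : b ≠ c) (hza : z • a = a) (hzb : z • b = b)
    (hzc : z • c = c) (hga : g • a = a) (hgb : g • b = b) : g • c = c := by
  classical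
  by_contra h
  have h1 : z • g • c = g • c := by rw [← mul_smul, ← hcomm, mul_smul, hzc]
  have ha : g • c ≠ a := fun e => hac (smul_left_cancel g (hga.trans e.symm))
  have hb : g • c ≠ b := fun e => hbc (smul_left_cancel g (hgb.trans e.symm))
  have hsub : ({a, b, c, g • c} : Finset Ω) ⊆ Finset.univ.filter fun w => w ∈ fixedBy Ω z := by
    intro w hw
    simp only [Finset.mem_insert, Finset.mem_singleton] at hw
    rw [Finset.mem_filter, mem_fixedBy]
    refine ⟨Finset.mem_univ _, ?_⟩
    rcases hw with rfl | rfl | rfl | rfl <;> assumption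
  have := Finset.card_le_card hsub
  rw [← Fintype.card_subtype, ← Nat.card_eq_fintype_card, Finset.card_insert_of_notMem,
    Finset.card_insert_of_notMem, Finset.card_pair (fun e => h e.symm)] at this
  · exact absurd (this.trans h3f) (by omega)
  · simp [hbc, Ne.symm hb]
  · simp [hab, hac, Ne.symm ha]

/-- Involutions fixing a point. -/
theorem Theta.invol_stab [IsPretransitive G Ω] (a : Ω) :
    Nat.card {g : G // IsConj t g} * Nat.card (fixedBy Ω t) =
      3 * p * Nat.card {g : G // IsConj t g ∧ g • a = a} := by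
  classical
  let W := Finset.univ.filter fun g : G => IsConj t g
  have h1 : ∑ g ∈ W, (Finset.univ.filter fun z : Ω => g • z = z).card =
      W.card * Nat.card (fixedBy Ω t) := by
    rw [Finset.card_eq_sum_ones, Finset.sum_mul, one_mul]
    refine Finset.sum_congr rfl fun g hg => ?_
    obtain ⟨h1, h2⟩ := (T.isConj_iff d g).1 (Finset.mem_filter.1 hg).2
    rw [← T.card_fixed d g h1 h2, Nat.card_eq_fintype_card, Fintype.card_subtype]
    rfl
  have h2 : ∀ z : Ω, (W.filter fun g => g • z = z).card = (W.filter fun g => g • a = a).card := by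
    intro z
    obtain ⟨c, rfl⟩ := exists_smul_eq G a z
    refine Finset.card_bij (fun g _ => c⁻¹ * g * c) (fun g hg => ?_) (fun g _ g' _ e => by
      simpa using e) (fun g hg => ⟨c * g * c⁻¹, ?_, by group⟩)
    · simp only [W, Finset.mem_filter, Finset.mem_univ, true_and] at hg ⊢
      exact ⟨hg.1.trans (_root_.isConj_iff.2 ⟨c⁻¹, by rw [inv_inv]⟩),
        by rw [mul_smul, mul_smul, hg.2, inv_smul_smul]⟩
    · simp only [W, Finset.mem_filter, Finset.mem_univ, true_and] at hg ⊢
      exact ⟨hg.1.trans (_root_.isConj_iff.2 ⟨c, rfl⟩),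
        by rw [mul_smul, mul_smul, inv_smul_smul, hg.2]⟩
  have h3 : ∑ g ∈ W, (Finset.univ.filter fun z : Ω => g • z = z).card =
      ∑ z : Ω, (W.filter fun g => g • z = z).card := by
    simp only [Finset.card_filter]
    exact Finset.sum_comm
  rw [h1, Finset.sum_congr rfl fun z _ => h2 z, Finset.sum_const, Finset.card_univ, d.card,
    smul_eq_mul, Finset.filter_filter] at h3
  rw [Nat.card_eq_fintype_card, Fintype.card_subtype, Nat.card_eq_fintype_card (α := {g : G //
    IsConj t g ∧ g • a = a}), Fintype.card_subtype]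
  convert h3 using 2

end CfsgLib.Deg3P
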