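/-
Degree `3 p`: parity of valencies and the exceptional decomposition at `p = 5`.
-/
import Cfsg.Agent.Deg3P.Invol
import Cfsg.Agent.Blocks.DefectZeroVanish
import Cfsg.Agent.Char.Central
import Mathlib.Data.Nat.Choose.Factorization

set_option autoImplicit false
set_option linter.style.haveILetI false
set_option linter.unusedSectionVars false

namespace CfsgLib.Deg3P

open MulAction CfsgLib.Char CfsgLib.TwoPrime CfsgLib.CentralizerRing

universe u v

variable {G : Type u} [Group G] {Ω : Type v} [MulAction G Ω] [Fintype Ω]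

/-- A self-paired orbital off the diagonal has an even number of pairs. -/
theorem valency_even [IsPretransitive G Ω] (a : Ω) {z y : Ω} (hne : z ≠ y)
    (hswap : orb G y z = orb G z y) :
    2 ∣ Fintype.card Ω * valency a (orb G z y) := by
  classical
  let E := (Finset.univ : Finset (Ω × Ω)).filter fun q => orb G q.1 q.2 = orb G z y
  have hE : E.card = Fintype.card Ω * valency a (orb G z y) := by
    rw [Finset.card_filter, Fintype.sum_prod_type]
    exact CfsgLib.TwoPrime.card_pairs a _
  have hsum : (E.card : ZMod 2) = 0 := by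
    rw [Finset.card_eq_sum_ones, Nat.cast_sum, Nat.cast_one]
    refine Finset.sum_involution (fun q _ => q.swap) (fun _ _ => by decide) (fun q hq _ h => ?_)
      (fun q hq => ?_) (fun q _ => Prod.swap_swap q)
    · obtain ⟨u, w⟩ := q
      have he : w = u := congrArg Prod.fst h
      subst he
      have hh := (Finset.mem_filter.1 hq).2
      exact hne ((orb_eq_diag_iff w z y).1 hh.symm)
    · refine Finset.mem_filter.2 ⟨Finset.mem_univ _, ?_⟩
      show orb G q.2 q.1 = _
      rw [← swapOrb_orb, (Finset.mem_filter.1 hq).2, swapOrb_orb, hswap]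
  rw [← hE]
  exact (ZMod.natCast_eq_zero_iff _ _).1 hsum

theorem sum_valency [IsPretransitive G Ω] [Fintype (orbitRel.Quotient G (Ω × Ω))] (a : Ω) :
    ∑ o : orbitRel.Quotient G (Ω × Ω), valency a o = Fintype.card Ω := by
  classical
  rw [← Finset.card_univ, Finset.card_eq_sum_card_fiberwise (f := fun y : Ω => orb G a y)
    (t := Finset.univ) fun y _ => Finset.mem_univ _]
  exact Finset.sum_congr rfl fun o _ => (valency_eq a a o).symm

theorem valency_diag [IsPretransitive G Ω] (a : Ω) : valency a (orb G a a) = 1 := by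
  classical
  rw [← valency_eq a a, Finset.card_eq_one]
  refine ⟨a, ?_⟩
  ext w
  simp only [Finset.mem_filter, Finset.mem_univ, true_and, Finset.mem_singleton]
  exact (orb_eq_diag_iff a a w).trans eq_comm

theorem valency_pos [IsPretransitive G Ω] (a : Ω) (o : orbitRel.Quotient G (Ω × Ω)) :
    0 < valency a o := by
  classical
  induction o using Quotient.inductionOn' with
  | h q =>
    rw [← valency_eq a q.1]
    exact Finset.card_pos.2 ⟨q.2, Finset.mem_filter.2 ⟨Finset.mem_univ _, rfl⟩⟩

variable [Fintype G] [IsSimpleGroup G] [FaithfulSMul G Ω] [IsPreprimitive G Ω] {x t : G}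

theorem p_five_alt [Fact (Nat.Prime 5)] (d : Data 5 G Ω x t) {ψ₁ ψ₂ : G → ℂ}
    (h₁ : Cfsg.IsIrrCharacter G ψ₁) (h₂ : Cfsg.IsIrrCharacter G ψ₂) (hne : ψ₁ ≠ ψ₂)
    (hd₁ : ψ₁ 1 = 7) (hd₂ : ψ₂ 1 = 7) (hpi : pi G Ω = fun g => 1 + ψ₁ g + ψ₂ g) : False := by
  classical
  haveI : Fintype (orbitRel.Quotient G (Ω × Ω)) := Fintype.ofFinite _
  haveI : Nonempty Ω := Fintype.card_pos_iff.1 (by rw [d.card]; norm_num)
  have h7 : Nat.Prime 7 := by norm_num
  haveI := Fact.mk h7
  have hdvd : 7 ∣ Nat.card G :=
    IsIrrCharacter.degree_dvd_card h₁ (d := 7) (by rw [hd₁]; norm_num)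
  have hle : Nat.card G ∣ (3 * 5).factorial := by
    rw [← d.card, ← Fintype.card_perm, ← Nat.card_eq_fintype_card]
    exact Subgroup.card_dvd_of_injective (MulAction.toPermHom G Ω) MulAction.toPerm_injective
  have hv : (Nat.card G).factorization 7 = 1 := by
    have h1 := (h7.dvd_iff_one_le_factorization Nat.card_pos.ne').1 hdvd
    have h2 := (Nat.factorization_le_iff_dvd Nat.card_pos.ne' (Nat.factorial_ne_zero _)).2 hle 7
    have h3 : ((3 * 5).factorial).factorization 7 = 2 := by
      rw [Nat.factorization_factorial h7 (b := 3) (by decide)]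
      decide
    have h4 := d.not_full_sylow h7 (by norm_num)
    rw [h3] at h2 h4
    omega
  obtain ⟨y, hy⟩ := exists_prime_orderOf_dvd_card' 7 hdvd
  have hvan : ∀ {φ : G → ℂ} (hφ : Cfsg.IsIrrCharacter G φ), φ 1 = 7 → φ y = 0 := by
    intro φ hφ h
    refine CfsgLib.Block.eq_zero_of_defectZero h7 ⟨φ, hφ⟩ ?_ (by rw [hy])
    rw [hv, pow_one]
    refine dvd_of_eq ?_
    exact (charDegree_eq_natCast (n := 7) (show φ 1 = ((7 : ℕ) : ℂ) by rw [h]; norm_num)).symm
  have hfix : Nat.card (fixedBy Ω y) = 1 := by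
    have h := congrFun hpi y
    rw [hvan h₁ hd₁, hvan h₂ hd₂, add_zero, add_zero, pi] at h
    exact_mod_cast h
  obtain ⟨hsub, ⟨⟨a, ha⟩⟩⟩ := Nat.card_eq_one_iff_unique.1 hfix
  have hmult : ∀ o, o ≠ orb G a a → 7 ∣ valency a o := by
    intro o ho
    let S := Finset.univ.filter fun w : Ω => orb G a w = o
    have hS : ∀ w, y • w ∈ S ↔ w ∈ S := fun w => by
      simp only [S, Finset.mem_filter, Finset.mem_univ, true_and]
      conv_lhs => rw [← (ha : y • a = a), orb_smul]
    rw [← valency_eq a a o]
    show 7 ∣ S.card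
    have hT := dvd_card_of_invariant (p := 7) (Ω := {w // w ∈ S})
      ((MulAction.toPerm y).subtypePerm hS) ?_ ?_ Finset.univ (fun _ => by simp)
    · rwa [Finset.card_univ, Fintype.card_coe] at hT
    · have hz : ∀ (n : ℕ) (b : {w // w ∈ S}),
          (((MulAction.toPerm y).subtypePerm hS ^ n) b : Ω) = y ^ n • (b : Ω) := by
        intro n
        induction n with
        | zero => exact fun b => by rw [pow_zero, pow_zero, one_smul]; rfl
        | succ n ih =>
          intro b
          rw [pow_succ', pow_succ', Equiv.Perm.mul_apply, mul_smul, ← ih b]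
          rfl
      exact Equiv.ext fun b => Subtype.ext (by rw [hz, ← hy, pow_orderOf_eq_one, one_smul]; rfl)
    · intro b hb
      have hb' : y • (b : Ω) = b := congrArg Subtype.val hb
      have : (b : Ω) = a := congrArg Subtype.val
        (Subsingleton.elim (⟨(b : Ω), hb'⟩ : fixedBy Ω y) ⟨a, ha⟩)
      have hbS := (Finset.mem_filter.1 b.2).2
      rw [this] at hbS
      exact ho hbS.symm
  have hrank : Fintype.card (orbitRel.Quotient G (Ω × Ω)) = 3 := by
    have h := classInner_pi_self (G := G) (Ω := Ω)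
    have hone : Cfsg.IsIrrCharacter G (fun _ : G => (1 : ℂ)) := isIrrCharacter_one
    have n1 : ψ₁ ≠ fun _ => 1 := fun e => by rw [e] at hd₁; norm_num at hd₁
    have n2 : ψ₂ ≠ fun _ => 1 := fun e => by rw [e] at hd₂; norm_num at hd₂
    rw [show pi G Ω = (fun _ => 1) + ψ₁ + ψ₂ from hpi, Nat.card_eq_fintype_card] at h
    simp only [classInner_add_left, classInner_add_right, IsIrrCharacter.classInner_self hone,
      IsIrrCharacter.classInner_self h₁, IsIrrCharacter.classInner_self h₂,
      IsIrrCharacter.classInner_of_ne h₁ hone n1, IsIrrCharacter.classInner_of_ne hone h₁ n1.symm,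
      IsIrrCharacter.classInner_of_ne h₂ hone n2, IsIrrCharacter.classInner_of_ne hone h₂ n2.symm,
      IsIrrCharacter.classInner_of_ne h₁ h₂ hne, IsIrrCharacter.classInner_of_ne h₂ h₁ hne.symm] at h
    norm_num at h
    exact_mod_cast h.symm
  obtain ⟨z, hz⟩ : ∃ z : Ω, t • z ≠ z := by
    by_contra h
    push Not at h
    exact d.dih.t_ne (FaithfulSMul.eq_of_smul_eq_smul fun z => by rw [h z, one_smul])
  have hswap : orb G (t • z) z = orb G z (t • z) := by
    conv_rhs => rw [← orb_smul (g := t), ← mul_smul, d.dih.t_sq, one_smul]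
  have hev := valency_even a (Ne.symm hz) hswap
  rw [d.card] at hev
  have ho : orb G z (t • z) ≠ orb G a a := fun h => hz ((orb_eq_diag_iff a z _).1 h).symm
  have hs := sum_valency (G := G) a
  rw [d.card, ← Finset.add_sum_erase _ _ (Finset.mem_univ (orb G a a)), valency_diag,
    ← Finset.add_sum_erase _ _ (Finset.mem_erase.2 ⟨ho, Finset.mem_univ _⟩)] at hs
  obtain ⟨o', ho'⟩ : ∃ o', o' ∈ ((Finset.univ.erase (orb G a a)).erase (orb G z (t • z))) := by
    refine Finset.card_pos.1 ?_
    rw [Finset.card_erase_of_mem (Finset.mem_erase.2 ⟨ho, Finset.mem_univ _⟩),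
      Finset.card_erase_of_mem (Finset.mem_univ _), Finset.card_univ, hrank]
    norm_num
  have h1 := Finset.single_le_sum (f := fun o => valency a o) (fun _ _ => Nat.zero_le _) ho'
  obtain ⟨i, hi⟩ := hmult o' (Finset.mem_erase.1 (Finset.mem_erase.1 ho').2).1
  obtain ⟨j, hj⟩ := hmult _ ho
  have p1 := valency_pos a o'
  have p2 := valency_pos a (orb G z (t • z))
  omega

end CfsgLib.Deg3P
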