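/-
Degree `3 p`: when involutions fix three points, a Sylow `2`-subgroup has a large subgroup
semiregular off three points.
-/
import Cfsg.Agent.Deg3P.PFive
import Cfsg.Agent.AutFrattini.Basic

set_option autoImplicit false
set_option linter.style.haveILetI false
set_option linter.unusedSectionVars false

namespace CfsgLib.Deg3P

open MulAction CfsgLib.Char CfsgLib.TwoPrime CfsgLib.CentralizerRing

universe u v

variable {p : ℕ} [hp : Fact p.Prime]
variable {G : Type u} [Group G] [Fintype G] [IsSimpleGroup G] {Ω : Type v} [MulAction G Ω]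
  [Fintype Ω] {x t : G} {θ : G → ℂ} {k f : ℕ}

/-- A group fixing three points and semiregular elsewhere. -/
structure Semi (G : Type u) [Group G] (Ω : Type v) [MulAction G Ω] (a b c : Ω) (H : Subgroup G) :
    Prop where
  hab : a ≠ b
  hac : a ≠ c
  hbc : b ≠ c
  fix : ∀ g ∈ H, g • a = a ∧ g • b = b ∧ g • c = c
  free : ∀ g ∈ H, g ≠ 1 → ∀ z : Ω, g • z = z → z = a ∨ z = b ∨ z = c
  pgrp : IsPGroup 2 H
  big : 2 ^ (Nat.card G).factorization 2 ∣ 2 * Nat.card H

variable (T : Theta p G Ω x θ k f) (d : Data p G Ω x t)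
include T d

theorem Theta.exists_semi (h3 : Nat.card (fixedBy Ω t) = 3) :
    ∃ (a b c : Ω) (H : Subgroup G), Semi G Ω a b c H := by
  classical
  haveI : Fact (Nat.Prime 2) := ⟨Nat.prime_two⟩
  obtain ⟨S⟩ : Nonempty (Sylow 2 G) := inferInstance
  haveI : Nontrivial (S : Subgroup G) := by
    rw [Subgroup.nontrivial_iff_ne_bot]
    exact S.ne_bot_of_dvd_card d.even
  haveI := S.2.center_nontrivial
  have hd : 2 ∣ Nat.card (Subgroup.center (S : Subgroup G)) := by
    obtain ⟨k, hk, hk'⟩ := (S.2.to_subgroup (Subgroup.center _)).nontrivial_iff_card.1 inferInstance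
    exact hk' ▸ dvd_pow_self 2 hk.ne'
  obtain ⟨w₀, hw₀⟩ := exists_prime_orderOf_dvd_card' 2 hd
  set z : G := ((w₀ : (S : Subgroup G)) : G) with hz
  have hzo : orderOf z = 2 := by rw [hz, Subgroup.orderOf_coe, Subgroup.orderOf_coe, hw₀]
  have hz2 : z * z = 1 := by
    have h := pow_orderOf_eq_one z
    rwa [hzo, sq] at h
  have hz1 : z ≠ 1 := fun h => by simp [h] at hzo
  have hcomm : ∀ s ∈ (S : Subgroup G), s * z = z * s := fun s hs =>
    congrArg Subtype.val (Subgroup.mem_center_iff.1 w₀.2 ⟨s, hs⟩)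
  let Fz := Finset.univ.filter fun w : Ω => z • w = w
  have hF : Fz.card = 3 := by
    rw [← h3, ← T.card_fixed d z hz2 hz1, Nat.card_eq_fintype_card, Fintype.card_subtype]
    rfl
  obtain ⟨a, b, c, hab, hac, hbc, habc⟩ := Finset.card_eq_three.1 hF
  have hmem : ∀ w : Ω, z • w = w ↔ w = a ∨ w = b ∨ w = c := fun w => by
    have h : w ∈ Fz ↔ w ∈ ({a, b, c} : Finset Ω) := by rw [habc]
    simpa [Fz] using h
  letI : MulAction (S : Subgroup G) {w : Ω // z • w = w} :=
    { smul := fun s w => ⟨(s : G) • (w : Ω), by rw [← mul_smul, ← hcomm _ s.2, mul_smul, w.2]⟩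
      one_smul := fun w => Subtype.ext (one_smul G (w : Ω))
      mul_smul := fun s s' w => Subtype.ext (mul_smul (s : G) (s' : G) (w : Ω)) }
  let φ := MulAction.toPermHom (S : Subgroup G) {w : Ω // z • w = w}
  let H : Subgroup G := φ.ker.map (S : Subgroup G).subtype
  have hfix : ∀ g ∈ H, ∀ w : Ω, z • w = w → g • w = w := by
    rintro g ⟨s, hs, rfl⟩ w hw
    exact congrArg Subtype.val (Equiv.congr_fun (MonoidHom.mem_ker.1 hs) ⟨w, hw⟩)
  have hle : H ≤ (S : Subgroup G) := Subgroup.map_subtype_le _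
  refine ⟨a, b, c, H, hab, hac, hbc, fun g hg => ⟨hfix g hg a ((hmem a).2 (Or.inl rfl)),
    hfix g hg b ((hmem b).2 (Or.inr (Or.inl rfl))), hfix g hg c ((hmem c).2 (Or.inr (Or.inr rfl)))⟩,
    ?_, S.2.to_le hle, ?_⟩
  · intro g hg hg1 y hy
    obtain ⟨n, hn⟩ := (IsPGroup.iff_orderOf.1 S.2) ⟨g, hle hg⟩
    rw [← Subgroup.orderOf_coe] at hn
    change orderOf g = 2 ^ n at hn
    rcases n with _ | n
    · rw [pow_zero, orderOf_eq_one_iff] at hn
      exact absurd hn hg1
    set w := g ^ 2 ^ n with hw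
    have hwo : orderOf w = 2 := by
      rw [hw, orderOf_pow' g (pow_ne_zero _ two_ne_zero), hn, Nat.gcd_eq_right
        (pow_dvd_pow 2 n.le_succ), pow_succ', Nat.mul_div_cancel _ (Nat.two_pow_pos n)]
    have hw2 : w * w = 1 := by
      have h := pow_orderOf_eq_one w
      rwa [hwo, sq] at h
    have hw1 : w ≠ 1 := fun h => by simp [h] at hwo
    have hsub : Fz ⊆ Finset.univ.filter fun u : Ω => w • u = u := by
      intro u hu
      refine Finset.mem_filter.2 ⟨Finset.mem_univ _, ?_⟩
      exact hfix w (H.pow_mem hg _) u (Finset.mem_filter.1 hu).2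
    have heq := Finset.eq_of_subset_of_card_le hsub (le_of_eq (by
      rw [hF, ← h3, ← T.card_fixed d w hw2 hw1, Nat.card_eq_fintype_card, Fintype.card_subtype]
      rfl))
    refine (hmem y).1 (Finset.mem_filter.1 (show y ∈ Fz from heq.symm ▸
      Finset.mem_filter.2 ⟨Finset.mem_univ y, ?_⟩)).2
    have hp' : ∀ m : ℕ, g ^ m • y = y := fun m => by
      induction m with
      | zero => rw [pow_zero, one_smul]
      | succ m ih => rw [pow_succ, mul_smul, hy, ih]
    exact hp' _
  · have hH : Nat.card H = Nat.card φ.ker :=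
      (Nat.card_congr (Subgroup.equivMapOfInjective _ _ (Subgroup.subtype_injective _)).toEquiv).symm
    have hS : Nat.card (S : Subgroup G) = 2 ^ (Nat.card G).factorization 2 := S.card_eq_multiplicity
    have h1 : Nat.card φ.range ∣ 6 := by
      have h := Subgroup.card_subgroup_dvd_card φ.range
      rwa [Nat.card_perm, Nat.card_eq_fintype_card (α := {w : Ω // z • w = w}), Fintype.card_subtype,
        show (Finset.univ.filter fun w : Ω => z • w = w).card = 3 from hF] at h
    have h2 : φ.ker.index = Nat.card φ.range := Subgroup.index_ker φ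
    have h4 : φ.ker.index ∣ 2 := by
      have hd : φ.ker.index ∣ 2 ^ (Nat.card G).factorization 2 :=
        hS ▸ Subgroup.index_dvd_card φ.ker
      have hg : φ.ker.index ∣ Nat.gcd 6 (2 ^ (Nat.card G).factorization 2) :=
        Nat.dvd_gcd (h2 ▸ h1) hd
      refine hg.trans ?_
      rw [show (6 : ℕ) = 2 * 3 from rfl, Nat.Coprime.gcd_mul_right_cancel 2
        ((Nat.Coprime.pow_right _ (by decide : Nat.Coprime 3 2)))]
      exact Nat.gcd_dvd_left _ _
    rw [hH, ← hS, ← φ.ker.card_mul_index, mul_comm 2]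
    exact Nat.mul_dvd_mul_left _ h4

omit T d
variable {a b c : Ω} {H : Subgroup G}

/-- The size of a suborbit off the three fixed points is a multiple of the order. -/
theorem Semi.dvd_card [DecidableEq Ω] (hS : Semi G Ω a b c H) (P : Finset Ω)
    (hP : ∀ g ∈ H, ∀ y ∈ P, g • y ∈ P) (ha : a ∉ P) (hb : b ∉ P) (hc : c ∉ P) :
    Nat.card H ∣ P.card := by
  letI : MulAction H {y // y ∈ P} :=
    { smul := fun g y => ⟨(g : G) • (y : Ω), hP g g.2 y y.2⟩
      one_smul := fun y => Subtype.ext (one_smul G (y : Ω))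
      mul_smul := fun g g' y => Subtype.ext (mul_smul (g : G) (g' : G) (y : Ω)) }
  have h := CfsgLib.AutFrattini.card_dvd_of_free (A := H) (Ω := {y // y ∈ P}) fun g y hy => by
    by_contra hg
    have hy' : (g : G) • (y : Ω) = y := congrArg Subtype.val hy
    rcases hS.free g g.2 (fun e => hg (Subtype.ext e)) y hy' with e | e | e
    · exact ha (e ▸ y.2)
    · exact hb (e ▸ y.2)
    · exact hc (e ▸ y.2)
  rwa [Nat.card_eq_fintype_card (α := {y // y ∈ P}), Fintype.card_coe] at h

/-- A subdegree is congruent to its number of fixed points modulo the order. -/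
theorem Semi.valency [IsPretransitive G Ω] [DecidableEq (orbitRel.Quotient G (Ω × Ω))]
    (hS : Semi G Ω a b c H) {o : orbitRel.Quotient G (Ω × Ω)} (ho : o ≠ orb G a a) :
    ∃ i j : ℕ, TwoPrime.valency a o = i * Nat.card H + j ∧
      j = (if orb G a b = o then 1 else 0) + (if orb G a c = o then 1 else 0) := by
  classical
  let P := (Finset.univ.filter fun y : Ω => orb G a y = o) \ {a, b, c}
  obtain ⟨i, hi⟩ := hS.dvd_card P (fun g hg y hy => by
    simp only [P, Finset.mem_sdiff, Finset.mem_filter, Finset.mem_univ, true_and,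
      Finset.mem_insert, Finset.mem_singleton] at hy ⊢
    obtain ⟨h1, h2, h3⟩ := hS.fix g hg
    refine ⟨?_, ?_⟩
    · conv_lhs => rw [← h1, orb_smul, hy.1]
    · rintro (e | e | e)
      · exact hy.2 (Or.inl (smul_left_cancel g (e.trans h1.symm)))
      · exact hy.2 (Or.inr (Or.inl (smul_left_cancel g (e.trans h2.symm))))
      · exact hy.2 (Or.inr (Or.inr (smul_left_cancel g (e.trans h3.symm)))))
    (by simp [P]) (by simp [P]) (by simp [P])
  refine ⟨i, _, ?_, rfl⟩
  rw [← valency_eq a a o, ← Finset.card_sdiff_add_card_inter _ ({a, b, c} : Finset Ω)]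
  rw [show ((Finset.univ.filter fun y : Ω => orb G a y = o) \ {a, b, c}) = P from rfl, hi,
    mul_comm]
  congr 1
  rw [Finset.inter_comm, Finset.inter_filter, Finset.inter_univ,
    Finset.card_filter, Finset.sum_insert (by simp [hS.hab, hS.hac]),
    Finset.sum_pair hS.hbc, if_neg (fun h => ho h.symm), zero_add]

end CfsgLib.Deg3P
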