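/-
Degree `3 p`: the distinguished constituent cannot have degree `p - 1`.
-/
import Cfsg.Agent.Deg3P.Semi
import Mathlib.GroupTheory.Transfer
import Mathlib.Tactic.IntervalCases
import Mathlib.Data.Nat.Squarefree

set_option autoImplicit false
set_option linter.style.haveILetI false
set_option linter.unusedSectionVars false

namespace CfsgLib.Deg3P

open MulAction CfsgLib.Char CfsgLib.TwoPrime CfsgLib.CentralizerRing

universe u v

theorem dvd_of_sq_dvd {q S a : ℕ} (hS : S ≠ 0) (ha : Squarefree a) (h : q ^ 2 ∣ S ^ 2 * a) :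
    q ∣ S := by
  have ha0 := ha.ne_zero
  have hq : q ≠ 0 := by
    rintro rfl
    rw [zero_pow two_ne_zero, zero_dvd_iff, mul_eq_zero] at h
    rcases h with h | h
    · exact hS (pow_eq_zero_iff two_ne_zero |>.1 h)
    · exact ha0 h
  rw [← Nat.factorization_le_iff_dvd hq hS]
  intro r
  have h1 := (Nat.factorization_le_iff_dvd (pow_ne_zero 2 hq)
    (mul_ne_zero (pow_ne_zero 2 hS) ha0)).2 h r
  rw [Nat.factorization_mul (pow_ne_zero 2 hS) ha0, Nat.factorization_pow, Nat.factorization_pow] at h1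
  simp only [Finsupp.coe_add, Finsupp.coe_smul, Pi.add_apply, Pi.smul_apply, smul_eq_mul] at h1
  have := ha.natFactorization_le_one r
  omega

variable {G : Type u} [Group G] [Fintype G] [IsSimpleGroup G] {Ω : Type v} [MulAction G Ω]
  [Fintype Ω] [FaithfulSMul G Ω] [IsPreprimitive G Ω]

/-- A prime power subgroup count. -/
theorem sylow_embedding (hnc : ¬ IsMulCommutative G) {r : ℕ} [Fact r.Prime] (hr : r ∣ Nat.card G) :
    Nat.card (Sylow r G) ≠ 1 ∧ Nat.card G ∣ (Nat.card (Sylow r G)).factorial := by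
  classical
  obtain ⟨Q⟩ : Nonempty (Sylow r G) := inferInstance
  have hne : ¬ (Q : Subgroup G).Normal := by
    intro hn
    rcases IsSimpleGroup.eq_bot_or_eq_top_of_normal _ hn with h | h
    · exact Q.ne_bot_of_dvd_card hr h
    · have hG : IsPGroup r G := (h ▸ Q.2 : IsPGroup r (⊤ : Subgroup G)).of_equiv Subgroup.topEquiv
      haveI := hG.center_nontrivial
      rcases IsSimpleGroup.eq_bot_or_eq_top_of_normal (Subgroup.center G) inferInstance with h' | h'
      · exact (Subgroup.nontrivial_iff_ne_bot _).1 inferInstance h'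
      · exact hnc ⟨⟨fun u v => (Subgroup.mem_center_iff.1 (h' ▸ Subgroup.mem_top v) u)⟩⟩
  refine ⟨fun h => hne ?_, ?_⟩
  · rw [Sylow.card_eq_index_normalizer Q, Subgroup.index_eq_one] at h
    exact Subgroup.normalizer_eq_top_iff.1 h
  · let f := MulAction.toPermHom G (Sylow r G)
    have hinj : Function.Injective f := by
      rcases IsSimpleGroup.eq_bot_or_eq_top_of_normal f.ker inferInstance with h | h
      · exact (MonoidHom.ker_eq_bot_iff f).1 h
      · exfalso
        refine hne (Subgroup.normalizer_eq_top_iff.1 ((Subgroup.eq_top_iff' _).2 fun g => ?_))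
        have hg : f g = 1 := MonoidHom.mem_ker.1 (h ▸ Subgroup.mem_top g)
        exact Sylow.smul_eq_iff_mem_normalizer.1 (Equiv.congr_fun hg Q)
    have h := Subgroup.card_dvd_of_injective f hinj
    rwa [Nat.card_perm] at h

/-- A primitive action of degree fifteen of a group of order sixty. -/
theorem order_sixty_false (hnc : ¬ IsMulCommutative G) (hG : Nat.card G = 60)
    (hΩ : Fintype.card Ω = 15) : False := by
  classical
  haveI : Fact (Nat.Prime 2) := ⟨Nat.prime_two⟩
  haveI : Nontrivial Ω := Fintype.one_lt_card_iff_nontrivial.1 (by omega)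
  obtain ⟨a⟩ : Nonempty Ω := inferInstance
  set A := stabilizer G a
  have hidx : A.index = 15 := by
    rw [index_stabilizer_of_transitive, Nat.card_eq_fintype_card, hΩ]
  have hA : Nat.card A = 4 := by
    have h := A.card_mul_index
    rw [hidx, hG] at h
    omega
  have hmax := IsPreprimitive.isCoatom_stabilizer_of_isPreprimitive (G := G) a
  let P : Sylow 2 G := Sylow.ofCard A (by
    rw [hA, hG]
    have : (60 : ℕ).factorization 2 = 2 := by
      rw [show (60 : ℕ) = 2 ^ 2 * 15 from rfl, Nat.factorization_mul (by norm_num) (by norm_num),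
        Finsupp.add_apply, Nat.Prime.factorization_pow Nat.prime_two,
        Nat.factorization_eq_zero_of_not_dvd (show ¬ 2 ∣ 15 by norm_num)]
      simp
    rw [this]; rfl)
  haveI : IsMulCommutative A := by
    exact ⟨⟨(IsPGroup.commGroupOfCardEqPrimeSq (p := 2) (by rw [hA]; rfl)).mul_comm⟩⟩
  have hN : Subgroup.normalizer ((P : Subgroup G) : Set G) ≤ Subgroup.centralizer (A : Set G) := by
    rcases hmax.le_iff.1 (Subgroup.le_normalizer (H := A)) with h | h
    · exfalso
      rcases IsSimpleGroup.eq_bot_or_eq_top_of_normal A (Subgroup.normalizer_eq_top_iff.1 h) with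
        e | e
      · rw [e, Subgroup.card_bot] at hA; omega
      · rw [e, Subgroup.card_top, hG] at hA; omega
    · show Subgroup.normalizer (A : Set G) ≤ _
      rw [h]
      intro u hu
      rw [Subgroup.mem_centralizer_iff]
      intro w hw
      exact congrArg Subtype.val (mul_comm' (⟨w, hw⟩ : A) ⟨u, hu⟩)
  have htop : (MonoidHom.transferSylow P hN).ker = ⊤ := by
    rcases IsSimpleGroup.eq_bot_or_eq_top_of_normal (MonoidHom.transferSylow P hN).ker
      inferInstance with h | h
    · exfalso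
      have hc := (MonoidHom.ker_transferSylow_isComplement' P hN).card_mul
      rw [h, Subgroup.card_bot, one_mul, hG] at hc
      have : Nat.card (P : Subgroup G) = 4 := hA
      omega
    · exact h
  have hc := (MonoidHom.ker_transferSylow_isComplement' P hN).card_mul
  rw [htop, Subgroup.card_top, hG] at hc
  have : Nat.card (P : Subgroup G) = 4 := hA
  omega

variable {x t : G} {θ : G → ℂ} {f : ℕ}

theorem k_one_five [Fact (Nat.Prime 5)] (T : Theta 5 G Ω x θ 1 f) (d : Data 5 G Ω x t) : False := by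
  classical
  have hf : f = 4 := by have := T.f_eq; omega
  have hθ1 : θ 1 = ((5 : ℕ) : ℂ) - 1 := by rw [T.deg, hf]; norm_num
  have hker : ∀ g : G, θ g = θ 1 → g = 1 := fun g hg => T.kernel_trivial d hg
  have hce := d.dih.class_equation d.h3 T.irr hθ1 T.val
  have hodd := T.odd_invol d
  set K := Nat.card {g : G // IsConj t g}
  norm_num [-Nat.card_eq_fintype_card] at hce
  obtain ⟨q, hq⟩ : 15 ∣ K := by
    have h3' : 3 ∣ K := Nat.prime_three.dvd_of_dvd_pow (n := 2)
      ((Nat.Coprime.dvd_mul_right (by norm_num : Nat.Coprime 3 4)).1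
        ⟨5 * Nat.card G, by rw [hce]; ring⟩)
    have h5' : 5 ∣ K := (Nat.prime_five).dvd_of_dvd_pow (n := 2)
      ((Nat.Coprime.dvd_mul_right (by norm_num : Nat.Coprime 5 4)).1
        ⟨3 * Nat.card G, by rw [hce]; ring⟩)
    exact Nat.Coprime.mul_dvd_of_dvd_of_dvd (by norm_num : Nat.Coprime 3 5) h3' h5'
  have hG : Nat.card G = 60 * q ^ 2 := by rw [hq] at hce; linarith
  obtain ⟨j, hj⟩ := d.sylow
  have hqo : ¬ 2 ∣ q := fun h => hodd (hq ▸ dvd_mul_of_dvd_right h 15)
  have hmod : q ^ 2 % 5 = 1 := by omega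
  have hdvd : q ^ 2 ∣ 5040 ^ 2 * 858 := by
    have h : Nat.card G ∣ (3 * 5).factorial := by
      rw [← d.card, ← Fintype.card_perm, ← Nat.card_eq_fintype_card]
      exact Subgroup.card_dvd_of_injective (MulAction.toPermHom G Ω) MulAction.toPerm_injective
    rw [hG, show Nat.factorial (3 * 5) = 60 * (5040 ^ 2 * 858) by rfl] at h
    exact Nat.dvd_of_mul_dvd_mul_left (by norm_num) h
  have hq' : q ∣ 5040 := dvd_of_sq_dvd (by norm_num) (by
    rw [show (858 : ℕ) = 2 * (3 * (11 * 13)) from rfl, Nat.squarefree_mul (by norm_num),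
      Nat.squarefree_mul (by norm_num), Nat.squarefree_mul (by norm_num)]
    exact ⟨Nat.prime_two.squarefree, Nat.prime_three.squarefree,
      (by norm_num : Nat.Prime 11).squarefree, (by norm_num : Nat.Prime 13).squarefree⟩) hdvd
  have h5q : Nat.Coprime q 5 := by
    refine ((Nat.prime_five.coprime_iff_not_dvd).2 fun h => ?_).symm
    obtain ⟨c, rfl⟩ := h
    rw [mul_pow, show (5 : ℕ) ^ 2 = 5 * 5 from rfl, mul_assoc] at hmod
    omega
  have h63 : q ∣ 63 := by
    have h16 : Nat.Coprime q (16 * 5) :=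
      Nat.Coprime.mul_right (Nat.Coprime.pow_right 4
        ((Nat.prime_two.coprime_iff_not_dvd).2 hqo).symm) h5q
    exact h16.dvd_of_dvd_mul_left (show q ∣ 16 * 5 * 63 from hq')
  have hle := Nat.le_of_dvd (by norm_num) h63
  have hcases : q = 1 ∨ q = 9 ∨ q = 21 := by
    interval_cases q <;> simp_all <;> omega
  rcases hcases with rfl | rfl | rfl
  · exact order_sixty_false d.nc (by rw [hG]; rfl) d.card
  · haveI : Fact (Nat.Prime 3) := ⟨Nat.prime_three⟩
    obtain ⟨hne, hdiv⟩ := sylow_embedding d.nc (r := 3) (by rw [hG]; norm_num)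
    obtain ⟨Q⟩ : Nonempty (Sylow 3 G) := inferInstance
    have hi : Nat.card (Sylow 3 G) ∣ 20 := by
      refine Q.card_dvd_index.trans (dvd_of_eq ?_)
      have hv : (Nat.card G).factorization 3 = 5 := by
        rw [hG, show 60 * 9 ^ 2 = 3 ^ 5 * 20 from rfl, Nat.factorization_mul (by norm_num)
          (by norm_num), Finsupp.add_apply, Nat.Prime.factorization_pow Nat.prime_three,
          Nat.factorization_eq_zero_of_not_dvd (show ¬ 3 ∣ 20 by norm_num)]
        simp
      have hQ : Nat.card (Q : Subgroup G) = 243 := by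
        rw [Q.card_eq_multiplicity, hv]; rfl
      have h := (Q : Subgroup G).card_mul_index
      rw [hQ, hG] at h
      omega
    have hm := card_sylow_modEq_one 3 G
    rw [Nat.ModEq] at hm
    have hle := Nat.le_of_dvd (by norm_num) hi
    rw [hG] at hdiv
    generalize Nat.card (Sylow 3 G) = n at *
    interval_cases n <;> first | omega | (revert hdiv; decide) | (revert hi; decide)
  · refine d.not_full_sylow (r := 7) (by norm_num) (by norm_num) ?_
    rw [hG, show 60 * 21 ^ 2 = 7 ^ 2 * 540 from rfl, Nat.factorization_mul (by norm_num)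
      (by norm_num), Finsupp.add_apply, Nat.Prime.factorization_pow (by norm_num : Nat.Prime 7),
      Nat.factorization_eq_zero_of_not_dvd (show ¬ 7 ∣ 540 by norm_num),
      Nat.factorization_factorial (by norm_num : Nat.Prime 7) (b := 3) (by decide)]
    simp
    decide

section Large

variable {p : ℕ} [hp : Fact p.Prime]

theorem k_one_false (T : Theta p G Ω x θ 1 f) (d : Data p G Ω x t) : False := by
  classical
  rcases Nat.lt_or_ge 5 p with h5 | h5
  swap
  · have hp5 : p = 5 := by
      have := d.h3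
      interval_cases p
      all_goals first | omega | exact absurd hp.out (by decide)
    subst hp5
    exact k_one_five T d
  have hm := T.mult (Or.inr h5)
  have hf : f + 1 = p := by have := T.f_eq; omega
  have hθ1 : θ 1 = (p : ℂ) - 1 := by
    rw [T.deg, ← hf]; push_cast; ring
  have hint : ∀ g, ∃ k : ℤ, θ g = k := T.int
  have hpow := d.dih.pred_eq_two_pow d.h3 T.irr hθ1 T.val (fun g hg => T.kernel_trivial d hg) hint
  set v := (Nat.card G).factorization 2 with hv
  have hv3 : 3 ≤ v := by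
    by_contra h
    have : 2 ^ v ≤ 2 ^ 2 := Nat.pow_le_pow_right (by norm_num) (by omega)
    omega
  obtain ⟨u, hu⟩ := Nat.exists_eq_add_of_le hv3
  have hp8 : p = 8 * 2 ^ u + 1 := by
    rw [hu, pow_add] at hpow
    have := d.h3
    omega
  have hh : 2 ^ (u + 2) = 4 * 2 ^ u := by ring
  have h17 : 17 ≤ p := by
    have hpp := hp.out
    have : 1 ≤ 2 ^ u := Nat.one_le_two_pow
    rcases Nat.lt_or_ge p 17 with h | h
    · exfalso
      have hu' : 2 ^ u = 1 := by omega
      rw [hu'] at hp8
      subst hp8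
      norm_num at hpp
    · exact h
  have hfix : Nat.card (fixedBy Ω t) = 3 := by
    rcases d.card_fixed_t with ⟨-, h⟩ | ⟨h, -⟩
    · omega
    · exact h
  obtain ⟨a, b, c, H, hS⟩ := T.exists_semi d hfix
  obtain ⟨i₀, hi₀⟩ : 2 ^ (u + 2) ∣ Nat.card H := by
    have h := hS.big
    rw [← hv, hu, show 2 ^ (3 + u) = 2 * 2 ^ (u + 2) by ring] at h
    exact Nat.dvd_of_mul_dvd_mul_left (by norm_num) h
  haveI : Fintype (orbitRel.Quotient G (Ω × Ω)) := Fintype.ofFinite _
  let N := (Finset.univ : Finset (orbitRel.Quotient G (Ω × Ω))).erase (orb G a a)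
  have hsw : ∑ o ∈ N, wt p x o = 3 := by
    rw [← T.sum_wt d hm, ← Finset.add_sum_erase _ _ (Finset.mem_univ (orb G a a)),
      T.wt_diag d hm, zero_add]
  have hsk : ∑ o ∈ N, TwoPrime.valency a o + 1 = 3 * p := by
    rw [← d.card, ← sum_valency (G := G) a,
      ← Finset.add_sum_erase _ _ (Finset.mem_univ (orb G a a)), valency_diag, add_comm]
  have hsq : ∑ o ∈ N, ((TwoPrime.valency a o : ℝ) - p * wt p x o) ^ 2 / TwoPrime.valency a o =
      (2 * p + 1) / ((p : ℝ) - 1) := by
    have h := T.sum_sq d hm a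
    rw [← Finset.add_sum_erase _ _ (Finset.mem_univ (orb G a a)), valency_diag,
      T.wt_diag d hm] at h
    have hf' : (f : ℝ) = (p : ℝ) - 1 := by rw [← hf]; push_cast; ring
    have hp1 : (p : ℝ) - 1 ≠ 0 := by
      have : (17 : ℝ) ≤ p := by exact_mod_cast h17
      intro e; linarith
    rw [hf'] at h
    simp only [Nat.cast_one, Nat.cast_zero, mul_zero, sub_zero, one_pow, div_one] at h
    have h' : ∑ o ∈ N, ((TwoPrime.valency a o : ℝ) - p * wt p x o) ^ 2 / TwoPrime.valency a o =
        3 * (p : ℝ) / ((p : ℝ) - 1) - 1 := by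
      simp only [N]
      linarith
    rw [h']
    field_simp
    ring
  have hpos : ∀ o ∈ N, 0 < wt p x o ∧ 0 < TwoPrime.valency a o := by
    intro o ho
    refine ⟨?_, valency_pos a o⟩
    induction o using Quotient.inductionOn' with
    | h q =>
      refine T.wt_pos d hm ‹_› (z := q.1) (y := q.2) fun e => (Finset.mem_erase.1 ho).1 ?_
      exact (orb_eq_diag_iff a q.1 q.2).2 e
  have hcong : ∀ o ∈ N, ∃ i j : ℕ, TwoPrime.valency a o = i * (4 * 2 ^ u) + j ∧ j ≤ 2 := by
    intro o ho
    obtain ⟨i, j, h1, h2⟩ := hS.valency (Finset.mem_erase.1 ho).1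
    refine ⟨i * i₀, j, by rw [h1, hi₀, hh]; ring, ?_⟩
    rw [h2]
    split_ifs <;> omega
  have hcard : N.card ≤ 3 := by
    rw [← hsw]
    simpa using Finset.card_nsmul_le_sum N (fun o => wt p x o) 1 fun o ho => (hpos o ho).1
  have hp' : (17 : ℝ) ≤ p := by exact_mod_cast h17
  rcases hc : N.card with _ | _ | _ | _ | _
  · rw [Finset.card_eq_zero.1 hc, Finset.sum_empty] at hsw
    omega
  · obtain ⟨o, ho⟩ := Finset.card_eq_one.1 hc
    rw [ho, Finset.sum_singleton] at hsw hsk hsq
    have hk : (TwoPrime.valency a o : ℝ) = 3 * p - 1 := by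
      have : ((TwoPrime.valency a o + 1 : ℕ) : ℝ) = ((3 * p : ℕ) : ℝ) := by rw [hsk]
      push_cast at this
      linarith
    rw [hsw, hk] at hsq
    push_cast at hsq
    rw [div_eq_div_iff (by linarith) (by linarith)] at hsq
    nlinarith
  · obtain ⟨o₁, o₂, hne, ho⟩ := Finset.card_eq_two.1 hc
    have m1 : o₁ ∈ N := by rw [ho]; simp
    have m2 : o₂ ∈ N := by rw [ho]; simp
    rw [ho, Finset.sum_pair hne] at hsw hsk hsq
    have key : ∀ k₁ k₂ : ℕ, 0 < k₁ → 0 < k₂ → k₁ + k₂ + 1 = 3 * p →
        ((k₁ : ℝ) - p * (1 : ℕ)) ^ 2 / k₁ + ((k₂ : ℝ) - p * (2 : ℕ)) ^ 2 / k₂ =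
          (2 * p + 1) / ((p : ℝ) - 1) → False := by
      intro k₁ k₂ h1 h2 hs hq
      have e1 : (0 : ℝ) < k₁ := Nat.cast_pos.2 h1
      have e2 : (0 : ℝ) < k₂ := Nat.cast_pos.2 h2
      have hk : (k₂ : ℝ) = 3 * p - 1 - k₁ := by
        have : ((k₁ + k₂ + 1 : ℕ) : ℝ) = ((3 * p : ℕ) : ℝ) := by rw [hs]
        push_cast at this
        linarith
      rw [div_add_div _ _ e1.ne' e2.ne', div_eq_div_iff (mul_ne_zero e1.ne' e2.ne') (by linarith),
        hk] at hq
      push_cast at hq
      have h3 : (3 : ℝ) * ((k₁ : ℝ) - p) ^ 2 + 1 = 4 * p := by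
        have hP : (p : ℝ) ^ 2 ≠ 0 := pow_ne_zero 2 (by linarith)
        apply mul_left_cancel₀ hP
        linear_combination hq
      have h3' : (((3 : ℤ) * ((k₁ : ℤ) - p) ^ 2 + 1 : ℤ) : ℝ) = ((4 * (p : ℤ) : ℤ) : ℝ) := by
        push_cast; linarith
      have h4 : (3 : ℤ) * ((k₁ : ℤ) - p) ^ 2 + 1 = 4 * (p : ℤ) := by exact_mod_cast h3'
      have h5 : 3 ∣ 32 * 2 ^ u := by
        have : (3 : ℤ) ∣ ((32 * 2 ^ u : ℕ) : ℤ) :=
          ⟨((k₁ : ℤ) - p) ^ 2 - 1, by
            have : (p : ℤ) = 8 * 2 ^ u + 1 := by exact_mod_cast hp8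
            push_cast
            rw [this] at h4 ⊢
            linarith⟩
        exact_mod_cast this
      have h6 : 3 ∣ 2 ^ (u + 5) := by rw [show 2 ^ (u + 5) = 32 * 2 ^ u by ring]; exact h5
      have := Nat.prime_three.dvd_of_dvd_pow h6
      omega
    obtain ⟨w1, v1⟩ := hpos o₁ m1
    obtain ⟨w2, v2⟩ := hpos o₂ m2
    rcases Nat.lt_or_ge (wt p x o₁) 2 with h | h
    · rw [show wt p x o₁ = 1 by omega, show wt p x o₂ = 2 by omega] at hsq
      exact key _ _ v1 v2 hsk hsq
    · rw [show wt p x o₁ = 2 by omega, show wt p x o₂ = 1 by omega, add_comm] at hsq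
      exact key _ _ v2 v1 (by omega) hsq
  · obtain ⟨o₁, o₂, o₃, h12, h13, h23, ho⟩ := Finset.card_eq_three.1 hc
    have hw1 : ∀ o ∈ N, wt p x o = 1 := by
      have he := (Finset.sum_eq_sum_iff_of_le (s := N) (f := fun _ => 1)
        (g := fun o => wt p x o) fun o ho => (hpos o ho).1).1 (by
          rw [hsw, Finset.sum_const, hc]; rfl)
      exact fun o ho => (he o ho).symm
    have hdich : ∀ o ∈ N, (p ≤ TwoPrime.valency a o + 1 ∧ TwoPrime.valency a o ≤ p + 1) ∨
        p + 2 ≤ TwoPrime.valency a o := by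
      intro o ho'
      by_contra hcon
      have hlt : TwoPrime.valency a o + 2 ≤ p := by omega
      have hterm : ((TwoPrime.valency a o : ℝ) - p) ^ 2 / TwoPrime.valency a o < 3 := by
        have h := Finset.single_le_sum (f := fun o => ((TwoPrime.valency a o : ℝ) - p * wt p x o) ^ 2 /
          TwoPrime.valency a o) (fun o _ => div_nonneg (sq_nonneg _) (Nat.cast_nonneg _)) ho'
        rw [hsq] at h
        simp only [hw1 o ho', Nat.cast_one, mul_one] at h
        refine lt_of_le_of_lt h ?_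
        rw [div_lt_iff₀ (by linarith)]
        linarith
      have hvp := (hpos o ho').2
      have hvR : (0 : ℝ) < TwoPrime.valency a o := Nat.cast_pos.2 hvp
      rw [div_lt_iff₀ hvR] at hterm
      obtain ⟨i, j, hij, hj⟩ := hcong o ho'
      have hi : i ≤ 1 := by
        by_contra hi
        have : 2 * (4 * 2 ^ u) ≤ i * (4 * 2 ^ u) := Nat.mul_le_mul_right _ (by omega)
        omega
      have hk : TwoPrime.valency a o ≤ 4 * 2 ^ u + 2 := by
        have := Nat.mul_le_mul_right (4 * 2 ^ u) hi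
        omega
      have hkR : (TwoPrime.valency a o : ℝ) ≤ 4 * (2 : ℝ) ^ u + 2 := by exact_mod_cast hk
      have hpR : (p : ℝ) = 8 * (2 : ℝ) ^ u + 1 := by exact_mod_cast hp8
      nlinarith
    have hbig : ∀ o ∈ N, p + 2 ≤ TwoPrime.valency a o → p + 3 ≤ TwoPrime.valency a o := by
      intro o ho' h
      obtain ⟨i, j, hij, hj⟩ := hcong o ho'
      have hi : 2 ≤ i := by
        by_contra hi
        have := Nat.mul_le_mul_right (4 * 2 ^ u) (show i ≤ 1 by omega)
        omega
      rcases Nat.eq_or_lt_of_le hi with rfl | hi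
      · omega
      · have := Nat.mul_le_mul_right (4 * 2 ^ u) (show 3 ≤ i by omega)
        omega
    have mem : ∀ o, o ∈ N ↔ o = o₁ ∨ o = o₂ ∨ o = o₃ := fun o => by rw [ho]; simp
    rw [ho, Finset.sum_insert (by simp [h12, h13]), Finset.sum_pair h23] at hsk hsq
    have d1 := hdich o₁ ((mem _).2 (Or.inl rfl))
    have d2 := hdich o₂ ((mem _).2 (Or.inr (Or.inl rfl)))
    have d3 := hdich o₃ ((mem _).2 (Or.inr (Or.inr rfl)))
    have b1 := hbig o₁ ((mem _).2 (Or.inl rfl))
    have b2 := hbig o₂ ((mem _).2 (Or.inr (Or.inl rfl)))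
    have b3 := hbig o₃ ((mem _).2 (Or.inr (Or.inr rfl)))
    have hterm : ∀ k : ℕ, p ≤ k + 1 → k ≤ p + 1 → ((k : ℝ) - p) ^ 2 / k ≤ 1 / ((p : ℝ) - 1) := by
      intro k h1 h2
      have e1 : (p : ℝ) ≤ k + 1 := by exact_mod_cast h1
      have e2 : (k : ℝ) ≤ p + 1 := by exact_mod_cast h2
      refine div_le_div₀ zero_le_one ?_ (by linarith) (by linarith)
      nlinarith
    simp only [hw1 o₁ ((mem _).2 (Or.inl rfl)), hw1 o₂ ((mem _).2 (Or.inr (Or.inl rfl))),
      hw1 o₃ ((mem _).2 (Or.inr (Or.inr rfl))), Nat.cast_one, mul_one] at hsq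
    have t1 := hterm _ (show p ≤ TwoPrime.valency a o₁ + 1 by omega) (by omega)
    have t2 := hterm _ (show p ≤ TwoPrime.valency a o₂ + 1 by omega) (by omega)
    have t3 := hterm _ (show p ≤ TwoPrime.valency a o₃ + 1 by omega) (by omega)
    have : (2 * (p : ℝ) + 1) / ((p : ℝ) - 1) ≤ 3 * (1 / ((p : ℝ) - 1)) := by linarith
    rw [mul_one_div, div_le_div_iff_of_pos_right (by linarith)] at this
    linarith
  · omega

end Large

end CfsgLib.Deg3P
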