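/-
Degree `3 p`: the doubly transitive case; orbit counts and `p`-singular elements.
-/
import Cfsg.Agent.Deg3P.PFive

set_option autoImplicit false
set_option linter.style.haveILetI false
set_option linter.unusedSectionVars false

namespace CfsgLib.Deg3P

open MulAction CfsgLib.Char CfsgLib.TwoPrime CfsgLib.CentralizerRing

universe u v

variable {p : ℕ} [hp : Fact p.Prime]
variable {G : Type u} [Group G] [Fintype G] {Ω : Type v} [MulAction G Ω] [Fintype Ω]
variable {x t : G}

/-- The number of fixed points. -/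
noncomputable def fx (Ω : Type v) [MulAction G Ω] (g : G) : ℕ := Nat.card (fixedBy Ω g)

theorem sum_fx_pow_one : ∑ g : G, fx Ω g = Nat.card (orbitRel.Quotient G Ω) * Nat.card G := by
  classical
  have h := sum_card_fixedBy_eq_card_orbits_mul_card_group G Ω
  simp only [fx, Nat.card_eq_fintype_card]
  exact h

theorem fx_prod {Ω' : Type v} [MulAction G Ω'] (g : G) : fx (Ω × Ω') g = fx Ω g * fx Ω' g := by
  rw [fx, fx, fx, ← Nat.card_prod]
  exact Nat.card_congr
    { toFun := fun z => (⟨z.1.1, congrArg Prod.fst z.2⟩, ⟨z.1.2, congrArg Prod.snd z.2⟩)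
      invFun := fun z => ⟨(z.1, z.2), Prod.ext z.1.2 z.2.2⟩
      left_inv := fun z => rfl
      right_inv := fun z => rfl }

theorem sum_fx_sq : ∑ g : G, fx Ω g ^ 2 =
    Nat.card (orbitRel.Quotient G (Ω × Ω)) * Nat.card G := by
  rw [← sum_fx_pow_one]
  exact Finset.sum_congr rfl fun g _ => by rw [fx_prod, sq]

theorem five_le_orbits_triples [Finite (orbitRel.Quotient G (Ω × Ω × Ω))] {a b c : Ω}
    (hab : a ≠ b) (hac : a ≠ c) (hbc : b ≠ c) :
    5 ≤ Nat.card (orbitRel.Quotient G (Ω × Ω × Ω)) := by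
  classical
  let T : Fin 5 → Ω × Ω × Ω := ![(a, a, a), (a, a, b), (a, b, a), (b, a, a), (a, b, c)]
  let key : Ω × Ω × Ω → Bool × Bool × Bool := fun q =>
    (decide (q.1 = q.2.1), decide (q.1 = q.2.2), decide (q.2.1 = q.2.2))
  have hinj : Function.Injective fun i : Fin 5 =>
      (Quotient.mk'' (T i) : orbitRel.Quotient G (Ω × Ω × Ω)) := by
    intro i k h
    obtain ⟨g, hg⟩ := Quotient.exact' h
    have hk : key (T i) = key (T k) := by
      rw [← hg]
      simp only [key, Prod.smul_fst, Prod.smul_snd, smul_left_cancel_iff]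
    revert hk
    fin_cases i <;> fin_cases k <;>
      simp [T, key, hab, hac, hbc, hab.symm, hac.symm, hbc.symm]
  have := Nat.card_le_card_of_injective _ hinj
  rwa [Nat.card_eq_fintype_card, Fintype.card_fin] at this

theorem sum_fx_cube {a b c : Ω} (hab : a ≠ b) (hac : a ≠ c) (hbc : b ≠ c) :
    5 * Nat.card G ≤ ∑ g : G, fx Ω g ^ 3 := by
  rw [Finset.sum_congr rfl fun g _ => show fx Ω g ^ 3 = fx (Ω × Ω × Ω) g by
    rw [fx_prod, fx_prod]; ring, sum_fx_pow_one]
  exact Nat.mul_le_mul_right _ (five_le_orbits_triples hab hac hbc)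

/-- The elements conjugate to a non-trivial power of `x`. -/
noncomputable def psing (p : ℕ) [Fact p.Prime] (x : G) : Finset G := by
  classical
  exact ((Finset.univ : Finset (G × ZMod p)).filter fun q => q.2 ≠ 0).image
    fun q => q.1 * xpow x q.2 * q.1⁻¹

theorem mem_psing {g : G} :
    g ∈ psing p x ↔ ∃ c : G, ∃ m : ZMod p, m ≠ 0 ∧ c * xpow x m * c⁻¹ = g := by
  classical
  simp only [psing, Finset.mem_image, Finset.mem_filter, Finset.mem_univ, true_and, Prod.exists]

theorem Data.card_psing (d : Data p G Ω x t) :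
    2 * p * (psing p x).card = (p - 1) * Nat.card G := by
  classical
  have D := d.dih
  set S := (Finset.univ : Finset (G × ZMod p)).filter fun q => q.2 ≠ 0 with hS
  have hScard : S.card = (p - 1) * Nat.card G := by
    rw [show S = (Finset.univ : Finset G) ×ˢ (Finset.univ.erase (0 : ZMod p)) by
      ext ⟨g, m⟩; simp [hS], Finset.card_product, Finset.card_erase_of_mem (Finset.mem_univ _),
      Finset.card_univ, Finset.card_univ, ZMod.card, Nat.card_eq_fintype_card, mul_comm]
  have hi : t⁻¹ = t := inv_eq_of_mul_eq_one_right D.t_sq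
  rw [← hScard, Finset.card_eq_sum_card_image (fun q : G × ZMod p => q.1 * xpow x q.2 * q.1⁻¹) S,
    show (psing p x) = S.image fun q => q.1 * xpow x q.2 * q.1⁻¹ from by
      ext g; simp only [mem_psing, Finset.mem_image, hS, Finset.mem_filter, Finset.mem_univ,
        true_and, Prod.exists],
    Finset.sum_congr rfl (g := fun _ => 2 * p) fun y hy => ?_, Finset.sum_const, smul_eq_mul,
    mul_comm]
  obtain ⟨⟨c₀, m₀⟩, hq₀, rfl⟩ := Finset.mem_image.1 hy
  have hm₀ : m₀ ≠ 0 := (Finset.mem_filter.1 hq₀).2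
  let F : Bool × ZMod p → G × ZMod p := fun b =>
    if b.1 then (c₀ * (xpow x b.2 * t), -m₀) else (c₀ * xpow x b.2, m₀)
  have hFmem : ∀ b, F b ∈ S.filter fun q => q.1 * xpow x q.2 * q.1⁻¹ = c₀ * xpow x m₀ * c₀⁻¹ := by
    rintro ⟨b, i⟩
    cases b
    · simp only [F, Bool.false_eq_true, if_false, hS, Finset.mem_filter, Finset.mem_univ, true_and]
      refine ⟨hm₀, ?_⟩
      rw [mul_inv_rev, ← xpow_neg D.pow_p, show c₀ * xpow x i * xpow x m₀ * (xpow x (-i) * c₀⁻¹) =
        c₀ * (xpow x i * xpow x m₀ * xpow x (-i)) * c₀⁻¹ by group, ← xpow_add D.pow_p,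
        ← xpow_add D.pow_p]
      congr 3
      ring
    · simp only [F, if_true, hS, Finset.mem_filter, Finset.mem_univ, true_and]
      refine ⟨neg_ne_zero.2 hm₀, ?_⟩
      rw [mul_inv_rev, mul_inv_rev, hi, ← xpow_neg D.pow_p,
        show c₀ * (xpow x i * t) * xpow x (-m₀) * (t * xpow x (-i) * c₀⁻¹) =
          c₀ * (xpow x i * (t * xpow x (-m₀) * t) * xpow x (-i)) * c₀⁻¹ by group, D.conj_xpow,
        neg_neg, ← xpow_add D.pow_p, ← xpow_add D.pow_p]
      congr 3
      ring
  have hFinj : Function.Injective F := by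
    rintro ⟨b, i⟩ ⟨b', i'⟩ h
    have hne : m₀ ≠ -m₀ := D.two_ne d.ne_two m₀ hm₀
    cases b <;> cases b' <;>
      simp only [F, Bool.false_eq_true, if_false, if_true, Prod.mk.injEq] at h
    · rw [xpow_injective D.pow_p D.x_ne (mul_left_cancel h.1)]
    · exact absurd h.2 hne
    · exact absurd h.2.symm hne
    · rw [xpow_injective D.pow_p D.x_ne (mul_right_cancel (mul_left_cancel h.1))]
  have himg : (S.filter fun q => q.1 * xpow x q.2 * q.1⁻¹ = c₀ * xpow x m₀ * c₀⁻¹) =
      (Finset.univ : Finset (Bool × ZMod p)).image F := by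
    refine Finset.Subset.antisymm ?_ (Finset.image_subset_iff.2 fun b _ => hFmem b)
    rintro ⟨c, m⟩ hq
    obtain ⟨hqS, heq⟩ := Finset.mem_filter.1 hq
    simp only at heq
    have hconj : (c₀⁻¹ * c)⁻¹ * xpow x m₀ * (c₀⁻¹ * c) = xpow x m := by
      rw [show (c₀⁻¹ * c)⁻¹ * xpow x m₀ * (c₀⁻¹ * c) = c⁻¹ * (c₀ * xpow x m₀ * c₀⁻¹) * c by group,
        ← heq]
      group
    rcases D.mem_or_of_conj hm₀ (hconj ▸ (mem_zpowers_xpow D.pow_p).2 ⟨m, rfl⟩) with
      ⟨i, hi'⟩ | ⟨i, hi'⟩
    · refine Finset.mem_image.2 ⟨(false, i), Finset.mem_univ _, ?_⟩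
      have hc : c = c₀ * xpow x i := by rw [← hi', mul_inv_cancel_left]
      have hmem := (Finset.mem_filter.1 (hFmem (false, i))).2
      simp only [F, Bool.false_eq_true, if_false] at hmem ⊢
      rw [← hc] at hmem ⊢
      rw [xpow_injective D.pow_p D.x_ne (mul_left_cancel (mul_right_cancel (hmem.trans heq.symm)))]
    · refine Finset.mem_image.2 ⟨(true, i), Finset.mem_univ _, ?_⟩
      have hc : c = c₀ * (xpow x i * t) := by rw [← hi', mul_inv_cancel_left]
      have hmem := (Finset.mem_filter.1 (hFmem (true, i))).2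
      simp only [F, if_true] at hmem ⊢
      rw [← hc] at hmem ⊢
      rw [xpow_injective D.pow_p D.x_ne (mul_left_cancel (mul_right_cancel (hmem.trans heq.symm)))]
  rw [himg, Finset.card_image_of_injective _ hFinj, Finset.card_univ, Fintype.card_prod,
    Fintype.card_bool, ZMod.card]

theorem Data.fx_psing (d : Data p G Ω x t) {g : G} (hg : g ∈ psing p x) : fx Ω g = 0 := by
  obtain ⟨c, m, hm, rfl⟩ := mem_psing.1 hg
  have hempty : fixedBy Ω (c * xpow x m * c⁻¹) = ∅ :=
    Set.eq_empty_iff_forall_notMem.2 fun z hz => d.fpf m hm (c⁻¹ • z) (by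
      have h : (c * xpow x m * c⁻¹) • z = z := hz
      rw [mul_smul, mul_smul] at h
      exact eq_inv_smul_iff.2 h)
  rw [fx, hempty]
  simp

theorem fx_one : fx Ω (1 : G) = Fintype.card Ω := by
  rw [fx, show fixedBy Ω (1 : G) = Set.univ by simp [fixedBy], Nat.card_congr (Equiv.Set.univ Ω),
    Nat.card_eq_fintype_card]

variable [IsSimpleGroup G] [FaithfulSMul G Ω] [IsPreprimitive G Ω]
variable {θ : G → ℂ} {f : ℕ}

/-- The facts about a doubly transitive action. -/
structure Three (p : ℕ) (G : Type u) [Group G] (Ω : Type v) [MulAction G Ω] (θ : G → ℂ)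
    (a b : Ω) : Prop where
  hab : a ≠ b
  val : ∀ g : G, θ g = (fx Ω g : ℂ) - 1
  trans : ∀ u w : Ω, u ≠ w → ∃ g : G, g • a = u ∧ g • b = w
  orb1 : Nat.card (orbitRel.Quotient G Ω) = 1
  orb2 : Nat.card (orbitRel.Quotient G (Ω × Ω)) = 2
  cardG : Nat.card G = 3 * p * (3 * p - 1) * Nat.card (stabilizer G (a, b))

theorem Theta.exists_three (T : Theta p G Ω x θ 3 f) (d : Data p G Ω x t) :
    ∃ a b : Ω, Three p G Ω θ a b := by
  classical
  haveI : Nonempty Ω := Fintype.card_pos_iff.1 (by rw [d.card]; have := hp.out.pos; omega)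
  have hf : f + 1 = 3 * p := T.f_eq
  have hm := T.mult (Or.inl (by norm_num))
  obtain ⟨mlt, hmlt, hpi, hnorm⟩ := exists_mult_fun (G := G) (Ω := Ω)
  let one : G → ℂ := fun _ => 1
  have hone : Cfsg.IsIrrCharacter G one := isIrrCharacter_one
  have hm1 : mlt one = 1 := by
    have h := classInner_pi_one_transitive (G := G) (Ω := Ω)
    rw [hmlt one hone] at h
    exact_mod_cast h
  have hmθ : mlt θ = 1 := by
    have h := hm.1
    rw [hmlt θ T.irr] at h
    exact_mod_cast h
  let deg : (G → ℂ) → ℕ := fun φ => Cfsg.charDegree φ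
  have hdeg : ∀ {φ}, Cfsg.IsIrrCharacter G φ → φ 1 = deg φ ∧ 0 < deg φ := fun {φ} hφ => by
    obtain ⟨n, hn, hn'⟩ := IsIrrCharacter.exists_degree hφ
    exact ⟨by rw [show deg φ = n from charDegree_eq_natCast hn', hn'],
      by rw [show deg φ = n from charDegree_eq_natCast hn']; omega⟩
  have htot : ∑ φ ∈ irrFinset G, mlt φ * deg φ = 3 * p := by
    have h := congrFun hpi 1
    rw [Finset.sum_apply, pi, show fixedBy Ω (1 : G) = Set.univ by simp [fixedBy],
      Nat.card_congr (Equiv.Set.univ Ω), Nat.card_eq_fintype_card, d.card] at h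
    simp only [Pi.smul_apply, smul_eq_mul] at h
    rw [Finset.sum_congr rfl fun φ hφ => by rw [(hdeg (mem_irrFinset.1 hφ)).1]] at h
    exact_mod_cast h.symm
  have hsub : ({one, θ} : Finset (G → ℂ)) ⊆ irrFinset G := by
    simp only [Finset.insert_subset_iff, Finset.singleton_subset_iff, mem_irrFinset]
    exact ⟨hone, T.irr⟩
  have hne : one ≠ θ := Ne.symm T.ne_one
  have hd : deg one = 1 ∧ deg θ = f :=
    ⟨charDegree_eq_natCast (by simp [one]), charDegree_eq_natCast T.deg⟩
  have hrest : ∀ φ ∈ irrFinset G, φ ∉ ({one, θ} : Finset (G → ℂ)) → mlt φ = 0 := by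
    intro φ hφ hn
    rw [← Finset.sum_sdiff hsub, Finset.sum_pair hne, hm1, hmθ, hd.1, hd.2] at htot
    have h0 : ∑ φ ∈ irrFinset G \ {one, θ}, mlt φ * deg φ = 0 := by omega
    have := Finset.sum_eq_zero_iff.1 h0 φ (Finset.mem_sdiff.2 ⟨hφ, hn⟩)
    have := (hdeg (mem_irrFinset.1 hφ)).2
    rcases Nat.mul_eq_zero.1 ‹mlt φ * deg φ = 0› with h | h <;> omega
  have hval : ∀ g : G, θ g = (fx Ω g : ℂ) - 1 := by
    intro g
    have h := congrFun hpi g
    rw [Finset.sum_apply, ← Finset.sum_subset hsub fun φ hφ hn => by simp [hrest φ hφ hn],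
      Finset.sum_pair hne] at h
    simp only [Pi.smul_apply, smul_eq_mul, hm1, hmθ, Nat.cast_one, one_mul, one] at h
    rw [show (fx Ω g : ℂ) = pi G Ω g from rfl, h]
    ring
  have h2 : Nat.card (orbitRel.Quotient G (Ω × Ω)) = 2 := by
    rw [← hnorm, ← Finset.sum_subset hsub fun φ hφ hn => by rw [hrest φ hφ hn]; rfl,
      Finset.sum_pair hne, hm1, hmθ]
    norm_num
  haveI : Subsingleton (orbitRel.Quotient G Ω) :=
    (pretransitive_iff_subsingleton_quotient G Ω).1 inferInstance
  have h1 : Nat.card (orbitRel.Quotient G Ω) = 1 :=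
    Nat.card_of_subsingleton (Quotient.mk'' (Classical.arbitrary Ω))
  obtain ⟨a, b, hab⟩ := Fintype.exists_pair_of_one_lt_card (α := Ω) (by rw [d.card]; omega)
  haveI : Fintype (orbitRel.Quotient G (Ω × Ω)) := Fintype.ofFinite _
  have horb : ∀ u w : Ω, u ≠ w → orb G u w = orb G a b := by
    intro u w huw
    rw [Nat.card_eq_fintype_card] at h2
    by_contra hne'
    have h3 : ({orb G a a, orb G u w, orb G a b} : Finset _).card = 3 := by
      rw [Finset.card_insert_of_notMem, Finset.card_pair hne']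
      simp only [Finset.mem_insert, Finset.mem_singleton]
      rintro (e | e)
      · exact huw ((orb_eq_diag_iff a u w).1 e.symm)
      · exact hab ((orb_eq_diag_iff a a b).1 e.symm)
    have := Finset.card_le_univ ({orb G a a, orb G u w, orb G a b} : Finset _)
    omega
  refine ⟨a, b, hab, hval, fun u w huw => exists_smul_of_orb_eq (horb u w huw), h1, h2, ?_⟩
  have horbit : (orbit G (a, b)).ncard = 3 * p * (3 * p - 1) := by
    rw [show orbit G (a, b) = ((Finset.univ : Finset Ω).offDiag : Set (Ω × Ω)) by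
      ext ⟨u, w⟩
      simp only [Finset.coe_offDiag, Set.mem_offDiag, Finset.coe_univ, Set.mem_univ, true_and]
      refine ⟨?_, fun huw => ?_⟩
      · rintro ⟨g, hg⟩ e
        obtain ⟨h1, h2⟩ := Prod.mk.injEq .. ▸ hg
        exact hab (smul_left_cancel g ((h1.trans e).trans h2.symm))
      · obtain ⟨g, h1, h2⟩ := exists_smul_of_orb_eq (horb u w huw)
        exact ⟨g, Prod.ext h1 h2⟩,
      Set.ncard_coe_finset, Finset.offDiag_card, Finset.card_univ, d.card, Nat.mul_sub_left_distrib,
      mul_one]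
  rw [← (stabilizer G (a, b)).card_mul_index, index_stabilizer, horbit, mul_comm]

end CfsgLib.Deg3P
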