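/-
Degree `3 p`, doubly transitive, involutions with one fixed point.
-/
import Cfsg.Agent.Deg3P.KThreeBase
import Cfsg.Agent.Deg3P.Hall
import Cfsg.Agent.FGSB.FrobeniusRoots

set_option autoImplicit false
set_option linter.style.haveILetI false
set_option linter.unusedSectionVars false

namespace CfsgLib.Deg3P

open MulAction CfsgLib.Char CfsgLib.TwoPrime CfsgLib.CentralizerRing

universe u v

variable {p : ℕ} [hp : Fact p.Prime]
variable {G : Type u} [Group G] [Fintype G] [IsSimpleGroup G] {Ω : Type v} [MulAction G Ω]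
  [Fintype Ω] [FaithfulSMul G Ω] [IsPreprimitive G Ω]
variable {x t : G} {θ : G → ℂ} {f : ℕ}

/-- The orders when the involutions fix one point. -/
structure ThreeOne (p : ℕ) (G : Type u) [Group G] (t : G) (e : ℕ) : Prop where
  odde : Odd e
  three : 3 ≤ e
  cardG : Nat.card G = 9 * p * (3 * p - 1) * (3 * p - 2) * e ^ 2
  invol : Nat.card {g : G // IsConj t g} = 3 * p * (3 * p - 2) * e
  cent : Nat.card (Subgroup.centralizer ({t} : Set G)) = 3 * (3 * p - 1) * e

theorem Three.exists_one {a b : Ω} (R : Three p G Ω θ a b) (T : Theta p G Ω x θ 3 f)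
    (d : Data p G Ω x t) (h1 : Nat.card (fixedBy Ω t) = 1) : ∃ e, ThreeOne p G t e := by
  classical
  have hp0 := hp.out.pos
  have h3 := d.h3
  have hf : f + 1 = 3 * p := T.f_eq
  have hK := T.invol_stab d a
  rw [h1, mul_one] at hK
  set κ := Nat.card {g : G // IsConj t g ∧ g • a = a}
  set D := Nat.card (stabilizer G (a, b)) with hD
  obtain ⟨q, hq⟩ : ∃ q, 3 * p = q + 2 := ⟨3 * p - 2, by omega⟩
  have hp1 : 3 * p - 1 = q + 1 := by omega
  have hp2 : 3 * p - 2 = q := by omega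
  have hθt : θ t = 0 := by
    rw [R.val, fx, h1]; norm_num
  have hce := T.class_eq d
  rw [hθt, hK, R.cardG, ← hD, hp1] at hce
  have hmain : 3 * κ ^ 2 = q * D := by
    have h : ((3 * κ ^ 2 : ℕ) : ℂ) = ((q * D : ℕ) : ℂ) := by
      have hfC : (f : ℂ) = (q : ℂ) + 1 := by
        have : ((f : ℕ) : ℂ) = ((q + 1 : ℕ) : ℂ) := by rw [show f = q + 1 by omega]
        push_cast at this; exact this
      have hne : 3 * (p : ℂ) ^ 2 * ((q : ℂ) + 1) ^ 2 ≠ 0 := by
        refine mul_ne_zero (mul_ne_zero (by norm_num) (pow_ne_zero 2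
          (Nat.cast_ne_zero.2 hp0.ne'))) (pow_ne_zero 2 ?_)
        exact_mod_cast (show q + 1 ≠ 0 by omega)
      apply mul_left_cancel₀ hne
      push_cast at hce ⊢
      rw [hfC] at hce
      linear_combination hce
    exact_mod_cast h
  set C := Nat.card (Subgroup.centralizer ({t} : Set G)) with hC
  have hGC : Nat.card G = C * (3 * p * κ) := by
    rw [← hK, card_conj_class, hC, Subgroup.card_mul_index]
  have hκ0 : 0 < κ := by
    rcases Nat.eq_zero_or_pos κ with h | h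
    · rw [h, mul_zero, mul_zero] at hGC
      exact absurd hGC Nat.card_pos.ne'
    · exact h
  have hCq : C * q = 3 * (q + 1) * κ := by
    refine Nat.eq_of_mul_eq_mul_left (Nat.mul_pos (show 0 < 3 * p by omega) hκ0) ?_
    rw [R.cardG, ← hD, hp1] at hGC
    calc 3 * p * κ * (C * q) = C * (3 * p * κ) * q := by ring
      _ = 3 * p * (q + 1) * (q * D) := by rw [← hGC]; ring
      _ = _ := by rw [← hmain]; ring
  obtain ⟨e, he⟩ : q ∣ κ := by
    have hcop : Nat.Coprime q (3 * (q + 1)) := by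
      refine Nat.Coprime.mul_right ((Nat.prime_three.coprime_iff_not_dvd).2 ?_).symm
        (Nat.coprime_self_add_right.2 (Nat.coprime_one_right q))
      omega
    exact hcop.dvd_of_dvd_mul_left ⟨C, by rw [← hCq, mul_comm]⟩
  have hq0 : 0 < q := by omega
  have hD' : D = 3 * q * e ^ 2 := by
    rw [he] at hmain
    refine Nat.eq_of_mul_eq_mul_left hq0 ?_
    linarith
  have hC' : C = 3 * (q + 1) * e := by
    rw [he] at hCq
    refine Nat.eq_of_mul_eq_mul_left hq0 ?_
    linarith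
  have hodde : Odd e := by
    rw [← Nat.not_even_iff_odd]
    intro h
    refine T.odd_invol d (hK ▸ ?_)
    rw [he]
    exact dvd_mul_of_dvd_right (dvd_mul_of_dvd_right h.two_dvd q) _
  have hG : Nat.card G = 9 * p * (q + 1) * q * e ^ 2 := by
    rw [R.cardG, ← hD, hp1, hD']; ring
  refine ⟨e, hodde, ?_, by rw [hp1, hp2, hG], by rw [hp2, hK, he]; ring, by rw [hp1, ← hC, hC']⟩
  by_contra hlt
  have he1 : e = 1 := by rw [Nat.odd_iff] at hodde; omega
  obtain ⟨k, hk⟩ := d.sylow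
  rw [hG, he1] at hk
  have h2 : 9 * (q + 1) * q = 2 * (p * k + 1) := by
    refine Nat.eq_of_mul_eq_mul_left hp0 ?_
    linarith
  have h3' : (p : ℤ) ∣ ((16 : ℕ) : ℤ) := by
    have h2' : (9 : ℤ) * (q + 1) * q = 2 * (p * k + 1) := by exact_mod_cast h2
    have hq' : (q : ℤ) = 3 * p - 2 := by omega
    rw [hq'] at h2'
    exact ⟨2 * k - 81 * (p : ℤ) + 81, by push_cast; linarith⟩
  have h16 : p ∣ 2 ^ 4 := by exact_mod_cast h3'
  have := (Nat.prime_dvd_prime_iff_eq hp.out Nat.prime_two).1 (hp.out.dvd_of_dvd_pow h16)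
  omega

theorem Three.odd_centralizer {a b : Ω} (R : Three p G Ω θ a b) (T : Theta p G Ω x θ 3 f)
    (d : Data p G Ω x t) (h1 : Nat.card (fixedBy Ω t) = 1) {e : ℕ} (N : ThreeOne p G t e) :
    15 * e ≤ Nat.card {h : Subgroup.centralizer ({t} : Set G) // Odd (orderOf h)} := by
  classical
  set C := Subgroup.centralizer ({t} : Set G) with hC
  obtain ⟨v, j, hjodd, hj⟩ := Nat.exists_eq_two_pow_mul_odd (show 3 * p - 1 ≠ 0 by
    have := hp.out.pos; omega)
  have he0 : 0 < e := N.odde.pos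
  have hn : Odd (3 * j * e) := ((Nat.odd_iff.2 rfl).mul hjodd).mul N.odde
  have hcardC : Nat.card C = 2 ^ v * (3 * j * e) := by rw [hC, N.cent, hj]; ring
  have hset : ∀ h : C, Odd (orderOf h) ↔ h ^ (3 * j * e) = 1 := by
    intro h
    refine ⟨fun ho => orderOf_dvd_iff_pow_eq_one.1 ?_, fun he => Odd.of_dvd_nat hn
      (orderOf_dvd_iff_pow_eq_one.2 he)⟩
    exact (Nat.Coprime.pow_right v (Nat.coprime_two_right.2 ho)).dvd_of_dvd_mul_left
      (hcardC ▸ orderOf_dvd_natCard h)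
  have hdvd : 3 * j * e ∣ Nat.card {h : C // Odd (orderOf h)} := by
    rw [Nat.card_congr (Equiv.subtypeEquivRight hset)]
    have h := CfsgLib.FrobRoots.gcd_dvd_card_pow_eq_one C (3 * j * e)
    rwa [hcardC, Nat.gcd_mul_left_right] at h
  have hpos : 0 < Nat.card {h : C // Odd (orderOf h)} := by
    haveI : Nonempty {h : C // Odd (orderOf h)} := ⟨⟨1, by simp⟩⟩
    exact Nat.card_pos
  by_cases hj5 : 5 ≤ j
  · refine le_trans ?_ (Nat.le_of_dvd hpos hdvd)
    have := Nat.mul_le_mul_right e hj5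
    linarith
  have hj1 : j = 1 := by
    rw [Nat.odd_iff] at hjodd
    have h3 : ¬ 3 ∣ j := fun h => by
      have := h.mul_left (2 ^ v)
      rw [← hj] at this
      have := hp.out.pos
      omega
    omega
  obtain ⟨hsub, ⟨⟨z₀, hz₀⟩⟩⟩ := Nat.card_eq_one_iff_unique.1 h1
  obtain ⟨y, hy⟩ : ∃ y : Ω, y ≠ z₀ := by
    haveI : Nontrivial Ω := Fintype.one_lt_card_iff_nontrivial.1 (by
      rw [d.card]; have := hp.out.pos; omega)
    exact exists_ne z₀
  set H := stabilizer C y with hH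
  have hfix0 : ∀ c : C, c • z₀ = z₀ := by
    intro c
    have h : t • ((c : G) • z₀) = (c : G) • z₀ := by
      rw [← mul_smul, ← Subgroup.mem_centralizer_singleton_iff.1 c.2, mul_smul,
        (hz₀ : t • z₀ = z₀)]
    exact congrArg Subtype.val (Subsingleton.elim (⟨(c : G) • z₀, h⟩ : fixedBy Ω t) ⟨z₀, hz₀⟩)
  have hHodd : Odd (Nat.card H) := by
    rw [← Nat.not_even_iff_odd, even_iff_two_dvd]
    intro h2
    haveI : Fact (Nat.Prime 2) := ⟨Nat.prime_two⟩
    obtain ⟨w, hw⟩ := exists_prime_orderOf_dvd_card' 2 h2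
    have hwo : orderOf ((w : C) : G) = 2 := by
      rw [Subgroup.orderOf_coe, Subgroup.orderOf_coe, hw]
    have hw2 : ((w : C) : G) * ((w : C) : G) = 1 := by
      have h := pow_orderOf_eq_one ((w : C) : G)
      rwa [hwo, sq] at h
    have hw1 : ((w : C) : G) ≠ 1 := fun h => by simp [h] at hwo
    have hf := T.card_fixed d _ hw2 hw1
    rw [h1] at hf
    obtain ⟨hs, -⟩ := Nat.card_eq_one_iff_unique.1 hf
    exact hy (congrArg Subtype.val (Subsingleton.elim
      (⟨y, show ((w : C) : G) • y = y from w.2⟩ : fixedBy Ω ((w : C) : G))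
      ⟨z₀, show ((w : C) : G) • z₀ = z₀ from hfix0 (w : C)⟩))
  have hHdvd : Nat.card H ∣ 3 * e := by
    have h := Subgroup.card_subgroup_dvd_card H
    rw [hcardC, hj1, mul_one] at h
    exact (Nat.Coprime.pow_right v (Nat.coprime_two_right.2 hHodd)).dvd_of_dvd_mul_left h
  have horb : orbit C y ⊆ {z₀}ᶜ := by
    rintro z ⟨c, rfl⟩ (h : c • y = z₀)
    exact hy (smul_left_cancel c (h.trans (hfix0 c).symm))
  have hle : H.index ≤ 2 ^ v := by
    rw [hH, index_stabilizer]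
    refine (Set.ncard_le_ncard horb).trans (le_of_eq ?_)
    rw [Set.ncard_compl, Set.ncard_singleton, Nat.card_eq_fintype_card, d.card, hj, hj1, mul_one]
  have hmul := H.card_mul_index
  rw [hcardC, hj1, mul_one] at hmul
  have hH3 : Nat.card H = 3 * e := by
    refine le_antisymm (Nat.le_of_dvd (by omega) hHdvd) ?_
    by_contra hlt
    rw [not_le] at hlt
    have h5 := Nat.mul_le_mul_left (Nat.card H) hle
    have h6 : Nat.card H * 2 ^ v < 3 * e * 2 ^ v := Nat.mul_lt_mul_of_pos_right hlt (Nat.two_pow_pos v)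
    rw [hmul] at h5
    linarith
  have hidx : H.index = 2 ^ v := by
    rw [hH3] at hmul
    exact Nat.eq_of_mul_eq_mul_left (show 0 < 3 * e by omega) (by linarith)
  have horb' : orbit C y = {z₀}ᶜ := by
    refine Set.eq_of_subset_of_ncard_le horb (le_of_eq ?_)
    rw [← index_stabilizer, ← hH, hidx, Set.ncard_compl, Set.ncard_singleton,
      Nat.card_eq_fintype_card, d.card, hj, hj1, mul_one]
  have hcore : H.normalCore = ⊥ := by
    rw [Subgroup.eq_bot_iff_forall]
    intro g hg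
    refine Subtype.ext (FaithfulSMul.eq_of_smul_eq_smul (α := Ω) fun z => ?_)
    rw [OneMemClass.coe_one, one_smul]
    by_cases hz : z = z₀
    · subst hz; exact hfix0 g
    · obtain ⟨c, hc⟩ : z ∈ orbit C y := by rw [horb']; exact hz
      simp only at hc
      have h : (c⁻¹ * g * c⁻¹⁻¹) • y = y := hg c⁻¹
      rw [inv_inv, mul_smul, mul_smul, hc] at h
      exact (inv_smul_eq_iff.1 h).trans hc
  have hhall := hall_union hHodd ⟨v, hidx⟩ hcore (by rw [hH3]; have := N.three; omega)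
  rw [hH3] at hhall
  have hle2 : Nat.card {g : C // ∃ c, g ∈ cj H c} ≤ Nat.card {h : C // Odd (orderOf h)} :=
    Nat.card_le_card_of_injective (fun g => ⟨g.1, by
      obtain ⟨c, hc⟩ := g.2
      exact Odd.of_dvd_nat hHodd (card_cj H c ▸ Subgroup.orderOf_dvd_natCard _ hc)⟩)
      fun g g' e => Subtype.ext (congrArg (fun z : {h : C // Odd (orderOf h)} => (z : C)) e)
  obtain ⟨m, hm⟩ := hdvd
  rw [hm, hj1, mul_one] at hle2 ⊢
  have hm5 : 5 ≤ m := by
    by_contra hlt
    have := Nat.mul_le_mul_left (3 * e) (show m ≤ 4 by omega)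
    omega
  have := Nat.mul_le_mul_left (3 * e) hm5
  omega

theorem k_three_one_false (T : Theta p G Ω x θ 3 f) (d : Data p G Ω x t)
    (h1 : Nat.card (fixedBy Ω t) = 1) : False := by
  classical
  obtain ⟨a, b, R⟩ := T.exists_three d
  obtain ⟨e, N⟩ := R.exists_one T d h1
  have hodd := R.odd_centralizer T d h1 N
  have hp0 := hp.out.pos
  have h3 := d.h3
  set C := Subgroup.centralizer ({t} : Set G) with hC
  set oc := Nat.card {h : C // Odd (orderOf h)}
  -- elements whose 2-part is an involution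
  let P := (Finset.univ : Finset (G × G)).filter fun q =>
    IsConj t q.1 ∧ q.2 * q.1 = q.1 * q.2 ∧ Odd (orderOf q.2)
  let X := P.image fun q => q.1 * q.2
  set M := Nat.card G / 2 ^ (Nat.card G).factorization 2 with hM
  have hMmul : 2 ^ (Nat.card G).factorization 2 * M = Nat.card G := Nat.ordProj_mul_ordCompl_eq_self _ _
  have hModd : Odd M := by
    rw [Nat.odd_iff, ← Nat.two_dvd_ne_zero]
    exact Nat.not_dvd_ordCompl Nat.prime_two Nat.card_pos.ne'
  have hpw : ∀ h : G, Odd (orderOf h) → h ^ M = 1 := fun h ho => orderOf_dvd_iff_pow_eq_one.1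
    ((Nat.Coprime.pow_right _ (Nat.coprime_two_right.2 ho)).dvd_of_dvd_mul_left
      (hMmul.symm ▸ orderOf_dvd_natCard h))
  have hfirst : ∀ q ∈ P, (q.1 * q.2) ^ M = q.1 := by
    intro q hq
    obtain ⟨hc, hcomm, ho⟩ := (Finset.mem_filter.1 hq).2
    obtain ⟨hw2, -⟩ := (T.isConj_iff d q.1).1 hc
    rw [Commute.mul_pow hcomm.symm, hpw _ ho, mul_one]
    obtain ⟨m, hm⟩ := hModd
    rw [hm, pow_succ, pow_mul, sq, hw2, one_pow, one_mul]
  have hXcard : X.card = Nat.card {g : G // IsConj t g} * oc := by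
    have hinjP : Set.InjOn (fun q : G × G => q.1 * q.2) (P : Set (G × G)) := by
      intro q hq q' hq' (e : q.1 * q.2 = q'.1 * q'.2)
      have e1 : q.1 = q'.1 := by
        rw [← hfirst q (Finset.mem_coe.1 hq), e, hfirst q' (Finset.mem_coe.1 hq')]
      rw [e1] at e
      exact Prod.ext e1 (mul_left_cancel e)
    rw [Finset.card_image_of_injOn hinjP,
      Finset.card_eq_sum_card_fiberwise (f := Prod.fst)
        (t := Finset.univ.filter fun g : G => IsConj t g)
        (fun q hq => Finset.mem_coe.2 (Finset.mem_filter.2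
          ⟨Finset.mem_univ _, (Finset.mem_filter.1 (Finset.mem_coe.1 hq)).2.1⟩)),
      Finset.sum_congr rfl (g := fun _ => oc) fun w hw => ?_, Finset.sum_const, smul_eq_mul,
      Nat.card_eq_fintype_card, Fintype.card_subtype]
    obtain ⟨c, hc⟩ := _root_.isConj_iff.1 (Finset.mem_filter.1 hw).2
    change _ = Nat.card {h : C // Odd (orderOf h)}
    rw [Nat.card_eq_fintype_card, Fintype.card_subtype]
    refine (Finset.card_bij (s := Finset.univ.filter fun h : C => Odd (orderOf h))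
      (t := P.filter fun q => q.1 = w) (fun h _ => (w, c * (h : G) * c⁻¹)) (fun h hh => ?_)
      (fun h _ h' _ e => by
        have e' := congrArg Prod.snd e
        simp only [mul_left_inj, mul_right_inj] at e'
        exact Subtype.ext e')
      (fun q hq => ?_)).symm
    · refine Finset.mem_filter.2 ⟨Finset.mem_filter.2 ⟨Finset.mem_univ _,
        (Finset.mem_filter.1 hw).2, ?_, ?_⟩, rfl⟩
      · show c * (h : G) * c⁻¹ * w = w * (c * (h : G) * c⁻¹)
        rw [← hc, show c * (h : G) * c⁻¹ * (c * t * c⁻¹) = c * ((h : G) * t) * c⁻¹ by group,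
          Subgroup.mem_centralizer_singleton_iff.1 h.2]
        group
      · show Odd (orderOf (c * (h : G) * c⁻¹))
        rw [← MulAut.conj_apply c, (MulAut.conj c).orderOf_eq, Subgroup.orderOf_coe]
        exact (Finset.mem_filter.1 hh).2
    · obtain ⟨hqP, hqw⟩ := Finset.mem_filter.1 hq
      obtain ⟨-, hcomm, ho⟩ := (Finset.mem_filter.1 hqP).2
      refine ⟨⟨c⁻¹ * q.2 * c, Subgroup.mem_centralizer_singleton_iff.2 ?_⟩,
        Finset.mem_filter.2 ⟨Finset.mem_univ _, ?_⟩, Prod.ext hqw.symm (by group)⟩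
      · rw [hqw] at hcomm
        calc c⁻¹ * q.2 * c * t = c⁻¹ * (q.2 * (c * t * c⁻¹)) * c := by group
          _ = c⁻¹ * ((c * t * c⁻¹) * q.2) * c := by rw [hc, hcomm]
          _ = t * (c⁻¹ * q.2 * c) := by group
      · rw [← Subgroup.orderOf_coe]
        show Odd (orderOf (c⁻¹ * q.2 * c))
        have e : c⁻¹ * q.2 * c = MulAut.conj c⁻¹ q.2 := by simp
        rw [e, (MulAut.conj c⁻¹).orderOf_eq]
        exact ho
  have hX5 : 5 * Nat.card G ≤ X.card * (3 * p - 1) := by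
    rw [hXcard]
    calc 5 * Nat.card G = Nat.card {g : G // IsConj t g} * (15 * e) * (3 * p - 1) := by
          rw [N.invol, N.cardG]; ring
      _ ≤ _ := Nat.mul_le_mul_right _ (Nat.mul_le_mul_left _ hodd)
  have hXfix : ∀ g ∈ X, fx Ω g = 1 := by
    intro g hg
    obtain ⟨q, hq, rfl⟩ := Finset.mem_image.1 hg
    obtain ⟨hc, hcomm, -⟩ := (Finset.mem_filter.1 hq).2
    obtain ⟨hw2, hw1⟩ := (T.isConj_iff d q.1).1 hc
    have hf := T.card_fixed d _ hw2 hw1
    rw [h1] at hf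
    obtain ⟨hs, ⟨⟨z, hz⟩⟩⟩ := Nat.card_eq_one_iff_unique.1 hf
    have hu : ∀ y : Ω, q.1 • y = y → y = z := fun y hy => congrArg Subtype.val
      (Subsingleton.elim (⟨y, hy⟩ : fixedBy Ω q.1) ⟨z, hz⟩)
    have h2z : q.2 • z = z := hu _ (by rw [← mul_smul, ← hcomm, mul_smul, (hz : q.1 • z = z)])
    have hpowfix : ∀ (y : Ω), (q.1 * q.2) • y = y → ∀ n : ℕ, ((q.1 * q.2) ^ n) • y = y := by
      intro y hy n
      induction n with
      | zero => rw [pow_zero, one_smul]
      | succ n ih => rw [pow_succ, mul_smul, hy, ih]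
    refine Nat.card_eq_one_iff_unique.2 ⟨⟨fun y y' => ?_⟩, ⟨⟨z, ?_⟩⟩⟩
    · have k : ∀ y : fixedBy Ω (q.1 * q.2), (y : Ω) = z := fun y => hu _ (by
        have := hpowfix _ y.2 M
        rwa [hfirst q hq] at this)
      exact Subtype.ext ((k y).trans (k y').symm)
    · show (q.1 * q.2) • z = z
      rw [mul_smul, h2z, hz]
  -- sums
  obtain ⟨c, hca, hcb⟩ : ∃ c : Ω, c ≠ a ∧ c ≠ b := by
    by_contra hcon
    have hsub : (Finset.univ : Finset Ω) ⊆ {a, b} := fun z _ => by
      simp only [Finset.mem_insert, Finset.mem_singleton]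
      by_contra hz
      simp only [not_or] at hz
      exact hcon ⟨z, hz.1, hz.2⟩
    have := (Finset.card_le_card hsub).trans Finset.card_le_two
    rw [Finset.card_univ, d.card] at this
    omega
  have s1 : ∑ g : G, (fx Ω g : ℤ) = Nat.card G := by
    exact_mod_cast (sum_fx_pow_one (G := G) (Ω := Ω)).trans (by rw [R.orb1, one_mul])
  have s2 : ∑ g : G, (fx Ω g : ℤ) ^ 2 = 2 * Nat.card G := by
    exact_mod_cast (sum_fx_sq (G := G) (Ω := Ω)).trans (by rw [R.orb2])
  have s3 : (5 : ℤ) * Nat.card G ≤ ∑ g : G, (fx Ω g : ℤ) ^ 3 := by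
    exact_mod_cast sum_fx_cube (G := G) R.hab hca.symm hcb.symm
  set Q := psing p x with hQ
  have hQfix : ∀ g ∈ Q, fx Ω g = 0 := fun g hg => d.fx_psing hg
  have hfx1 : fx Ω (1 : G) = 3 * p := by rw [fx_one, d.card]
  have hdXQ : Disjoint X Q := Finset.disjoint_left.2 fun g h1 h2 => by
    have := hXfix g h1; rw [hQfix g h2] at this; omega
  have h1X : (1 : G) ∉ X ∪ Q := fun h => by
    rcases Finset.mem_union.1 h with h | h
    · have := hXfix 1 h; omega
    · have := hQfix 1 h; omega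
  set Rest := Finset.univ \ insert (1 : G) (X ∪ Q)
  have hsplit : ∀ F : G → ℤ, ∑ g : G, F g =
      F 1 + ∑ g ∈ X, F g + ∑ g ∈ Q, F g + ∑ g ∈ Rest, F g := by
    intro F
    rw [← Finset.sum_sdiff (Finset.subset_univ (insert (1 : G) (X ∪ Q))),
      Finset.sum_insert h1X, Finset.sum_union hdXQ]
    ring
  have hbound : ∀ g ∈ Rest, (fx Ω g : ℤ) * ((fx Ω g : ℤ) - 2) ^ 2 ≤
      (3 * (p : ℤ) - 1) * ((fx Ω g : ℤ) - 2) ^ 2 := by
    intro g hg
    have hg1 : g ≠ 1 := fun e => (Finset.mem_sdiff.1 hg).2 (e ▸ Finset.mem_insert_self _ _)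
    have hlt : fx Ω g < 3 * p := by
      rw [← d.card, fx, Nat.card_eq_fintype_card]
      refine lt_of_le_of_ne (Fintype.card_subtype_le _) fun e => hg1 ?_
      refine FaithfulSMul.eq_of_smul_eq_smul (α := Ω) fun z => ?_
      rw [one_smul]
      rw [Fintype.card_subtype, ← Finset.card_univ] at e
      exact (Finset.mem_filter.1 (show z ∈ Finset.univ.filter (fun w : Ω => w ∈ fixedBy Ω g) from
        (Finset.eq_of_subset_of_card_le (Finset.filter_subset _ _) e.ge).symm ▸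
          Finset.mem_univ z)).2
    refine mul_le_mul_of_nonneg_right ?_ (sq_nonneg _)
    omega
  have A1 := hsplit fun g => ((fx Ω g : ℤ) - 2) ^ 2
  have A2 := hsplit fun g => (fx Ω g : ℤ) * ((fx Ω g : ℤ) - 2) ^ 2
  have e1 : ∑ g : G, ((fx Ω g : ℤ) - 2) ^ 2 = 2 * (Nat.card G : ℤ) := by
    simp only [show ∀ g : G, ((fx Ω g : ℤ) - 2) ^ 2 = (fx Ω g : ℤ) ^ 2 - 4 * (fx Ω g : ℤ) + 4 from
      fun g => by ring, Finset.sum_add_distrib, Finset.sum_sub_distrib, ← Finset.mul_sum, s1, s2,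
      Finset.sum_const, Finset.card_univ, Nat.card_eq_fintype_card, nsmul_eq_mul]
    ring
  have e2 : (Nat.card G : ℤ) ≤ ∑ g : G, (fx Ω g : ℤ) * ((fx Ω g : ℤ) - 2) ^ 2 := by
    simp only [show ∀ g : G, (fx Ω g : ℤ) * ((fx Ω g : ℤ) - 2) ^ 2 =
      (fx Ω g : ℤ) ^ 3 - 4 * (fx Ω g : ℤ) ^ 2 + 4 * (fx Ω g : ℤ) from fun g => by ring,
      Finset.sum_add_distrib, Finset.sum_sub_distrib, ← Finset.mul_sum, s1, s2]
    linarith
  rw [e1, Finset.sum_congr rfl (s₁ := X) (g := fun _ => (1 : ℤ)) (fun g hg => by rw [hXfix g hg]; norm_num),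
    Finset.sum_congr rfl (s₁ := Q) (g := fun _ => (4 : ℤ)) (fun g hg => by rw [hQfix g hg]; norm_num),
    Finset.sum_const, Finset.sum_const, nsmul_eq_mul, nsmul_eq_mul, hfx1] at A1
  rw [Finset.sum_congr rfl (s₁ := X) (g := fun _ => (1 : ℤ)) (fun g hg => by rw [hXfix g hg]; norm_num),
    Finset.sum_congr rfl (s₁ := Q) (g := fun _ => (0 : ℤ)) (fun g hg => by rw [hQfix g hg]; norm_num),
    Finset.sum_const, Finset.sum_const, nsmul_eq_mul, nsmul_eq_mul, hfx1] at A2
  have hR := Finset.sum_le_sum hbound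
  rw [← Finset.mul_sum] at hR
  rw [A2] at e2
  push_cast at A1 e2 hR
  have hQc : 2 * (p : ℤ) * (Q.card : ℤ) = ((p : ℤ) - 1) * (Nat.card G : ℤ) := by
    have h : ((2 * p * Q.card : ℕ) : ℤ) = (((p - 1) * Nat.card G : ℕ) : ℤ) := by
      exact_mod_cast d.card_psing
    rw [Nat.cast_mul, Nat.cast_mul, Nat.cast_mul, Nat.cast_sub (by omega : 1 ≤ p)] at h
    exact_mod_cast h
  have hX5' : 5 * (Nat.card G : ℤ) ≤ (X.card : ℤ) * (3 * (p : ℤ) - 1) := by
    have h : ((5 * Nat.card G : ℕ) : ℤ) ≤ ((X.card * (3 * p - 1) : ℕ) : ℤ) := by exact_mod_cast hX5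
    rw [Nat.cast_mul, Nat.cast_mul, Nat.cast_sub (by omega : 1 ≤ 3 * p)] at h
    push_cast at h
    exact h
  have hG : (Nat.card G : ℤ) = 9 * (p : ℤ) * (3 * p - 1) * (3 * p - 2) * (e : ℤ) ^ 2 := by
    rw [N.cardG]
    push_cast [Nat.cast_sub (show 1 ≤ 3 * p by omega), Nat.cast_sub (show 2 ≤ 3 * p by omega)]
    ring
  have hpZ : (3 : ℤ) < p := by exact_mod_cast h3
  set SR := ∑ g ∈ Rest, ((fx Ω g : ℤ) - 2) ^ 2
  set g0 : ℤ := (Nat.card G : ℤ)
  set Xn : ℤ := (X.card : ℤ)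
  set Qn : ℤ := (Q.card : ℤ)
  have hSR : SR = 2 * g0 - (3 * (p : ℤ) - 2) ^ 2 - Xn - 4 * Qn := by linarith
  rw [hSR] at hR
  have i1 : g0 ≤ (3 * (p : ℤ) - 2) ^ 2 - (3 * (p : ℤ) - 2) * Xn +
      (3 * (p : ℤ) - 1) * (2 * g0 - 4 * Qn) := by linarith
  have i2 := mul_le_mul_of_nonneg_left i1 (show (0 : ℤ) ≤ p by omega)
  have hpQ : (p : ℤ) * (2 * g0 - 4 * Qn) = 2 * g0 := by linarith
  have i3 : (p : ℤ) * g0 + (p : ℤ) * (3 * (p : ℤ) - 2) * Xn ≤
      (p : ℤ) * (3 * (p : ℤ) - 2) ^ 2 + 2 * (3 * (p : ℤ) - 1) * g0 := by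
    have : (p : ℤ) * ((3 * (p : ℤ) - 1) * (2 * g0 - 4 * Qn)) = 2 * (3 * (p : ℤ) - 1) * g0 := by
      rw [mul_left_comm, hpQ]; ring
    linarith
  have i4 := mul_le_mul_of_nonneg_left i3 (show (0 : ℤ) ≤ 3 * (p : ℤ) - 1 by omega)
  have i5 := mul_le_mul_of_nonneg_left hX5'
    (show (0 : ℤ) ≤ (p : ℤ) * (3 * (p : ℤ) - 2) from mul_nonneg (by omega) (by omega))
  have i6 : ((p : ℤ) - 2) * g0 ≤ (p : ℤ) * (3 * (p : ℤ) - 1) * (3 * (p : ℤ) - 2) ^ 2 := by linarith
  rw [hG] at i6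
  have hpos : (0 : ℤ) < (p : ℤ) * (3 * (p : ℤ) - 1) * (3 * (p : ℤ) - 2) :=
    mul_pos (mul_pos (by omega) (by omega)) (by omega)
  have i7 : 9 * ((p : ℤ) - 2) * (e : ℤ) ^ 2 ≤ 3 * (p : ℤ) - 2 := by
    refine le_of_mul_le_mul_left ?_ hpos
    linarith
  have he : (9 : ℤ) ≤ (e : ℤ) ^ 2 := by
    have h := Nat.pow_le_pow_left N.three 2
    exact_mod_cast h
  have := mul_le_mul_of_nonneg_left he (show (0 : ℤ) ≤ 9 * ((p : ℤ) - 2) by omega)
  omega

end CfsgLib.Deg3P
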