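/-
Degree `3 p`, doubly transitive, involutions with three fixed points.
-/
import Cfsg.Agent.Deg3P.KThreeBase
import Cfsg.Agent.Deg3P.Semi
import Cfsg.Agent.Deg3P.KOne
import Cfsg.Agent.FGSB.FrobeniusRoots

set_option autoImplicit false
set_option linter.style.haveILetI false
set_option linter.unusedSectionVars false

namespace CfsgLib.Deg3P

open MulAction CfsgLib.Char CfsgLib.TwoPrime CfsgLib.CentralizerRing

universe u v

variable {p : ℕ} [hp : Fact p.Prime]
variable {G : Type u} [Group G] [Fintype G] [IsSimpleGroup G] {Ω : Type v} [MulAction G Ω]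
  [Fintype Ω] [FaithfulSMul G Ω] [IsPreprimitive G Ω]
variable {x t : G} {θ : G → ℂ} {f : ℕ}

/-- Elements fixing exactly two points, counted through the ordered pairs they fix. -/
theorem Three.card_two [DecidableEq Ω] {a b : Ω} (R : Three p G Ω θ a b) (d : Data p G Ω x t)
    (P : G → Prop) [DecidablePred P] (hP : ∀ c g : G, P g → P (c * g * c⁻¹)) (n : ℕ)
    (hn : ∀ g, P g → Nat.card (fixedBy Ω g) = n) :
    (n * n - n) * (Finset.univ.filter fun g : G => P g).card = 3 * p * (3 * p - 1) *
      (Finset.univ.filter fun g : G => P g ∧ g • a = a ∧ g • b = b).card := by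
  classical
  let I := Finset.univ.filter fun g : G => P g
  let E := (Finset.univ : Finset Ω).offDiag
  have hE : E.card = 3 * p * (3 * p - 1) := by
    rw [Finset.offDiag_card, Finset.card_univ, d.card, Nat.mul_sub_left_distrib, mul_one]
  have h1 : ∀ g ∈ I, (E.filter fun q => g • q.1 = q.1 ∧ g • q.2 = q.2).card = n * n - n := by
    intro g hg
    have heq : (E.filter fun q => g • q.1 = q.1 ∧ g • q.2 = q.2) =
        (Finset.univ.filter fun w : Ω => g • w = w).offDiag := by
      ext ⟨u, w⟩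
      simp only [E, Finset.mem_filter, Finset.mem_univ, true_and, Finset.mem_offDiag]
      tauto
    have h3 : (Finset.univ.filter fun w : Ω => g • w = w).card = n := by
      rw [← hn g (Finset.mem_filter.1 hg).2, Nat.card_eq_fintype_card, Fintype.card_subtype]
      rfl
    rw [heq, Finset.offDiag_card, h3]
  have h2 : ∀ q ∈ E, (I.filter fun g => g • q.1 = q.1 ∧ g • q.2 = q.2).card =
      (I.filter fun g => g • a = a ∧ g • b = b).card := by
    intro q hq
    obtain ⟨c, hc1, hc2⟩ := R.trans q.1 q.2 (Finset.mem_offDiag.1 hq).2.2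
    refine Finset.card_bij (fun g _ => c⁻¹ * g * c) (fun g hg => ?_) (fun g _ g' _ e => by
      simpa using e) (fun g hg => ⟨c * g * c⁻¹, ?_, by group⟩)
    · simp only [I, Finset.mem_filter, Finset.mem_univ, true_and] at hg ⊢
      refine ⟨by simpa using hP c⁻¹ g hg.1, ?_, ?_⟩
      · rw [mul_smul, mul_smul, hc1, hg.2.1, inv_smul_eq_iff, hc1]
      · rw [mul_smul, mul_smul, hc2, hg.2.2, inv_smul_eq_iff, hc2]
    · simp only [I, Finset.mem_filter, Finset.mem_univ, true_and] at hg ⊢
      refine ⟨hP c g hg.1, ?_, ?_⟩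
      · rw [← hc1, mul_smul, mul_smul, inv_smul_smul, hg.2.1]
      · rw [← hc2, mul_smul, mul_smul, inv_smul_smul, hg.2.2]
  have h3 := Finset.sum_card_bipartiteAbove_eq_sum_card_bipartiteBelow (s := I) (t := E)
    (fun (g : G) (q : Ω × Ω) => g • q.1 = q.1 ∧ g • q.2 = q.2)
  simp only [Finset.bipartiteAbove, Finset.bipartiteBelow] at h3
  rw [Finset.sum_congr rfl h1, Finset.sum_congr rfl h2, Finset.sum_const, Finset.sum_const,
    smul_eq_mul, smul_eq_mul, hE, Finset.filter_filter, mul_comm] at h3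
  exact h3

/-- The order of a pair stabiliser when the involutions fix three points. -/
theorem Three.pair_stab {a b : Ω} (R : Three p G Ω θ a b) (T : Theta p G Ω x θ 3 f)
    (d : Data p G Ω x t) (h3f : Nat.card (fixedBy Ω t) = 3) :
    ∃ l, Odd l ∧ 3 * (p - 1) ^ 2 * l ^ 2 = 4 * Nat.card (stabilizer G (a, b)) * (3 * p - 2) := by
  classical
  have hp0 := hp.out.pos
  have hf : f + 1 = 3 * p := T.f_eq
  have h3 := d.h3
  have hp4 : p % 4 = 1 := by
    rcases d.card_fixed_t with ⟨h, -⟩ | ⟨-, h⟩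
    · omega
    · exact h
  have hK := T.invol_stab d a
  rw [h3f] at hK
  set κ := Nat.card {g : G // IsConj t g ∧ g • a = a}
  set D := Nat.card (stabilizer G (a, b)) with hD
  have hKκ : Nat.card {g : G // IsConj t g} = p * κ := by linarith
  have hKodd : ¬ 2 ∣ p * κ := hKκ ▸ T.odd_invol d
  have hθt : θ t = 2 := by
    rw [R.val, fx, h3f]; norm_num
  have hce := T.class_eq d
  rw [hθt, hKκ, R.cardG, ← hD] at hce
  obtain ⟨q, hq⟩ : ∃ q, 3 * p = q + 3 := ⟨3 * p - 3, by omega⟩
  have hmain : 3 * κ ^ 2 * q ^ 2 = 9 * D * (q + 2) ^ 2 * (q + 1) := by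
    have hP : (p : ℂ) ^ 2 ≠ 0 := pow_ne_zero 2 (Nat.cast_ne_zero.2 hp0.ne')
    have h : ((3 * κ ^ 2 * q ^ 2 : ℕ) : ℂ) = ((9 * D * (q + 2) ^ 2 * (q + 1) : ℕ) : ℂ) := by
      have hfC : (f : ℂ) = (q : ℂ) + 2 := by
        have : ((f : ℕ) : ℂ) = ((q + 2 : ℕ) : ℂ) := by rw [show f = q + 2 by omega]
        push_cast at this; exact this
      rw [show 3 * p - 1 = q + 2 by omega] at hce
      apply mul_left_cancel₀ hP
      push_cast at hce ⊢
      rw [hfC] at hce
      linear_combination 3 * hce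
    exact_mod_cast h
  have hpairs := R.card_two d (fun g => IsConj t g)
    (fun c g hg => hg.trans (_root_.isConj_iff.2 ⟨c, rfl⟩)) 3 fun g hg => by
      obtain ⟨h1, h2⟩ := (T.isConj_iff d g).1 hg
      rw [T.card_fixed d g h1 h2, h3f]
  set l := (Finset.univ.filter fun g : G => IsConj t g ∧ g • a = a ∧ g • b = b).card
  rw [← Fintype.card_subtype, ← Nat.card_eq_fintype_card, hKκ,
    show 3 * p - 1 = q + 2 by omega] at hpairs
  have h2κ : 2 * κ = (q + 2) * l := by
    refine Nat.eq_of_mul_eq_mul_left (show 0 < 3 * p by omega) ?_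
    norm_num at hpairs
    linarith
  have hlodd : Odd l := by
    rw [← Nat.not_even_iff_odd]
    intro he
    obtain ⟨i, hi⟩ := he
    obtain ⟨s, hs⟩ : ∃ s, q + 2 = 2 * s := ⟨(q + 2) / 2, by omega⟩
    refine hKodd (dvd_mul_of_dvd_right ⟨s * i, ?_⟩ p)
    rw [hi, hs] at h2κ
    linarith
  refine ⟨l, hlodd, ?_⟩
  have e : 3 * ((q + 2) * l) ^ 2 * q ^ 2 = 9 * (4 * D) * (q + 2) ^ 2 * (q + 1) := by
    rw [← h2κ]; linarith
  have e2 : 3 * l ^ 2 * q ^ 2 = 9 * (4 * D) * (q + 1) := by
    refine Nat.eq_of_mul_eq_mul_left (show 0 < (q + 2) ^ 2 by positivity) ?_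
    linarith
  rw [show 3 * p - 2 = q + 1 by omega]
  refine Nat.eq_of_mul_eq_mul_left (show 0 < 9 by norm_num) ?_
  rw [show q = 3 * (p - 1) by omega] at e2 ⊢
  linarith

/-- A pair stabiliser has Sylow `2`-subgroups of order four. -/
theorem Three.pair_two {a b : Ω} (R : Three p G Ω θ a b) (T : Theta p G Ω x θ 3 f)
    (d : Data p G Ω x t) (h3f : Nat.card (fixedBy Ω t) = 3) :
    (Nat.card (stabilizer G (a, b))).factorization 2 = 2 := by
  classical
  haveI : Fact (Nat.Prime 2) := ⟨Nat.prime_two⟩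
  obtain ⟨l, hl, heq⟩ := R.pair_stab T d h3f
  have h3 := d.h3
  have hp4 : p % 4 = 1 := by
    rcases d.card_fixed_t with ⟨h, -⟩ | ⟨-, h⟩
    · omega
    · exact h
  set D := stabilizer G (a, b) with hD
  set v := (Nat.card D).factorization 2 with hv
  have hl0 : l ≠ 0 := by rintro rfl; simp at hl
  have hu : 2 * (p - 1).factorization 2 = 2 + v := by
    have hp1 : p - 1 ≠ 0 := by omega
    have hp2 : 3 * p - 2 ≠ 0 := by omega
    have h := congrArg (fun m => m.factorization 2) heq
    rw [show 4 * Nat.card D * (3 * p - 2) = 2 ^ 2 * (Nat.card D * (3 * p - 2)) by ring,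
      Nat.factorization_mul (mul_ne_zero (by norm_num) (pow_ne_zero _ hp1)) (pow_ne_zero _ hl0),
      Nat.factorization_mul (by norm_num) (pow_ne_zero _ hp1),
      Nat.factorization_mul (by norm_num) (mul_ne_zero Nat.card_pos.ne' hp2),
      Nat.factorization_mul Nat.card_pos.ne' hp2, Nat.factorization_pow, Nat.factorization_pow,
      Nat.Prime.factorization_pow Nat.prime_two] at h
    simp only [Finsupp.coe_add, Finsupp.coe_smul, Pi.add_apply, Pi.smul_apply, smul_eq_mul,
      Finsupp.single_eq_same, Nat.factorization_eq_zero_of_not_dvd (show ¬ 2 ∣ 3 by norm_num),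
      Nat.factorization_eq_zero_of_not_dvd (show ¬ 2 ∣ l by rw [Nat.odd_iff] at hl; omega),
      Nat.factorization_eq_zero_of_not_dvd (show ¬ 2 ∣ 3 * p - 2 by omega)] at h
    omega
  have hu2 : 2 ≤ (p - 1).factorization 2 :=
    (Nat.prime_two.pow_dvd_iff_le_factorization (by omega)).1 (by omega)
  obtain ⟨S⟩ : Nonempty (Sylow 2 D) := inferInstance
  let H : Subgroup G := (S : Subgroup D).map D.subtype
  have hH : Nat.card H = 2 ^ v := by
    rw [← Nat.card_congr (Subgroup.equivMapOfInjective (S : Subgroup D) _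
      D.subtype_injective).toEquiv, S.card_eq_multiplicity]
  have hHab : ∀ g ∈ H, g • a = a ∧ g • b = b := by
    rintro g ⟨s, -, rfl⟩
    have h : (s : G) • (a, b) = (a, b) := s.2
    exact ⟨congrArg Prod.fst h, congrArg Prod.snd h⟩
  haveI : Nontrivial (S : Subgroup D) := Finite.one_lt_card_iff_nontrivial.1 (by
    rw [S.card_eq_multiplicity]
    exact Nat.one_lt_two_pow (by omega))
  haveI := S.2.center_nontrivial
  have hd2 : 2 ∣ Nat.card (Subgroup.center (S : Subgroup D)) := by
    obtain ⟨k, hk, hk'⟩ := (S.2.to_subgroup (Subgroup.center _)).nontrivial_iff_card.1 inferInstance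
    exact hk' ▸ dvd_pow_self 2 hk.ne'
  obtain ⟨w₀, hw₀⟩ := exists_prime_orderOf_dvd_card' 2 hd2
  set z : G := (((w₀ : (S : Subgroup D)) : D) : G) with hz
  have hzo : orderOf z = 2 := by
    rw [hz, Subgroup.orderOf_coe, Subgroup.orderOf_coe, Subgroup.orderOf_coe, hw₀]
  have hz2 : z * z = 1 := by
    have h := pow_orderOf_eq_one z
    rwa [hzo, sq] at h
  have hz1 : z ≠ 1 := fun h => by simp [h] at hzo
  have hle3 : ∀ w : G, w * w = 1 → w ≠ 1 → Nat.card (fixedBy Ω w) ≤ 3 := fun w h1 h2 =>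
    le_of_eq (by rw [T.card_fixed d w h1 h2, h3f])
  have hzH : z ∈ H := ⟨_, (w₀ : (S : Subgroup D)).2, rfl⟩
  obtain ⟨za, zb⟩ := hHab z hzH
  obtain ⟨c, hc, hca, hcb⟩ : ∃ c : Ω, z • c = c ∧ c ≠ a ∧ c ≠ b := by
    by_contra hcon
    have hsub : (Finset.univ.filter fun y : Ω => y ∈ fixedBy Ω z) ⊆ {a, b} := by
      intro y hy
      simp only [Finset.mem_insert, Finset.mem_singleton]
      by_contra hne
      simp only [not_or] at hne
      exact hcon ⟨y, (Finset.mem_filter.1 hy).2, hne.1, hne.2⟩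
    have h := (Finset.card_le_card hsub).trans Finset.card_le_two
    rw [← Fintype.card_subtype, ← Nat.card_eq_fintype_card, T.card_fixed d z hz2 hz1, h3f] at h
    omega
  have hHc : ∀ g ∈ H, g • c = c := by
    intro g hg
    obtain ⟨ga, gb⟩ := hHab g hg
    obtain ⟨s, hs, rfl⟩ := hg
    have hcomm : (s : G) * z = z * (s : G) :=
      congrArg (fun y : (S : Subgroup D) => (((y : D)) : G))
        (Subgroup.mem_center_iff.1 w₀.2 ⟨s, hs⟩)
    exact d.fix_third (hle3 z hz2 hz1) hcomm R.hab hca.symm hcb.symm za zb hc ga gb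
  have hsemi : Semi G Ω a b c H := by
    refine ⟨R.hab, hca.symm, hcb.symm, fun g hg => ⟨(hHab g hg).1, (hHab g hg).2, hHc g hg⟩,
      fun g hg hg1 y hy => ?_, IsPGroup.of_card hH, ?_⟩
    · obtain ⟨n, hn⟩ := (IsPGroup.iff_orderOf.1 (IsPGroup.of_card hH)) ⟨g, hg⟩
      rw [← Subgroup.orderOf_coe] at hn
      change orderOf g = 2 ^ n at hn
      rcases n with _ | n
      · rw [pow_zero, orderOf_eq_one_iff] at hn
        exact absurd hn hg1
      set w := g ^ 2 ^ n with hw
      have hwo : orderOf w = 2 := by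
        rw [hw, orderOf_pow' g (pow_ne_zero _ two_ne_zero), hn, Nat.gcd_eq_right
          (pow_dvd_pow 2 n.le_succ), pow_succ', Nat.mul_div_cancel _ (Nat.two_pow_pos n)]
      have hw2 : w * w = 1 := by
        have h := pow_orderOf_eq_one w
        rwa [hwo, sq] at h
      have hw1 : w ≠ 1 := fun h => by simp [h] at hwo
      have hwH : w ∈ H := H.pow_mem hg _
      have hpow : ∀ m : ℕ, g ^ m • y = y := fun m => by
        induction m with
        | zero => rw [pow_zero, one_smul]
        | succ m ih => rw [pow_succ, mul_smul, hy, ih]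
      by_contra hne
      have hsub : ({a, b, c, y} : Finset Ω) ⊆ Finset.univ.filter fun u => u ∈ fixedBy Ω w := by
        intro u hu
        simp only [Finset.mem_insert, Finset.mem_singleton] at hu
        rw [Finset.mem_filter, mem_fixedBy]
        refine ⟨Finset.mem_univ _, ?_⟩
        rcases hu with rfl | rfl | rfl | rfl
        exacts [(hHab w hwH).1, (hHab w hwH).2, hHc w hwH, hpow _]
      simp only [not_or] at hne
      have := Finset.card_le_card hsub
      rw [← Fintype.card_subtype, ← Nat.card_eq_fintype_card, Finset.card_insert_of_notMem,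
        Finset.card_insert_of_notMem, Finset.card_pair (Ne.symm hne.2.2)] at this
      · exact absurd (this.trans (hle3 w hw2 hw1)) (by omega)
      · simp [hcb.symm, Ne.symm hne.2.1]
      · simp [R.hab, hca.symm, Ne.symm hne.1]
    · rw [hH, R.cardG, ← hD]
      have h1 : (3 * p * (3 * p - 1) * Nat.card D).factorization 2 = 1 + v := by
        obtain ⟨s, hs, hsodd⟩ : ∃ s, 3 * p - 1 = 2 * s ∧ ¬ 2 ∣ s :=
          ⟨(3 * p - 1) / 2, by omega, by omega⟩
        rw [hs, show 3 * p * (2 * s) * Nat.card D = 2 ^ 1 * (3 * p * s * Nat.card D) by ring,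
          Nat.factorization_mul (by norm_num) (mul_ne_zero (mul_ne_zero (by omega) (by omega))
            Nat.card_pos.ne'), Nat.factorization_mul (mul_ne_zero (by omega) (by omega))
            Nat.card_pos.ne', Nat.Prime.factorization_pow Nat.prime_two]
        simp only [Finsupp.coe_add, Pi.add_apply, Finsupp.single_eq_same]
        rw [Nat.factorization_eq_zero_of_not_dvd (show ¬ 2 ∣ 3 * p * s by
          rw [Nat.prime_two.dvd_mul]; omega)]
        omega
      rw [h1, pow_add, pow_one]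
  have hdvd := hsemi.dvd_card ({a, b, c} : Finset Ω)ᶜ (fun g hg y hy => by
    simp only [Finset.mem_compl, Finset.mem_insert, Finset.mem_singleton] at hy ⊢
    obtain ⟨f1, f2, f3⟩ := hsemi.fix g hg
    rintro (e | e | e)
    · exact hy (Or.inl (smul_left_cancel g (e.trans f1.symm)))
    · exact hy (Or.inr (Or.inl (smul_left_cancel g (e.trans f2.symm))))
    · exact hy (Or.inr (Or.inr (smul_left_cancel g (e.trans f3.symm))))) (by simp) (by simp)
    (by simp)
  rw [hH, Finset.card_compl, d.card, Finset.card_insert_of_notMem (by simp [R.hab, hca.symm]),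
    Finset.card_pair hcb.symm] at hdvd
  have hle : v ≤ (p - 1).factorization 2 := by
    refine (Nat.prime_two.pow_dvd_iff_le_factorization (by omega)).1 ?_
    refine (Nat.Coprime.pow_left v (by norm_num : Nat.Coprime 2 3)).dvd_of_dvd_mul_left ?_
    exact (show 3 * p - (2 + 1) = 3 * (p - 1) by omega) ▸ hdvd
  omega

theorem k_three_five [Fact (Nat.Prime 5)] (d : Data 5 G Ω x t) {l D : ℕ} (hl : Odd l)
    (hD : 3 * (5 - 1) ^ 2 * l ^ 2 = 4 * D * (3 * 5 - 2))
    (hG : Nat.card G = 3 * 5 * (3 * 5 - 1) * D) : False := by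
  classical
  norm_num at hD
  obtain ⟨l₀, hl₀⟩ : 13 ∣ l := by
    refine (show Nat.Prime 13 by norm_num).dvd_of_dvd_pow (n := 2) ?_
    exact (show Nat.Coprime 13 12 by norm_num).dvd_of_dvd_mul_left ⟨D, by omega⟩
  subst hl₀
  have hD' : D = 156 * l₀ ^ 2 := by rw [mul_pow] at hD; omega
  rw [hD'] at hG
  norm_num [-Nat.card_eq_fintype_card] at hG
  have hG' : Nat.card G = 32760 * l₀ ^ 2 := by rw [hG]; ring
  obtain ⟨k, hk⟩ := d.sylow
  have hmod : l₀ ^ 2 % 5 = 1 := by omega
  have hlo : ¬ 2 ∣ l₀ := fun h => by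
    rw [Nat.odd_iff] at hl
    omega
  have hdvd : l₀ ^ 2 ∣ 720 ^ 2 * 77 := by
    have h : Nat.card G ∣ Nat.factorial (3 * 5) := by
      rw [← d.card, ← Fintype.card_perm, ← Nat.card_eq_fintype_card]
      exact Subgroup.card_dvd_of_injective (MulAction.toPermHom G Ω) MulAction.toPerm_injective
    rw [hG', show Nat.factorial (3 * 5) = 32760 * (720 ^ 2 * 77) by rfl] at h
    exact Nat.dvd_of_mul_dvd_mul_left (by norm_num) h
  have h720 : l₀ ∣ 720 := dvd_of_sq_dvd (by norm_num) (by
    rw [show (77 : ℕ) = 7 * 11 from rfl, Nat.squarefree_mul (by norm_num)]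
    exact ⟨(by norm_num : Nat.Prime 7).squarefree, (by norm_num : Nat.Prime 11).squarefree⟩) hdvd
  have h5l : Nat.Coprime l₀ 5 := by
    refine ((Nat.prime_five.coprime_iff_not_dvd).2 fun h => ?_).symm
    obtain ⟨c, rfl⟩ := h
    rw [mul_pow, show (5 : ℕ) ^ 2 = 5 * 5 from rfl, mul_assoc] at hmod
    omega
  have h9 : l₀ ∣ 9 := by
    have h16 : Nat.Coprime l₀ (16 * 5) :=
      Nat.Coprime.mul_right (Nat.Coprime.pow_right 4
        ((Nat.prime_two.coprime_iff_not_dvd).2 hlo).symm) h5l
    exact h16.dvd_of_dvd_mul_left (show l₀ ∣ 16 * 5 * 9 from h720)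
  have hle := Nat.le_of_dvd (by norm_num) h9
  have hcases : l₀ = 1 ∨ l₀ = 9 := by
    interval_cases l₀ <;> simp_all <;> omega
  rcases hcases with rfl | rfl
  swap
  · refine d.not_full_sylow (r := 3) (by norm_num) (by norm_num) ?_
    rw [hG', show 32760 * 9 ^ 2 = 3 ^ 6 * 3640 from rfl, Nat.factorization_mul (by norm_num)
      (by norm_num), Finsupp.add_apply, Nat.Prime.factorization_pow Nat.prime_three,
      Nat.factorization_eq_zero_of_not_dvd (show ¬ 3 ∣ 3640 by norm_num),
      Nat.factorization_factorial Nat.prime_three (b := 4) (by decide)]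
    simp
    decide
  -- an element of order thirteen
  haveI h13 : Fact (Nat.Prime 13) := ⟨by norm_num⟩
  obtain ⟨Q⟩ : Nonempty (Sylow 13 G) := inferInstance
  have hQ : Nat.card (Q : Subgroup G) = 13 := by
    rw [Q.card_eq_multiplicity, hG', show 32760 * 1 ^ 2 = 13 ^ 1 * 2520 from rfl,
      Nat.factorization_mul (by norm_num) (by norm_num), Finsupp.add_apply,
      Nat.Prime.factorization_pow h13.out,
      Nat.factorization_eq_zero_of_not_dvd (show ¬ 13 ∣ 2520 by norm_num)]
    simp
  haveI := isCyclic_of_prime_card hQ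
  obtain ⟨y₀, hy₀⟩ := exists_prime_orderOf_dvd_card' 13 (dvd_of_eq hQ.symm)
  set y : G := (y₀ : G) with hy
  have hyo : orderOf y = 13 := by rw [hy, Subgroup.orderOf_coe, hy₀]
  have hyQ : Subgroup.zpowers y = (Q : Subgroup G) :=
    Subgroup.eq_of_le_of_card_ge (Subgroup.zpowers_le.2 y₀.2) (by rw [hQ, Nat.card_zpowers, hyo])
  set σ : Equiv.Perm Ω := MulAction.toPermHom G Ω y with hσ
  have hσo : orderOf σ = 13 := by
    rw [hσ, orderOf_injective (MulAction.toPermHom G Ω) MulAction.toPerm_injective, hyo]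
  obtain ⟨n, hn⟩ := Equiv.Perm.cycleType_prime_order (σ := σ) (hσo ▸ h13.out)
  have hsum := σ.sum_cycleType
  rw [hn, Multiset.sum_replicate, smul_eq_mul, hσo] at hsum
  have hsle := Finset.card_le_univ σ.support
  rw [d.card] at hsle
  have hn0 : n = 0 := by omega
  subst hn0
  have hsupp : σ.support.card = 13 := by omega
  have hcyc : σ.IsCycle := by
    rw [← Equiv.Perm.card_cycleType_eq_one, hn, Multiset.card_replicate]
  obtain ⟨z₀, hz₀⟩ : σ.support.Nonempty := Finset.card_pos.1 (by omega)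
  have hcent : Subgroup.centralizer ((Q : Subgroup G) : Set G) = (Q : Subgroup G) := by
    refine le_antisymm (fun g hg => ?_) (Subgroup.le_centralizer _)
    have hgy : g * y = y * g := ((Subgroup.mem_centralizer_iff.1 hg) y y₀.2).symm
    have hgc : Commute g y := hgy
    have hmem : g • z₀ ∈ σ.support := by
      rw [Equiv.Perm.mem_support] at hz₀ ⊢
      intro e
      refine hz₀ ?_
      show y • z₀ = z₀
      have e' : y • g • z₀ = g • z₀ := e
      rw [← mul_smul, ← hgy, mul_smul] at e'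
      exact smul_left_cancel g e'
    obtain ⟨i, hi⟩ := hcyc.exists_zpow_eq (Equiv.Perm.mem_support.1 hz₀)
      (Equiv.Perm.mem_support.1 hmem)
    have hi' : y ^ i • z₀ = g • z₀ := by
      rw [← hi, hσ, ← map_zpow]; rfl
    set g' := (y ^ i)⁻¹ * g with hg'
    have hg'z : g' • z₀ = z₀ := by rw [hg', mul_smul, ← hi', inv_smul_smul]
    have hg'y : Commute g' y := ((Commute.zpow_left (Commute.refl y) i).inv_left).mul_left hgc
    have hfix : ∀ u ∈ σ.support, g' • u = u := by
      intro u hu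
      obtain ⟨m, hm⟩ := hcyc.exists_zpow_eq (Equiv.Perm.mem_support.1 hz₀)
        (Equiv.Perm.mem_support.1 hu)
      have hm' : y ^ m • z₀ = u := by
        rw [← hm, hσ, ← map_zpow]; rfl
      rw [← hm', ← mul_smul, (hg'y.zpow_right m).eq, mul_smul, hg'z]
    have hg'1 : g' = 1 := by
      refine MulAction.toPerm_injective (α := G) (β := Ω) ?_
      rw [show MulAction.toPerm (1 : G) = (1 : Equiv.Perm Ω) from
        map_one (MulAction.toPermHom G Ω), ← Equiv.Perm.support_eq_empty_iff]
      have hsub : (MulAction.toPerm g' : Equiv.Perm Ω).support ⊆ σ.supportᶜ := by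
        intro u hu
        rw [Finset.mem_compl]
        intro hus
        exact Equiv.Perm.mem_support.1 hu (hfix u hus)
      have hle2 := Finset.card_le_card hsub
      rw [Finset.card_compl, d.card, hsupp] at hle2
      by_contra hne
      have hsw : (MulAction.toPerm g' : Equiv.Perm Ω).IsSwap := by
        refine Equiv.Perm.card_support_eq_two.1 (le_antisymm hle2 ?_)
        exact Equiv.Perm.two_le_card_support_of_ne_one fun e =>
          hne (Equiv.Perm.support_eq_empty_iff.2 e)
      have h1 := sign_eq_one d.nc (Ω := Ω) g'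
      rw [hsw.sign_eq] at h1
      exact absurd h1 (by decide)
    rw [← hyQ]
    rw [hg', inv_mul_eq_one] at hg'1
    exact hg'1 ▸ Subgroup.zpow_mem_zpowers y i
  set N := Subgroup.normalizer ((Q : Subgroup G) : Set G) with hN
  have hN156 : Nat.card N ∣ 156 := by
    have h1 := ((Q : Subgroup G).normalizerMonoidHom).ker.card_mul_index
    rw [Subgroup.index_ker, Subgroup.normalizerMonoidHom_ker, hcent,
      Nat.card_congr (Subgroup.subgroupOfEquivOfLe Subgroup.le_normalizer).toEquiv, hQ] at h1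
    rw [hN, ← h1, show (156 : ℕ) = 13 * 12 from rfl]
    refine Nat.mul_dvd_mul_left 13 ((Subgroup.card_subgroup_dvd_card _).trans ?_)
    rw [IsCyclic.card_mulAut, hQ, Nat.totient_prime h13.out]
  obtain ⟨e, he⟩ : 13 ∣ Nat.card N := by
    have h : Nat.card (Q : Subgroup G) ∣ Nat.card N := Subgroup.card_dvd_of_le Subgroup.le_normalizer
    rwa [hQ] at h
  have hmul := N.card_mul_index
  rw [show N.index = Nat.card (Sylow 13 G) from (Sylow.card_eq_index_normalizer Q).symm, hG', he] at hmul
  have hs := card_sylow_modEq_one 13 G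
  rw [Nat.ModEq] at hs
  rw [he, show (156 : ℕ) = 13 * 12 from rfl] at hN156
  have he12 : e ∣ 12 := Nat.dvd_of_mul_dvd_mul_left (by norm_num) hN156
  have hemem : e ∈ Nat.divisors 12 := Nat.mem_divisors.2 ⟨he12, by norm_num⟩
  rw [show Nat.divisors 12 = {1, 2, 3, 4, 6, 12} by decide] at hemem
  simp only [Finset.mem_insert, Finset.mem_singleton] at hemem
  rcases hemem with rfl | rfl | rfl | rfl | rfl | rfl <;> omega

theorem k_three_three_false (T : Theta p G Ω x θ 3 f) (d : Data p G Ω x t)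
    (h3f : Nat.card (fixedBy Ω t) = 3) : False := by
  classical
  haveI : Fact (Nat.Prime 2) := ⟨Nat.prime_two⟩
  obtain ⟨a, b, R⟩ := T.exists_three d
  obtain ⟨l, hl, hD⟩ := R.pair_stab T d h3f
  have hv := R.pair_two T d h3f
  have h3 := d.h3
  have hp0 := hp.out.pos
  have hp4 : p % 4 = 1 := by
    rcases d.card_fixed_t with ⟨h, -⟩ | ⟨-, h⟩
    · omega
    · exact h
  set D := stabilizer G (a, b) with hDdef
  obtain ⟨m, hm⟩ : 4 ∣ Nat.card D := by
    have h := Nat.ordProj_dvd (Nat.card D) 2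
    rwa [hv] at h
  have hmodd : ¬ 2 ∣ m := by
    rintro ⟨i, rfl⟩
    have h : 2 ^ 3 ∣ Nat.card D := ⟨i, by rw [hm]; ring⟩
    rw [Nat.prime_two.pow_dvd_iff_le_factorization Nat.card_pos.ne', hv] at h
    omega
  have hmo : Odd m := Nat.odd_iff.2 (by omega)
  -- elements of odd order in the pair stabiliser
  have hodd : Nat.card {g : D // Odd (orderOf g)} ≤ 3 * m := by
    have hset : ∀ g : D, Odd (orderOf g) ↔ g ^ m = 1 := by
      intro g
      refine ⟨fun ho => orderOf_dvd_iff_pow_eq_one.1 ?_, fun he => Odd.of_dvd_nat hmo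
        (orderOf_dvd_iff_pow_eq_one.2 he)⟩
      refine (Nat.Coprime.pow_right 2 (Nat.coprime_two_right.2 ho)).dvd_of_dvd_mul_left ?_
      exact (hm ▸ orderOf_dvd_natCard g : orderOf g ∣ 4 * m)
    have hdiv : m ∣ Nat.card {g : D // Odd (orderOf g)} := by
      rw [Nat.card_congr (Equiv.subtypeEquivRight hset)]
      have h := CfsgLib.FrobRoots.gcd_dvd_card_pow_eq_one D m
      rwa [hm, Nat.gcd_mul_left_right] at h
    obtain ⟨w, hw⟩ := exists_prime_orderOf_dvd_card' (G := D) 2 ⟨2 * m, by rw [hm]; ring⟩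
    have hlt : Nat.card {g : D // Odd (orderOf g)} < 4 * m := by
      rw [← hm, Nat.card_eq_fintype_card, Nat.card_eq_fintype_card]
      refine Fintype.card_subtype_lt (x := w) ?_
      rw [hw]
      decide
    obtain ⟨i, hi⟩ := hdiv
    rw [hi] at hlt ⊢
    have : i ≤ 3 := by
      by_contra h
      have := Nat.mul_le_mul_left m (show 4 ≤ i by omega)
      omega
    have := Nat.mul_le_mul_left m this
    linarith
  -- elements with exactly two fixed points
  set R2 := Finset.univ.filter fun g : G => fx Ω g = 2 with hR2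
  have hpairs := R.card_two d (fun g => fx Ω g = 2) (fun c g hg => by
    simp only [fx] at hg ⊢
    rw [← hg]
    refine Nat.card_congr
      { toFun := fun z => ⟨c⁻¹ • (z : Ω), ?_⟩
        invFun := fun z => ⟨c • (z : Ω), ?_⟩
        left_inv := fun z => Subtype.ext (smul_inv_smul c (z : Ω))
        right_inv := fun z => Subtype.ext (inv_smul_smul c (z : Ω)) }
    · have h : (c * g * c⁻¹) • (z : Ω) = z := z.2
      rw [mul_smul, mul_smul] at h
      show g • c⁻¹ • (z : Ω) = c⁻¹ • z
      exact eq_inv_smul_iff.2 h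
    · have h : g • (z : Ω) = z := z.2
      show (c * g * c⁻¹) • c • (z : Ω) = c • z
      rw [mul_smul, mul_smul, inv_smul_smul, h]) 2 fun g hg => hg
  have hr2 : (Finset.univ.filter fun g : G => fx Ω g = 2 ∧ g • a = a ∧ g • b = b).card ≤
      Nat.card {g : D // Odd (orderOf g)} := by
    rw [← Fintype.card_subtype, ← Nat.card_eq_fintype_card]
    refine Nat.card_le_card_of_injective (fun g => ⟨⟨g.1, Prod.ext g.2.2.1 g.2.2.2⟩, ?_⟩)
      fun g g' e => Subtype.ext (congrArg (fun z : {g : D // Odd (orderOf g)} => ((z : D) : G)) e)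
    obtain ⟨g, hg2, ga, gb⟩ := g
    rw [← Subgroup.orderOf_coe]
    show Odd (orderOf g)
    rw [← Nat.not_even_iff_odd, even_iff_two_dvd]
    rintro ⟨n, hn⟩
    have hn0 : n ≠ 0 := fun e => by
      rw [e, mul_zero] at hn
      exact (orderOf_pos g).ne' hn
    set w := g ^ n with hwdef
    have hw2 : w * w = 1 := by rw [← sq, hwdef, ← pow_mul, mul_comm, ← hn, pow_orderOf_eq_one]
    have hw1 : w ≠ 1 := fun e => by
      have := orderOf_dvd_iff_pow_eq_one.2 e
      have := Nat.le_of_dvd (Nat.pos_of_ne_zero hn0) this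
      omega
    have hcomm : g * w = w * g := (Commute.refl g).pow_right n |>.eq
    have hpow : ∀ y : Ω, g • y = y → ∀ i : ℕ, g ^ i • y = y := fun y hy i => by
      induction i with
      | zero => rw [pow_zero, one_smul]
      | succ i ih => rw [pow_succ, mul_smul, hy, ih]
    have hf3 : Nat.card (fixedBy Ω w) = 3 := by rw [T.card_fixed d w hw2 hw1, h3f]
    obtain ⟨c, hc, hca, hcb⟩ : ∃ c : Ω, w • c = c ∧ c ≠ a ∧ c ≠ b := by
      by_contra hcon
      have hsub : (Finset.univ.filter fun y : Ω => y ∈ fixedBy Ω w) ⊆ {a, b} := by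
        intro y hy
        simp only [Finset.mem_insert, Finset.mem_singleton]
        by_contra hne
        simp only [not_or] at hne
        exact hcon ⟨y, (Finset.mem_filter.1 hy).2, hne.1, hne.2⟩
      have h := (Finset.card_le_card hsub).trans Finset.card_le_two
      rw [← Fintype.card_subtype, ← Nat.card_eq_fintype_card, hf3] at h
      omega
    have hgc := d.fix_third hf3.le hcomm R.hab hca.symm hcb.symm (hpow a ga n) (hpow b gb n) hc ga gb
    have hsub : ({a, b, c} : Finset Ω) ⊆ Finset.univ.filter fun y => y ∈ fixedBy Ω g := by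
      intro y hy
      simp only [Finset.mem_insert, Finset.mem_singleton] at hy
      rw [Finset.mem_filter, mem_fixedBy]
      refine ⟨Finset.mem_univ _, ?_⟩
      rcases hy with rfl | rfl | rfl <;> assumption
    have h := Finset.card_le_card hsub
    rw [← Fintype.card_subtype, ← Nat.card_eq_fintype_card,
      Finset.card_insert_of_notMem (by simp [R.hab, hca.symm]), Finset.card_pair hcb.symm] at h
    change Nat.card {x // x ∈ fixedBy Ω g} = 2 at hg2
    omega
  -- the sum
  have s1 : ∑ g : G, (fx Ω g : ℤ) = Nat.card G := by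
    exact_mod_cast (sum_fx_pow_one (G := G) (Ω := Ω)).trans (by rw [R.orb1, one_mul])
  have s2 : ∑ g : G, (fx Ω g : ℤ) ^ 2 = 2 * Nat.card G := by
    exact_mod_cast (sum_fx_sq (G := G) (Ω := Ω)).trans (by rw [R.orb2])
  set Q := psing p x with hQ
  have hdQ : Disjoint Q R2 := Finset.disjoint_left.2 fun g h1 h2 => by
    have e1 := d.fx_psing h1
    have e2 := (Finset.mem_filter.1 h2).2
    omega
  have hS : 3 * (Q.card : ℤ) - R2.card ≤ Nat.card G := by
    have e1 : ∑ g : G, ((fx Ω g : ℤ) - 1) * ((fx Ω g : ℤ) - 3) = (Nat.card G : ℤ) := by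
      simp only [show ∀ g : G, ((fx Ω g : ℤ) - 1) * ((fx Ω g : ℤ) - 3) =
        (fx Ω g : ℤ) ^ 2 - 4 * (fx Ω g : ℤ) + 3 from fun g => by ring, Finset.sum_add_distrib,
        Finset.sum_sub_distrib, ← Finset.mul_sum, s1, s2, Finset.sum_const, Finset.card_univ,
        Nat.card_eq_fintype_card, nsmul_eq_mul]
      ring
    rw [← e1, ← Finset.sum_sdiff (Finset.subset_univ (Q ∪ R2)), Finset.sum_union hdQ,
      Finset.sum_congr rfl (s₁ := Q) (g := fun _ => (3 : ℤ))
        (fun g hg => by rw [d.fx_psing hg]; norm_num),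
      Finset.sum_congr rfl (s₁ := R2) (g := fun _ => (-1 : ℤ))
        (fun g hg => by rw [(Finset.mem_filter.1 hg).2]; norm_num),
      Finset.sum_const, Finset.sum_const, nsmul_eq_mul, nsmul_eq_mul]
    have hnn : 0 ≤ ∑ g ∈ Finset.univ \ (Q ∪ R2), ((fx Ω g : ℤ) - 1) * ((fx Ω g : ℤ) - 3) := by
      refine Finset.sum_nonneg fun g hg => ?_
      have hne : fx Ω g ≠ 2 := fun e => (Finset.mem_sdiff.1 hg).2
        (Finset.mem_union_right _ (Finset.mem_filter.2 ⟨Finset.mem_univ _, e⟩))
      rcases Nat.lt_or_ge (fx Ω g) 3 with h | h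
      · exact mul_nonneg_of_nonpos_of_nonpos (by omega) (by omega)
      · exact mul_nonneg (by omega) (by omega)
    linarith
  have hQc : 2 * (p : ℤ) * (Q.card : ℤ) = ((p : ℤ) - 1) * (Nat.card G : ℤ) := by
    have h : ((2 * p * Q.card : ℕ) : ℤ) = (((p - 1) * Nat.card G : ℕ) : ℤ) := by
      exact_mod_cast d.card_psing
    rw [Nat.cast_mul, Nat.cast_mul, Nat.cast_mul, Nat.cast_sub (by omega : 1 ≤ p)] at h
    exact_mod_cast h
  have hbound : 2 * R2.card * 4 ≤ 3 * Nat.card G := by
    rw [show (2 * 2 - 2 : ℕ) = 2 from rfl] at hpairs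
    rw [hpairs, R.cardG, ← hDdef, hm]
    have := Nat.mul_le_mul_left (3 * p * (3 * p - 1) * 4) (hr2.trans hodd)
    linarith
  have hbound' : 8 * (R2.card : ℤ) ≤ 3 * (Nat.card G : ℤ) := by
    have : ((2 * R2.card * 4 : ℕ) : ℤ) ≤ ((3 * Nat.card G : ℕ) : ℤ) := by exact_mod_cast hbound
    push_cast at this
    linarith
  have hG0 : (0 : ℤ) < Nat.card G := by exact_mod_cast Nat.card_pos
  have hp5 : p = 5 := by
    have h1 : ((p : ℤ) - 3) * (Nat.card G : ℤ) ≤ 2 * (p : ℤ) * R2.card := by
      have := mul_le_mul_of_nonneg_left hS (show (0 : ℤ) ≤ 2 * p by omega)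
      linarith
    have h2 : (4 * ((p : ℤ) - 3)) * (Nat.card G : ℤ) ≤ (3 * (p : ℤ)) * (Nat.card G : ℤ) := by
      have := mul_le_mul_of_nonneg_left hbound' (show (0 : ℤ) ≤ p by omega)
      linarith
    have h3' := le_of_mul_le_mul_right h2 hG0
    have hcases : p = 5 ∨ p = 9 := by omega
    rcases hcases with h | h
    · exact h
    · exact absurd (h ▸ hp.out) (by norm_num)
  subst hp5
  exact k_three_five d hl hD R.cardG

end CfsgLib.Deg3P
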