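/-
Degree `3 p`: the distinguished constituent of degree `2 p - 1`; the two orbitals and the case
`p ≡ 3 (mod 4)`.
-/
import Cfsg.Agent.Deg3P.PFive

set_option autoImplicit false
set_option linter.style.haveILetI false
set_option linter.unusedSectionVars false

namespace CfsgLib.Deg3P

open MulAction CfsgLib.Char CfsgLib.TwoPrime CfsgLib.CentralizerRing

universe u v

variable {p : ℕ} [hp : Fact p.Prime]
variable {G : Type u} [Group G] {Ω : Type v} [MulAction G Ω] [Fintype Ω]

theorem valency_indep [IsPretransitive G Ω] (a z : Ω) (o : orbitRel.Quotient G (Ω × Ω)) :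
    TwoPrime.valency z o = TwoPrime.valency a o := by
  classical
  rw [← valency_eq a z o, valency_eq z z o]

/-- The two non-diagonal orbitals. -/
structure Two (p : ℕ) (G : Type u) [Group G] (Ω : Type v) [MulAction G Ω] [Fintype Ω]
    [IsPretransitive G Ω] (x : G) (A B : orbitRel.Quotient G (Ω × Ω)) (r : ℤ) : Prop where
  cases : ∀ z y : Ω, z ≠ y → orb G z y = A ∨ orb G z y = B
  offA : ∀ z : Ω, orb G z z ≠ A
  offB : ∀ z : Ω, orb G z z ≠ B
  wA : wt p x A = 2
  wB : wt p x B = 1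
  kA : ∀ z : Ω, (TwoPrime.valency z A : ℤ) = 2 * (p : ℤ) - 1 - r
  kB : ∀ z : Ω, (TwoPrime.valency z B : ℤ) = p + r
  rel : 2 * (p : ℤ) = 6 * r ^ 2 + 3 * r + 1
  sA : swapOrb A = A
  sB : swapOrb B = B

theorem Two.hne [IsPretransitive G Ω] {x : G} {A B : orbitRel.Quotient G (Ω × Ω)} {r : ℤ}
    (W : Two p G Ω x A B r) : A ≠ B := fun h => by
  have h1 := W.wA
  rw [h, W.wB] at h1
  omega

theorem Two.orb_swap [IsPretransitive G Ω] {x : G} {A B : orbitRel.Quotient G (Ω × Ω)} {r : ℤ}
    (W : Two p G Ω x A B r) {z y : Ω} (h : z ≠ y) : orb G y z = orb G z y := by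
  rw [← swapOrb_orb (G := G) z y]
  rcases W.cases z y h with e | e <;> rw [e]
  · exact W.sA
  · exact W.sB

variable [Fintype G] [IsSimpleGroup G] [FaithfulSMul G Ω] [IsPreprimitive G Ω]
variable {x t : G} {θ : G → ℂ} {f : ℕ}

theorem Theta.exists_two (T : Theta p G Ω x θ 2 f) (d : Data p G Ω x t) :
    ∃ A B r, Two p G Ω x A B r := by
  classical
  haveI : Fintype (orbitRel.Quotient G (Ω × Ω)) := Fintype.ofFinite _
  haveI : Nonempty Ω := Fintype.card_pos_iff.1 (by rw [d.card]; have := hp.out.pos; omega)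
  have h3 := d.h3
  have hf : f + 1 = 2 * p := T.f_eq
  have hm := T.mult (Or.inl (by norm_num))
  obtain ⟨mlt, hmlt, hpi, hnorm⟩ := exists_mult_fun (G := G) (Ω := Ω)
  let one : G → ℂ := fun _ => 1
  have hone : Cfsg.IsIrrCharacter G one := isIrrCharacter_one
  have hm1 : mlt one = 1 := by
    have h := classInner_pi_one_transitive (G := G) (Ω := Ω)
    rw [hmlt one hone] at h
    exact_mod_cast h
  have hmθ : mlt θ = 1 := by
    have h := hm.1
    rw [hmlt θ T.irr] at h
    exact_mod_cast h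
  let deg : (G → ℂ) → ℕ := fun φ => Cfsg.charDegree φ
  have hdeg : ∀ {φ}, Cfsg.IsIrrCharacter G φ → φ 1 = deg φ ∧ 0 < deg φ := fun {φ} hφ => by
    obtain ⟨n, hn, hn'⟩ := IsIrrCharacter.exists_degree hφ
    exact ⟨by rw [show deg φ = n from charDegree_eq_natCast hn', hn'],
      by rw [show deg φ = n from charDegree_eq_natCast hn']; omega⟩
  set R := ((irrFinset G).erase one).erase θ with hR
  have hsplit : ∀ F : (G → ℂ) → ℕ, ∑ φ ∈ irrFinset G, F φ = F one + (F θ + ∑ φ ∈ R, F φ) := by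
    intro F
    rw [← Finset.add_sum_erase _ _ (mem_irrFinset.2 hone), ← Finset.add_sum_erase _ _
      (Finset.mem_erase.2 ⟨T.ne_one, mem_irrFinset.2 T.irr⟩)]
  have htot : ∑ φ ∈ irrFinset G, mlt φ * deg φ = 3 * p := by
    have h := congrFun hpi 1
    rw [Finset.sum_apply, pi, show fixedBy Ω (1 : G) = Set.univ by simp [fixedBy],
      Nat.card_congr (Equiv.Set.univ Ω), Nat.card_eq_fintype_card, d.card] at h
    simp only [Pi.smul_apply, smul_eq_mul] at h
    rw [Finset.sum_congr rfl fun φ hφ => by rw [(hdeg (mem_irrFinset.1 hφ)).1]] at h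
    exact_mod_cast h.symm
  have hdθ : deg θ = f := charDegree_eq_natCast T.deg
  have hd1 : deg one = 1 := charDegree_eq_natCast (by simp [one])
  rw [hsplit, hm1, hmθ, hdθ, hd1] at htot
  have hrest : ∑ φ ∈ R, mlt φ * deg φ = p := by omega
  have hge : ∀ φ ∈ R, mlt φ ≠ 0 → p ≤ deg φ := by
    intro φ hφ h0
    obtain ⟨hne, hφ'⟩ := Finset.mem_erase.1 hφ
    obtain ⟨hne1, hirr⟩ := Finset.mem_erase.1 hφ'
    rw [mem_irrFinset] at hirr
    have hv := hm.2 φ hirr hne1 hne (by rw [hmlt φ hirr]; exact Nat.cast_ne_zero.2 h0)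
    obtain ⟨n, hn⟩ := exists_coeff d.dih.pow_p (IsIrrCharacter.isCharacter hirr)
    have hsum : ∑ m : ZMod p, φ (xpow x m) = (p : ℂ) * n 0 := by
      simp only [hn]
      rw [Finset.sum_comm]
      have he : ∀ j : ZMod p, ∑ m : ZMod p, (n j : ℂ) * ec (j * m) =
          (n j : ℂ) * if j = 0 then (p : ℂ) else 0 := fun j => by
        rw [← Finset.mul_sum, ← sum_ec_mul j]
        exact congrArg _ (Finset.sum_congr rfl fun m _ => by rw [mul_comm])
      rw [Finset.sum_congr rfl fun j _ => he j]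
      simp [mul_comm]
    rw [← Finset.add_sum_erase _ _ (Finset.mem_univ (0 : ZMod p)), Finset.sum_eq_zero fun m hm0 =>
      hv m (Finset.ne_of_mem_erase hm0), add_zero, xpow_zero, (hdeg hirr).1] at hsum
    have hsum' : deg φ = p * n 0 := by exact_mod_cast hsum
    rcases Nat.eq_zero_or_pos (n 0) with h | h
    · rw [h, mul_zero] at hsum'
      have := (hdeg hirr).2
      omega
    · exact hsum' ▸ Nat.le_mul_of_pos_right p h
  have hone' : ∑ φ ∈ R, mlt φ ^ 2 = 1 := by
    obtain ⟨φ, hφ, h0⟩ := Finset.exists_ne_zero_of_sum_ne_zero (s := R)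
      (f := fun φ => mlt φ * deg φ) (by rw [hrest]; exact hp.out.ne_zero)
    have hm0 : mlt φ ≠ 0 := fun h => h0 (by rw [h, zero_mul])
    have h1 := hge φ hφ hm0
    rw [← Finset.add_sum_erase _ _ hφ] at hrest
    have h2 : mlt φ = 1 := by
      have := Nat.mul_le_mul_left (mlt φ) h1
      by_contra hne
      have := Nat.mul_le_mul_right p (show 2 ≤ mlt φ by omega)
      omega
    rw [← Finset.add_sum_erase _ _ hφ, h2, one_pow, Finset.sum_eq_zero, add_zero]
    intro ψ hψ
    by_contra hne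
    have hψ0 : mlt ψ ≠ 0 := fun h => hne (by rw [h]; rfl)
    have h3 := hge ψ (Finset.mem_of_mem_erase hψ) hψ0
    have h4 := Finset.single_le_sum (f := fun φ => mlt φ * deg φ) (fun _ _ => Nat.zero_le _) hψ
    have h5 := Nat.le_mul_of_pos_left (deg ψ) (Nat.pos_of_ne_zero hψ0)
    have h6 := Nat.le_mul_of_pos_left (deg φ) (Nat.pos_of_ne_zero hm0)
    omega
  have hrank : Fintype.card (orbitRel.Quotient G (Ω × Ω)) = 3 := by
    rw [← Nat.card_eq_fintype_card, ← hnorm, hsplit, hm1, hmθ, hone']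
    norm_num
  obtain ⟨a⟩ := (inferInstance : Nonempty Ω)
  set o₀ := orb G a a with ho₀
  let N := (Finset.univ : Finset (orbitRel.Quotient G (Ω × Ω))).erase o₀
  have hN : N.card = 2 := by
    rw [Finset.card_erase_of_mem (Finset.mem_univ _), Finset.card_univ, hrank]
  obtain ⟨o₁, o₂, hne, ho⟩ := Finset.card_eq_two.1 hN
  have mem : ∀ o, o ∈ N ↔ o = o₁ ∨ o = o₂ := fun o => by rw [ho]; simp
  have hpos : ∀ o ∈ N, 0 < wt p x o := by
    intro o ho
    induction o using Quotient.inductionOn' with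
    | h q =>
      refine T.wt_pos d hm ‹_› (z := q.1) (y := q.2) fun e => (Finset.mem_erase.1 ho).1 ?_
      exact (orb_eq_diag_iff a q.1 q.2).2 e
  have hsw : ∑ o ∈ N, wt p x o = 3 := by
    rw [← T.sum_wt d hm, ← Finset.add_sum_erase _ _ (Finset.mem_univ o₀),
      T.wt_diag d hm, zero_add]
  rw [ho, Finset.sum_pair hne] at hsw
  have q1 := hpos o₁ ((mem _).2 (Or.inl rfl))
  have q2 := hpos o₂ ((mem _).2 (Or.inr rfl))
  obtain ⟨A, B, hA, hB, hAB, hwA, hwB⟩ : ∃ A B, A ∈ N ∧ B ∈ N ∧ A ≠ B ∧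
      wt p x A = 2 ∧ wt p x B = 1 := by
    rcases Nat.lt_or_ge (wt p x o₁) 2 with h | h
    · exact ⟨o₂, o₁, (mem _).2 (Or.inr rfl), (mem _).2 (Or.inl rfl), hne.symm, by omega, by omega⟩
    · exact ⟨o₁, o₂, (mem _).2 (Or.inl rfl), (mem _).2 (Or.inr rfl), hne, by omega, by omega⟩
  have hall : ∀ o ∈ N, o = A ∨ o = B := by
    intro o hoN
    rcases (mem o).1 hoN with rfl | rfl <;> rcases (mem A).1 hA with e1 | e1 <;>
      rcases (mem B).1 hB with e2 | e2 <;> simp_all
  have hNeq : N = {A, B} := by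
    ext o
    refine ⟨fun h => by simpa using hall o h, fun h => ?_⟩
    simp only [Finset.mem_insert, Finset.mem_singleton] at h
    rcases h with rfl | rfl <;> assumption
  have hoff : ∀ o ∈ N, ∀ z : Ω, orb G z z ≠ o := fun o ho z e =>
    (Finset.mem_erase.1 ho).1 (by rw [← e]; exact (orb_eq_diag_iff a z z).2 rfl)
  have hsk : TwoPrime.valency a A + TwoPrime.valency a B + 1 = 3 * p := by
    rw [← d.card, ← sum_valency (G := G) a,
      ← Finset.add_sum_erase _ _ (Finset.mem_univ o₀), valency_diag,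
      show Finset.univ.erase o₀ = {A, B} from hNeq, Finset.sum_pair hAB, add_comm]
  set r : ℤ := (TwoPrime.valency a B : ℤ) - p with hr
  have hrel : 2 * (p : ℤ) = 6 * r ^ 2 + 3 * r + 1 := by
    have h := T.sum_sq d hm a
    rw [← Finset.add_sum_erase _ _ (Finset.mem_univ o₀), valency_diag, T.wt_diag d hm,
      show Finset.univ.erase o₀ = {A, B} from hNeq, Finset.sum_pair hAB, hwA, hwB] at h
    have hfR : (f : ℝ) = 2 * p - 1 := by
      have : ((f + 1 : ℕ) : ℝ) = ((2 * p : ℕ) : ℝ) := by rw [hf]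
      push_cast at this
      linarith
    have vA : (0 : ℝ) < TwoPrime.valency a A := Nat.cast_pos.2 (valency_pos a A)
    have vB : (0 : ℝ) < TwoPrime.valency a B := Nat.cast_pos.2 (valency_pos a B)
    have hkA : (TwoPrime.valency a A : ℝ) = 3 * p - 1 - TwoPrime.valency a B := by
      have : ((TwoPrime.valency a A + TwoPrime.valency a B + 1 : ℕ) : ℝ) = ((3 * p : ℕ) : ℝ) := by
        rw [hsk]
      push_cast at this
      linarith
    have hp3 : (3 : ℝ) < p := by exact_mod_cast h3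
    have hne0 : (2 * (p : ℝ) - 1) ≠ 0 := by linarith
    simp only [Nat.cast_ofNat, Nat.cast_one, Nat.cast_zero, mul_zero, sub_zero, one_pow,
      div_one] at h
    rw [hfR, hkA] at h
    have hne1 : (3 * (p : ℝ) - 1 - TwoPrime.valency a B) ≠ 0 := by linarith
    have hne0' : ((p : ℝ) * 2 - 1) ≠ 0 := by linarith
    field_simp at h
    have h' : (((2 * (p : ℤ) : ℤ)) : ℝ) = ((6 * r ^ 2 + 3 * r + 1 : ℤ) : ℝ) := by
      rw [hr]
      push_cast
      have hP : (p : ℝ) ^ 2 ≠ 0 := by positivity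
      apply mul_left_cancel₀ hP
      linear_combination -h
    exact_mod_cast h'
  have hswap : ∀ o ∈ N, swapOrb o = o := by
    intro o ho
    have hw := T.wt_swap d hm o
    have h' : swapOrb o ∈ N := by
      refine Finset.mem_erase.2 ⟨fun e => (Finset.mem_erase.1 ho).1 ?_, Finset.mem_univ _⟩
      rw [← swapOrb_swapOrb o, e, swapOrb_orb]
    rcases hall _ h' with e | e <;> rcases hall o ho with e' | e' <;> subst e'
    · exact e
    · rw [e, hwA, hwB] at hw; omega
    · rw [e, hwA, hwB] at hw; omega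
    · exact e
  refine ⟨A, B, r, fun z y hzy => hall _ (Finset.mem_erase.2
      ⟨fun e => hzy ((orb_eq_diag_iff a z y).1 e), Finset.mem_univ _⟩), hoff A hA, hoff B hB, hwA,
    hwB, fun z => ?_, fun z => ?_, hrel, hswap A hA, hswap B hB⟩
  · rw [valency_indep a z, hr]
    omega
  · rw [valency_indep a z, hr]
    ring

theorem Theta.emat_row (T : Theta p G Ω x θ 2 f) (z : Ω) : ∑ y : Ω, emat θ z y = 0 := by
  classical
  simp only [emat_eq, ← Finset.mul_sum]
  rw [Finset.sum_comm]
  have h1 : ∀ g : G, ∑ y : Ω, (if g • y = z then (θ g).re else 0) = (θ g).re := fun g => by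
    rw [Finset.sum_eq_single (g⁻¹ • z) (fun y _ hy => if_neg fun e => hy (by rw [← e, inv_smul_smul]))
      (by simp), if_pos (smul_inv_smul g z)]
  simp only [h1]
  have h := IsIrrCharacter.classInner_of_ne T.irr isIrrCharacter_one T.ne_one
  rw [classInner_def] at h
  simp only [map_one, mul_one] at h
  have h' := (mul_eq_zero.1 h).resolve_left
    (inv_ne_zero (Nat.cast_ne_zero.2 Nat.card_pos.ne'))
  rw [show ∑ g : G, (θ g).re = (∑ g : G, θ g).re by rw [Complex.re_sum], h', Complex.zero_re,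
    mul_zero]

theorem Two.mod_four {A B : orbitRel.Quotient G (Ω × Ω)} {r : ℤ} (W : Two p G Ω x A B r)
    (T : Theta p G Ω x θ 2 f) (d : Data p G Ω x t) :
    Nat.card (fixedBy Ω t) = 3 ∧ p % 4 = 1 := by
  classical
  refine d.card_fixed_t.resolve_left ?_
  rintro ⟨h1, -⟩
  haveI : Fintype (orbitRel.Quotient G (Ω × Ω)) := Fintype.ofFinite _
  have hm := T.mult (Or.inl (by norm_num))
  have hp0 := hp.out.pos
  obtain ⟨hsub, ⟨⟨z₁, hz₁⟩⟩⟩ := Nat.card_eq_one_iff_unique.1 h1
  have huniq : ∀ z : Ω, t • z = z → z = z₁ := fun z hz => congrArg Subtype.val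
    (Subsingleton.elim (⟨z, hz⟩ : fixedBy Ω t) ⟨z₁, hz₁⟩)
  obtain ⟨z₂, hz₂⟩ : ∃ z₂ : Ω, ∀ m : ZMod p, xpow x m • z₁ ≠ z₂ := by
    by_contra h
    push Not at h
    have hs : Function.Surjective fun m : ZMod p => xpow x m • z₁ := h
    have := Fintype.card_le_of_surjective _ hs
    rw [ZMod.card, d.card] at this
    omega
  set z₃ := t • z₂ with hz₃
  have h13 : ∀ m : ZMod p, xpow x m • z₁ ≠ z₃ := fun m e => hz₂ (-m) (by
    have h := congrArg (t • ·) e
    simp only [hz₃] at h
    rwa [d.t_xpow_smul, (hz₁ : t • z₁ = z₁), ← mul_smul t t, d.dih.t_sq, one_smul] at h)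
  have h23 : ∀ m : ZMod p, xpow x m • z₂ ≠ z₃ := fun m e => by
    set l : ZMod p := m * (2 : ZMod p)⁻¹ with hl
    have h2 : (2 : ZMod p) ≠ 0 := fun e => d.ne_two ((Nat.prime_dvd_prime_iff_eq hp.out
      Nat.prime_two).1 ((ZMod.natCast_eq_zero_iff 2 p).1 (by exact_mod_cast e)))
    have hfix : t • xpow x l • z₂ = xpow x l • z₂ := by
      rw [d.t_xpow_smul, ← hz₃, ← e, ← mul_smul, ← xpow_add d.dih.pow_p]
      congr 2
      rw [hl]
      field_simp
      ring
    exact hz₂ (-l) (by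
      rw [← huniq _ hfix, ← mul_smul, ← xpow_add d.dih.pow_p, neg_add_cancel, xpow_zero, one_smul])
  let z : Fin 3 → Ω := ![z₁, z₂, z₃]
  have hneg : ∀ u w : Ω, (∀ m : ZMod p, xpow x m • u ≠ w) → ∀ m : ZMod p, xpow x m • w ≠ u :=
    fun u w h m e => h (-m) (by
      rw [← e, ← mul_smul, ← xpow_add d.dih.pow_p, neg_add_cancel, xpow_zero, one_smul])
  have hbij := d.coords z (by
    intro i j hij m
    fin_cases i <;> fin_cases j <;>
      first
      | exact absurd rfl hij
      | exact hz₂ m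
      | exact h13 m
      | exact h23 m
      | exact hneg _ _ hz₂ m
      | exact hneg _ _ h13 m
      | exact hneg _ _ h23 m)
  have hsum : ∀ (R : Type) [AddCommMonoid R] (F : Ω → R),
      ∑ y : Ω, F y = ∑ i : Fin 3, ∑ m : ZMod p, F (xpow x m • z i) := fun R _ F => by
    rw [← Fintype.sum_bijective _ hbij (fun q => F (xpow x q.2 • z q.1)) F (fun _ => rfl),
      Fintype.sum_prod_type]
  have hO1 : ∀ m : ZMod p, m ≠ 0 → orb G z₁ (xpow x m • z₁) = B := by
    intro m hm0
    have hc := T.cnt_eq_wt d hm B hm0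
    rw [W.wB, mul_one, cnt_eq, Finset.card_filter, hsum ℕ] at hc
    have hconst : ∀ i, ∀ l : ZMod p,
        orb G (xpow x l • z i) (xpow x m • xpow x l • z i) = orb G (z i) (xpow x m • z i) := by
      intro i l
      rw [← mul_smul, ← xpow_add d.dih.pow_p, add_comm, xpow_add d.dih.pow_p, mul_smul, orb_smul]
    simp only [hconst, Finset.sum_const, Finset.card_univ, ZMod.card, smul_eq_mul,
      Fin.sum_univ_three] at hc
    change p * _ + p * _ + p * _ = p at hc
    have e3 : orb G z₃ (xpow x m • z₃) = orb G z₂ (xpow x m • z₂) := by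
      rw [hz₃, ← neg_neg m, ← d.t_xpow_smul, orb_smul, neg_neg,
        ← orb_smul (xpow x m), ← mul_smul, ← xpow_add d.dih.pow_p, add_neg_cancel, xpow_zero,
        one_smul, W.orb_swap (fun e => d.fpf m hm0 z₂ e.symm)]
    change p * (if orb G z₁ (xpow x m • z₁) = B then 1 else 0) +
      p * (if orb G z₂ (xpow x m • z₂) = B then 1 else 0) +
      p * (if orb G z₃ (xpow x m • z₃) = B then 1 else 0) = p at hc
    rw [e3] at hc
    by_contra hne
    rw [if_neg hne] at hc
    split_ifs at hc <;> omega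
  let M : Fin 3 → Fin 3 → ℝ := fun i j => ∑ m : ZMod p, emat θ (z i) (xpow x m • z j)
  have hinv : ∀ (i j : Fin 3) (l : ZMod p),
      ∑ m : ZMod p, emat θ (xpow x l • z i) (xpow x m • z j) = M i j := by
    intro i j l
    refine Fintype.sum_equiv (Equiv.addLeft (-l)) _ _ fun m => ?_
    rw [Equiv.coe_addLeft, ← emat_smul (IsIrrCharacter.isClassFunction T.irr) (xpow x (-l)),
      ← mul_smul, ← mul_smul, ← xpow_add d.dih.pow_p, ← xpow_add d.dih.pow_p, neg_add_cancel,
      xpow_zero, one_smul]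
  have hsymm : ∀ i j, M j i = M i j := by
    intro i j
    refine Fintype.sum_equiv (Equiv.neg _) _ _ fun m => ?_
    rw [T.emat_symm, Equiv.neg_apply, ← emat_smul (IsIrrCharacter.isClassFunction T.irr)
      (xpow x (-m)), ← mul_smul, ← xpow_add d.dih.pow_p, neg_add_cancel, xpow_zero, one_smul]
  have h12 : M 0 2 = M 0 1 := by
    refine Fintype.sum_equiv (Equiv.neg _) _ _ fun m => ?_
    show emat θ z₁ (xpow x m • t • z₂) = emat θ z₁ (xpow x (-m) • z₂)
    rw [show xpow x m • t • z₂ = t • xpow x (-m) • z₂ by rw [d.t_xpow_smul, neg_neg],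
      ← emat_smul (IsIrrCharacter.isClassFunction T.irr) t z₁ (xpow x (-m) • z₂), (hz₁ : t • z₁ = z₁)]
  have hrow : M 0 0 + M 0 1 + M 0 2 = 0 := by
    have h := T.emat_row z₁
    rw [hsum ℝ, Fin.sum_univ_three] at h
    exact h
  have hidem : M 0 0 * M 0 0 + M 0 1 * M 0 1 + M 0 2 * M 0 2 = M 0 0 := by
    have h : ∑ y : Ω, emat θ z₁ y * (∑ m : ZMod p, emat θ y (xpow x m • z₁)) = M 0 0 := by
      simp only [Finset.mul_sum]
      rw [Finset.sum_comm]
      exact Finset.sum_congr rfl fun m _ => T.emat_mul _ _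
    rw [hsum ℝ] at h
    have h' : ∀ i : Fin 3, ∑ m : ZMod p, emat θ z₁ (xpow x m • z i) *
        (∑ l : ZMod p, emat θ (xpow x m • z i) (xpow x l • z₁)) = M 0 i * M 0 i := by
      intro i
      rw [show M 0 i * M 0 i = M 0 i * M i 0 by rw [hsymm 0 i]]
      rw [show M 0 i = ∑ m : ZMod p, emat θ z₁ (xpow x m • z i) from rfl, Finset.sum_mul]
      exact Finset.sum_congr rfl fun m _ => congrArg _ (hinv i 0 m)
    rw [Finset.sum_congr rfl fun i _ => h' i, Fin.sum_univ_three] at h
    exact h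
  have hf : (f : ℝ) = 2 * p - 1 := by
    have : ((f + 1 : ℕ) : ℝ) = ((2 * p : ℕ) : ℝ) := by rw [T.f_eq]
    push_cast at this
    linarith
  have hpR : (3 : ℝ) < p := by exact_mod_cast d.h3
  have hkB : (TwoPrime.valency z₁ B : ℝ) = p + r := by
    have : ((TwoPrime.valency z₁ B : ℤ) : ℝ) = (((p : ℤ) + r : ℤ) : ℝ) := by rw [W.kB z₁]
    push_cast at this
    exact this
  have hkpos : (0 : ℝ) < TwoPrime.valency z₁ B := Nat.cast_pos.2 (valency_pos z₁ B)
  rw [hkB] at hkpos
  have hM00 : M 0 0 * (3 * p * ((p : ℝ) + r)) = f * (((p : ℝ) + r) + ((p : ℝ) - 1) * r) := by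
    show (∑ m : ZMod p, emat θ z₁ (xpow x m • z₁)) * _ = _
    rw [← Finset.add_sum_erase _ _ (Finset.mem_univ (0 : ZMod p)), xpow_zero, one_smul,
      T.emat_diag d hm.1, Finset.sum_congr rfl fun m hm0 => show emat θ z₁ (xpow x m • z₁) =
        T.eps B by rw [← T.eps_orb d, hO1 m (Finset.ne_of_mem_erase hm0)],
      Finset.sum_const, Finset.card_erase_of_mem (Finset.mem_univ _), Finset.card_univ, ZMod.card,
      nsmul_eq_mul, Nat.cast_pred hp0]
    have he := T.wt_rel d hm z₁ B
    rw [W.wB, hkB, Nat.cast_one, mul_one] at he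
    have hf0 : (f : ℝ) ≠ 0 := by rw [hf]; linarith
    field_simp at he
    field_simp
    linear_combination -((p : ℝ) - 1) * he
  have hcase : M 0 0 = 0 ∨ 3 * M 0 0 = 2 := by
    have h : M 0 0 * (3 * M 0 0 - 2) = 0 := by
      have e1 : M 0 1 = -(M 0 0) / 2 := by linarith
      rw [h12, e1] at hidem
      linarith
    rcases mul_eq_zero.1 h with h | h
    · exact Or.inl h
    · exact Or.inr (by linarith)
  rcases hcase with h | h
  · rw [h, zero_mul, eq_comm, mul_eq_zero] at hM00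
    rcases hM00 with e | e
    · rw [hf] at e; linarith
    · have hr : (r : ℝ) = -1 := by
        have : (p : ℝ) * ((r : ℝ) + 1) = 0 := by linarith
        rcases mul_eq_zero.1 this with e' | e' <;> linarith
      have hr' : r = -1 := by exact_mod_cast hr
      have := W.rel
      rw [hr'] at this
      have := d.h3
      omega
  · have hM : M 0 0 = 2 / 3 := by linarith
    rw [hM, hf] at hM00
    have h5 : (p : ℝ) * ((2 * (p : ℝ) - 3) * r - 1) = 0 := by linarith
    have h6 : (2 * (p : ℝ) - 3) * r = 1 := by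
      rcases mul_eq_zero.1 h5 with e | e <;> linarith
    have h7 : (2 * (p : ℤ) - 3) * r = 1 := by exact_mod_cast h6
    have := Int.eq_one_of_mul_eq_one_right (by have := d.h3; omega) h7
    have := d.h3
    omega

end CfsgLib.Deg3P
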