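/-
Degree `3 p`, constituent of degree `2 p - 1`, `p ≡ 1 (mod 4)`: congruences and orders.
-/
import Cfsg.Agent.Deg3P.KTwoBase

set_option autoImplicit false
set_option linter.style.haveILetI false
set_option linter.unusedSectionVars false

namespace CfsgLib.Deg3P

open MulAction CfsgLib.Char CfsgLib.TwoPrime CfsgLib.CentralizerRing

universe u v

/-- A set of residues closed under negation has the parity of the membership of zero. -/
theorem card_mod_two_of_neg {p : ℕ} [Fact p.Prime] (hp : p ≠ 2) (S : Finset (ZMod p))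
    (hS : ∀ m ∈ S, -m ∈ S) : S.card % 2 = if (0 : ZMod p) ∈ S then 1 else 0 := by
  classical
  have hev : (((S.erase 0).card : ℕ) : ZMod 2) = 0 := by
    rw [Finset.card_eq_sum_ones, Nat.cast_sum, Nat.cast_one]
    refine Finset.sum_involution (fun m _ => -m) (fun _ _ => by decide) (fun m hm _ h => ?_)
      (fun m hm => ?_) fun m _ => neg_neg m
    · have h2 : (2 : ZMod p) ≠ 0 := fun e => hp ((Nat.prime_dvd_prime_iff_eq (Fact.out : p.Prime)
        Nat.prime_two).1 ((ZMod.natCast_eq_zero_iff 2 p).1 (by exact_mod_cast e)))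
      have : (2 : ZMod p) * m = 0 := by linear_combination -h
      exact (Finset.mem_erase.1 hm).1 ((mul_eq_zero.1 this).resolve_left h2)
    · obtain ⟨h1, h2⟩ := Finset.mem_erase.1 hm
      exact Finset.mem_erase.2 ⟨neg_ne_zero.2 h1, hS m h2⟩
  obtain ⟨c, hc⟩ := (ZMod.natCast_eq_zero_iff _ 2).1 hev
  split_ifs with h
  · rw [← Finset.card_erase_add_one h, hc]; omega
  · rw [← Finset.erase_eq_of_notMem h, hc]; omega

theorem parity_arith {p : ℕ} {r : ℤ} {e₀ e₁ e₂ a b c P₀₁ P₀₂ P₁₂ : ℕ} (hp4 : p % 4 = 1)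
    (h0 : (e₀ : ℤ) + a + b = p + r) (h1 : (a : ℤ) + e₁ + c = p + r)
    (h2 : (b : ℤ) + c + e₂ = p + r) (hd : e₀ + e₁ + e₂ = p - 1)
    (q0 : e₀ % 2 = 0) (q1 : e₁ % 2 = 0) (q2 : e₂ % 2 = 0)
    (qa : a % 2 = P₀₁) (qb : b % 2 = P₀₂) (qc : c % 2 = P₁₂)
    (hrel : 2 * (p : ℤ) = 6 * r ^ 2 + 3 * r + 1) :
    (P₀₁ = 1 ∧ P₀₂ = 1 ∧ P₁₂ = 1) ∧ ∃ s : ℤ, r = 8 * s + 1 := by
  obtain ⟨w, hw⟩ : ∃ w : ℤ, r * r + r = 2 * w := by
    obtain ⟨w, hw⟩ := Int.even_mul_succ_self r
    exact ⟨w, by linarith⟩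
  have hr2 : r ^ 2 = 2 * w - r := by rw [sq]; linarith
  rw [hr2] at hrel
  have hp2 : (p : ℤ) % 2 = 1 := by clear hr2 hrel hw h0 h1 h2; omega
  have hd' : (e₀ : ℤ) + e₁ + e₂ = p - 1 := by clear hr2 hrel hw h0 h1 h2; omega
  have hE : (a : ℤ) + b + c = 6 * w + 1 := by linarith
  have k0 : ((a : ℤ) + b) % 2 = ((p : ℤ) + r) % 2 := by clear hrel hr2 hw hd hd' hE h1 h2; omega
  have k1 : ((a : ℤ) + c) % 2 = ((p : ℤ) + r) % 2 := by clear hrel hr2 hw hd hd' hE h0 h2; omega
  have k2 : ((b : ℤ) + c) % 2 = ((p : ℤ) + r) % 2 := by clear hrel hr2 hw hd hd' hE h0 h1; omega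
  have hodd : r % 2 = 1 ∧ (P₀₁ = 1 ∧ P₀₂ = 1 ∧ P₁₂ = 1) := by
    clear hrel hr2 hw hd hd' h0 h1 h2
    omega
  obtain ⟨hr, hP⟩ := hodd
  refine ⟨hP, ?_⟩
  obtain ⟨s, hs⟩ : ∃ s : ℤ, r = 2 * s + 1 := ⟨r / 2, by omega⟩
  obtain ⟨u, hu⟩ : ∃ u : ℤ, s * s + s = 2 * u := by
    obtain ⟨u, hu⟩ := Int.even_mul_succ_self s
    exact ⟨u, by linarith⟩
  have : (r : ℤ) * r + r = 8 * u + 2 * s + 2 := by rw [hs]; linarith
  clear h0 h1 h2 hd q0 q1 q2 qa qb qc hr2 hu
  exact ⟨r / 8, by omega⟩

variable {p : ℕ} [hp : Fact p.Prime]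
variable {G : Type u} [Group G] [Fintype G] [IsSimpleGroup G] {Ω : Type v} [MulAction G Ω]
  [Fintype Ω] [FaithfulSMul G Ω] [IsPreprimitive G Ω]
variable {x t : G} {θ : G → ℂ} {f : ℕ} {A B : orbitRel.Quotient G (Ω × Ω)} {r : ℤ}

/-- The orders in the case of a constituent of degree `2 p - 1`. -/
structure TwoNum (p : ℕ) (G : Type u) [Group G] (Ω : Type v) [MulAction G Ω]
    (B : orbitRel.Quotient G (Ω × Ω)) (t : G) (θ : G → ℂ) (f j l : ℕ) (r : ℤ) : Prop where
  hj : 4 * j + 1 = p
  oddj : Odd j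
  oddl : Odd l
  r16 : ∃ s : ℤ, r = 16 * s + 1
  tri : ∀ w : G, w * w = 1 → w ≠ 1 → ∀ z y : Ω, z ≠ y → w • z = z → w • y = y → orb G z y = B
  v2 : (Nat.card G).factorization 2 = 3
  θt : θ t = 1
  cardG : Nat.card G = 8 * j * p * f * l ^ 2
  invol : Nat.card {g : G // IsConj t g} = p * (f * l)
  cent : Nat.card (Subgroup.centralizer ({t} : Set G)) = 8 * j * l

/-- The three fixed points of an involution form a triangle. -/
theorem Two.triangle (W : Two p G Ω x A B r) (T : Theta p G Ω x θ 2 f) (d : Data p G Ω x t) :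
    (∃ s : ℤ, r = 8 * s + 1) ∧
      ∀ w : G, w * w = 1 → w ≠ 1 → ∀ z y : Ω, z ≠ y → w • z = z → w • y = y → orb G z y = B := by
  classical
  obtain ⟨hfix, hp4⟩ := W.mod_four T d
  haveI : Fintype (orbitRel.Quotient G (Ω × Ω)) := Fintype.ofFinite _
  have hm := T.mult (Or.inl (by norm_num))
  have hp0 := hp.out.pos
  have h3 := d.h3
  -- coordinates through the three fixed points
  let Ft := Finset.univ.filter fun w : Ω => t • w = w
  have hF : Ft.card = 3 := by
    rw [← hfix, Nat.card_eq_fintype_card, Fintype.card_subtype]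
    rfl
  obtain ⟨z₁, z₂, z₃, h12, h13, h23, hFeq⟩ := Finset.card_eq_three.1 hF
  have hfixed : ∀ w : Ω, t • w = w ↔ w = z₁ ∨ w = z₂ ∨ w = z₃ := fun w => by
    have h : w ∈ Ft ↔ w ∈ ({z₁, z₂, z₃} : Finset Ω) := by rw [hFeq]
    simpa [Ft] using h
  let z : Fin 3 → Ω := ![z₁, z₂, z₃]
  have hzfix : ∀ i, t • z i = z i := fun i => (hfixed _).2 (by fin_cases i <;> simp [z])
  have hzne : ∀ i k, i ≠ k → z i ≠ z k := by
    intro i k h
    fin_cases i <;> fin_cases k <;>
      first
      | exact absurd rfl h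
      | exact h12
      | exact h13
      | exact h23
      | exact h12.symm
      | exact h13.symm
      | exact h23.symm
  have hbij := d.coords z fun i k h m => d.fixed_sep (hzfix i) (hzfix k) (hzne i k h) m
  have hsum : ∀ F : Ω → ℕ, ∑ y : Ω, F y = ∑ i : Fin 3, ∑ m : ZMod p, F (xpow x m • z i) :=
    fun F => by
    rw [← Fintype.sum_bijective _ hbij (fun q => F (xpow x q.2 • z q.1)) F (fun _ => rfl),
      Fintype.sum_prod_type]
  let e : Fin 3 → Fin 3 → ℕ := fun i k =>
    (Finset.univ.filter fun m : ZMod p => orb G (z i) (xpow x m • z k) = B).card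
  let P : Fin 3 → Fin 3 → ℕ := fun i k => if orb G (z i) (z k) = B then 1 else 0
  have hrow : ∀ i, (TwoPrime.valency (z i) B : ℕ) = e i 0 + e i 1 + e i 2 := by
    intro i
    rw [← valency_eq (z i) (z i), Finset.card_filter, hsum, Fin.sum_univ_three]
    simp only [e, Finset.card_filter]
  have hpar : ∀ i k, e i k % 2 = P i k := by
    intro i k
    rw [card_mod_two_of_neg d.ne_two]
    · simp only [P, Finset.mem_filter, Finset.mem_univ, true_and, xpow_zero, one_smul]
    · intro m hm'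
      simp only [Finset.mem_filter, Finset.mem_univ, true_and] at hm' ⊢
      have h := orb_smul t (z i) (xpow x m • z k)
      rwa [hzfix, d.t_xpow_smul, hzfix, hm'] at h
  have hsymm : ∀ i k, e k i = e i k := by
    intro i k
    refine Finset.card_bij (fun m _ => -m) (fun m hm' => ?_) (fun _ _ _ _ h => neg_inj.1 h)
      (fun m hm' => ⟨-m, ?_, neg_neg m⟩) <;>
    · simp only [Finset.mem_filter, Finset.mem_univ, true_and] at hm' ⊢
      rw [← orb_smul (xpow x m), ← mul_smul, ← xpow_add d.dih.pow_p, add_neg_cancel, xpow_zero,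
        one_smul, ← swapOrb_orb, hm', W.sB]
  have hdiagsum : e 0 0 + e 1 1 + e 2 2 = p - 1 := by
    have h1 : ∀ m : ZMod p, (∑ i : Fin 3, if orb G (z i) (xpow x m • z i) = B then 1 else 0) =
        if m = 0 then 0 else 1 := by
      intro m
      split_ifs with hm0
      · refine Finset.sum_eq_zero fun i _ => if_neg ?_
        rw [hm0, xpow_zero, one_smul]
        exact W.offB _
      · have hc := T.cnt_eq_wt d hm B hm0
        rw [W.wB, mul_one, cnt_eq, Finset.card_filter, hsum] at hc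
        have hconst : ∀ i, ∀ l : ZMod p,
            orb G (xpow x l • z i) (xpow x m • xpow x l • z i) = orb G (z i) (xpow x m • z i) := by
          intro i l
          rw [← mul_smul, ← xpow_add d.dih.pow_p, add_comm, xpow_add d.dih.pow_p, mul_smul,
            orb_smul]
        simp only [hconst, Finset.sum_const, Finset.card_univ, ZMod.card, smul_eq_mul,
          ← Finset.mul_sum] at hc
        exact Nat.eq_of_mul_eq_mul_left hp0 (hc.trans (mul_one p).symm)
    have h2 := Finset.sum_congr rfl (s₁ := (Finset.univ : Finset (ZMod p))) fun m _ => h1 m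
    rw [Finset.sum_comm, Fin.sum_univ_three] at h2
    simp only [e, Finset.card_filter]
    rw [h2, ← Finset.add_sum_erase _ _ (Finset.mem_univ (0 : ZMod p)), if_pos rfl,
      Finset.sum_congr rfl fun m hm0 => if_neg (Finset.ne_of_mem_erase hm0), Finset.sum_const,
      Finset.card_erase_of_mem (Finset.mem_univ _), Finset.card_univ, ZMod.card, smul_eq_mul,
      mul_one, zero_add]
  have hP0 : ∀ i, P i i = 0 := fun i => if_neg (W.offB _)
  have hPle : ∀ i k, P i k ≤ 1 := fun i k => by simp only [P]; split_ifs <;> omega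
  obtain ⟨r', hr'⟩ : ∃ r' : ℤ, r = r' := ⟨r, rfl⟩
  have hk0 : (TwoPrime.valency (z 0) B : ℤ) = p + r := W.kB _
  have hk1 : (TwoPrime.valency (z 1) B : ℤ) = p + r := W.kB _
  have hk2 : (TwoPrime.valency (z 2) B : ℤ) = p + r := W.kB _
  rw [hrow] at hk0 hk1 hk2
  rw [hsymm 0 1] at hk1
  rw [hsymm 0 2, hsymm 1 2] at hk2
  push_cast at hk0 hk1 hk2
  have q00 := hpar 0 0
  have q11 := hpar 1 1
  have q22 := hpar 2 2
  have q01 := hpar 0 1
  have q02 := hpar 0 2
  have q12 := hpar 1 2
  rw [hP0] at q00 q11 q22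
  obtain ⟨hP1, s, hs⟩ := parity_arith hp4 hk0 hk1 hk2 hdiagsum q00 q11 q22 q01 q02 q12 W.rel
  -- triangle
  have htri : ∀ w : G, w * w = 1 → w ≠ 1 → ∀ z y : Ω, z ≠ y → w • z = z → w • y = y →
      orb G z y = B := by
    intro w hw2 hw1 u v huv hu hv
    obtain ⟨c, hc⟩ := _root_.isConj_iff.1 (T.isConj_invol d hw2 hw1)
    have hmove : ∀ u : Ω, w • u = u → ∃ i, z i = c⁻¹ • u := by
      intro u hu
      have e : c • t • c⁻¹ • u = u := by rw [← mul_smul, ← mul_smul, hc, hu]
      have : t • c⁻¹ • u = c⁻¹ • u :=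
        smul_left_cancel c (e.trans (smul_inv_smul c u).symm)
      rcases (hfixed _).1 this with e | e | e
      · exact ⟨0, e.symm⟩
      · exact ⟨1, e.symm⟩
      · exact ⟨2, e.symm⟩
    obtain ⟨i, hi⟩ := hmove u hu
    obtain ⟨k, hk⟩ := hmove v hv
    have hik : i ≠ k := fun h => huv (smul_left_cancel c⁻¹ (by rw [← hi, ← hk, h]))
    rw [← orb_smul c⁻¹, ← hi, ← hk]
    have g01 : orb G z₁ z₂ = B := by
      by_contra h; have := hP1.1; simp [P, z, h] at this
    have g02 : orb G z₁ z₃ = B := by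
      by_contra h; have := hP1.2.1; simp [P, z, h] at this
    have g12 : orb G z₂ z₃ = B := by
      by_contra h; have := hP1.2.2; simp [P, z, h] at this
    fin_cases i <;> fin_cases k <;>
      first
      | exact absurd rfl hik
      | exact g01
      | exact g02
      | exact g12
      | exact (W.orb_swap h12).trans g01
      | exact (W.orb_swap h13).trans g02
      | exact (W.orb_swap h23).trans g12
  exact ⟨⟨s, hs⟩, htri⟩

/-- A Sylow `2`-subgroup has order eight. -/
theorem Two.two_part (W : Two p G Ω x A B r) (T : Theta p G Ω x θ 2 f) (d : Data p G Ω x t) :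
    ∃ o, Odd o ∧ Nat.card G = 8 * o := by
  classical
  obtain ⟨⟨s, hs⟩, htri⟩ := W.triangle T d
  induction A using Quotient.inductionOn' with
  | h q =>
    obtain ⟨u, v⟩ := q
    have huv : u ≠ v := fun h => W.offA u (by rw [h]; rfl)
    have hstab : ¬ 2 ∣ Nat.card (stabilizer G (u, v)) := by
      intro h
      haveI : Fact (Nat.Prime 2) := ⟨Nat.prime_two⟩
      obtain ⟨⟨w, hw⟩, hwo⟩ := exists_prime_orderOf_dvd_card' 2 h
      rw [Subgroup.orderOf_mk] at hwo
      have hw2 : w * w = 1 := by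
        have h := pow_orderOf_eq_one w
        rwa [hwo, sq] at h
      have hw1 : w ≠ 1 := fun h => by simp [h] at hwo
      have hfixuv : w • (u, v) = (u, v) := hw
      exact W.hne (htri w hw2 hw1 u v huv (congrArg Prod.fst hfixuv) (congrArg Prod.snd hfixuv))
    have horb : (orbit G (u, v)).ncard = 3 * p * TwoPrime.valency u (orb G u v) := by
      rw [← d.card, ← CfsgLib.TwoPrime.card_pairs u (orb G u v), ← Fintype.sum_prod_type
        (f := fun q : Ω × Ω => if orb G q.1 q.2 = orb G u v then 1 else 0),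
        ← Finset.card_filter, ← Set.ncard_coe_finset]
      congr 1
      ext q
      simp only [Finset.coe_filter, Finset.mem_univ, true_and, Set.mem_setOf_eq]
      constructor
      · rintro ⟨g, rfl⟩
        exact orb_smul g u v
      · intro h
        obtain ⟨g, h1, h2⟩ := exists_smul_of_orb_eq h
        exact ⟨g, Prod.ext h1 h2⟩
    have hG := (stabilizer G (u, v)).card_mul_index
    rw [index_stabilizer, horb] at hG
    have hkA := W.kA u
    change (TwoPrime.valency u (orb G u v) : ℤ) = _ at hkA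
    have hval : TwoPrime.valency u (orb G u v) =
        8 * ((8 * s + 1) * (6 * s + 1)).natAbs := by
      have e1 : (TwoPrime.valency u (orb G u v) : ℤ) = 8 * ((8 * s + 1) * (6 * s + 1)) := by
        have := W.rel
        rw [hkA, this, hs]
        ring
      have hnn : 0 ≤ (8 * s + 1) * (6 * s + 1) := by
        have := Int.natCast_nonneg (TwoPrime.valency u (orb G u v))
        omega
      have h' : ((((8 * s + 1) * (6 * s + 1)).natAbs : ℕ) : ℤ) = (8 * s + 1) * (6 * s + 1) :=
        Int.natAbs_of_nonneg hnn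
      omega
    rw [hval] at hG
    refine ⟨Nat.card (stabilizer G (u, v)) * (3 * p * ((8 * s + 1) * (6 * s + 1)).natAbs), ?_,
      by rw [← hG]; ring⟩
    refine (Nat.odd_iff.2 (by omega)).mul (((Nat.odd_iff.2 rfl).mul
      (Nat.odd_iff.2 (by omega))).mul (Int.natAbs_odd.2 ?_))
    exact ((odd_iff_exists_bit1.2 ⟨4 * s, by ring⟩).mul (odd_iff_exists_bit1.2 ⟨3 * s, by ring⟩))

theorem Two.exists_num (W : Two p G Ω x A B r) (T : Theta p G Ω x θ 2 f) (d : Data p G Ω x t) :
    ∃ j l, TwoNum p G Ω B t θ f j l r := by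
  classical
  obtain ⟨hfix, hp4⟩ := W.mod_four T d
  obtain ⟨⟨s, hs⟩, htri⟩ := W.triangle T d
  obtain ⟨o, ho, hGo⟩ := W.two_part T d
  have hp0 := hp.out.pos
  have h3 := d.h3
  -- involutions
  obtain ⟨a⟩ : Nonempty Ω := Fintype.card_pos_iff.1 (by rw [d.card]; omega)
  have hK := T.invol_stab d a
  rw [hfix] at hK
  set n := Nat.card {g : G // IsConj t g ∧ g • a = a}
  have hKn : Nat.card {g : G // IsConj t g} = p * n := by
    have : 3 * Nat.card {g : G // IsConj t g} = 3 * (p * n) := by linarith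
    omega
  have hKodd : ¬ 2 ∣ p * n := hKn ▸ T.odd_invol d
  have hf : f + 1 = 2 * p := T.f_eq
  have hf1 : 1 ≤ f := by omega
  have hce := T.class_eq d
  rw [hKn] at hce
  obtain ⟨a', b', hab, hθ⟩ := T.theta_t d
  have hθt : θ t = 1 := by
    rcases Nat.eq_zero_or_pos b' with hb | hb
    · rw [hθ, hb, show a' = 1 by omega]; norm_num
    · exfalso
      rw [show a' = 0 by omega, show b' = 1 by omega] at hθ
      rw [hθ, show ((f : ℂ) - ((0 : ℕ) - (1 : ℕ))) = 2 * p by
        have : ((f + 1 : ℕ) : ℂ) = ((2 * p : ℕ) : ℂ) := by rw [hf]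
        push_cast at this ⊢
        linear_combination this] at hce
      have hn : (p * n) ^ 2 * (4 * p) = Nat.card G * f * (f - 1) := by
        have : (((p * n) ^ 2 * (4 * p) : ℕ) : ℂ) = ((Nat.card G * f * (f - 1) : ℕ) : ℂ) := by
          push_cast [Nat.cast_sub hf1]
          have hP : (p : ℂ) ≠ 0 := Nat.cast_ne_zero.2 hp0.ne'
          apply mul_left_cancel₀ hP
          push_cast at hce
          linear_combination hce
        exact_mod_cast this
      have hd : p ^ 2 ∣ Nat.card G * (f * (f - 1)) := ⟨4 * p * n ^ 2, by rw [← mul_assoc, ← hn]; ring⟩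
      have hcop : Nat.Coprime (p ^ 2) (f * (f - 1)) := by
        refine Nat.Coprime.pow_left 2 (Nat.Coprime.mul_right ?_ ?_)
        all_goals
          refine (hp.out.coprime_iff_not_dvd).2 fun h => ?_
        · have := (Nat.dvd_add_right h).1 (hf ▸ dvd_mul_left p 2)
          exact hp.out.one_lt.ne' (Nat.dvd_one.1 this)
        · have := (Nat.dvd_add_right h).1 (show p ∣ f - 1 + 2 by
            rw [show f - 1 + 2 = 2 * p by omega]; exact dvd_mul_left p 2)
          have := Nat.le_of_dvd (by norm_num) this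
          omega
      have h2 := (hp.out.pow_dvd_iff_le_factorization Nat.card_pos.ne').1
        (hcop.dvd_of_dvd_mul_right hd)
      rw [d.fact] at h2
      omega
  rw [hθt] at hce
  obtain ⟨j, hj⟩ : ∃ j, 4 * j + 1 = p := ⟨p / 4, by omega⟩
  have hf8 : f = 8 * j + 1 := by omega
  have hmain : 8 * j * p * n ^ 2 = Nat.card G * f := by
    have : ((8 * j * p * n ^ 2 : ℕ) : ℂ) = ((Nat.card G * f : ℕ) : ℂ) := by
      have hP : (p : ℂ) ≠ 0 := Nat.cast_ne_zero.2 hp0.ne'
      have hj0 : (8 * (j : ℂ)) ≠ 0 := mul_ne_zero (by norm_num) (Nat.cast_ne_zero.2 (by omega))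
      have hfC : (f : ℂ) = 8 * (j : ℂ) + 1 := by rw [hf8]; push_cast; ring
      apply mul_left_cancel₀ (mul_ne_zero hP hj0)
      push_cast at hce ⊢
      rw [hfC] at hce ⊢
      linear_combination hce
    exact_mod_cast this
  have hjodd : Odd j := by
    by_contra hje
    rw [Nat.not_odd_iff_even] at hje
    obtain ⟨i, rfl⟩ := hje
    have : Odd (o * f) := ho.mul (Nat.odd_iff.2 (by omega))
    have h' : 2 * (i * p * n ^ 2) = o * f := by
      rw [hGo] at hmain
      linarith
    rw [← h', Nat.odd_iff] at this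
    omega
  set C := Nat.card (Subgroup.centralizer ({t} : Set G)) with hC
  have hGC : Nat.card G = C * (p * n) := by
    rw [← hKn, card_conj_class, hC, Subgroup.card_mul_index]
  have hn0 : 0 < n := Nat.pos_of_ne_zero fun h => hKodd (by rw [h, mul_zero]; exact dvd_zero 2)
  have hcf : 8 * j * n = C * f := by
    rw [hGC] at hmain
    refine Nat.eq_of_mul_eq_mul_left (Nat.mul_pos hp0 hn0) ?_
    linarith
  obtain ⟨l, hl⟩ : f ∣ n := by
    have hcop : Nat.Coprime f (8 * j) := by
      rw [hf8]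
      simp [Nat.Coprime, add_comm (8 * j) 1]
    exact hcop.dvd_of_dvd_mul_left ⟨C, by rw [hcf]; ring⟩
  have hlodd : Odd l := by
    rw [← Nat.not_even_iff_odd]
    intro he
    exact hKodd (dvd_mul_of_dvd_right (hl ▸ dvd_mul_of_dvd_right he.two_dvd f) p)
  have hC' : C = 8 * j * l := by
    rw [hl] at hcf
    refine Nat.eq_of_mul_eq_mul_left hf1 ?_
    linarith
  refine ⟨j, l, hj, hjodd, hlodd, ?_, htri, ?_, hθt, ?_, by rw [hKn, hl], hC'⟩
  · obtain ⟨u, hu⟩ : ∃ u : ℤ, s * s = u := ⟨_, rfl⟩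
    have e : r ^ 2 = 64 * u + 16 * s + 1 := by rw [hs, ← hu]; ring
    have := W.rel
    rw [e] at this
    have hj2 : (j : ℤ) % 2 = 1 := by
      have := Nat.odd_iff.1 hjodd
      omega
    have hu2 : u % 2 = s % 2 := by
      rw [← hu, Int.mul_emod]
      rcases Int.emod_two_eq_zero_or_one s with h | h <;> rw [h] <;> norm_num
    exact ⟨s / 2, by omega⟩
  · rw [hGo, Nat.factorization_mul (by norm_num) (fun h => by simp [h] at ho), Finsupp.add_apply,
      show (8 : ℕ) = 2 ^ 3 from rfl, Nat.Prime.factorization_pow Nat.prime_two,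
      Nat.factorization_eq_zero_of_not_dvd (fun h => Nat.not_even_iff_odd.2 ho (even_iff_two_dvd.2 h))]
    simp
  · rw [hGC, hC', hl]; ring

end CfsgLib.Deg3P
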