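/-
Degree `3 p`, constituent of degree `2 p - 1`: the Sylow `2`-subgroup is dihedral of order eight.
-/
import Cfsg.Agent.Deg3P.KTwoNum
import Cfsg.Agent.Deg3P.Semi
import Mathlib.GroupTheory.Transfer
import Mathlib.GroupTheory.IndexNormal

set_option autoImplicit false
set_option linter.style.haveILetI false
set_option linter.unusedSectionVars false

namespace CfsgLib.Deg3P

open MulAction CfsgLib.Char CfsgLib.TwoPrime CfsgLib.CentralizerRing

universe u v

variable {p : ℕ} [hp : Fact p.Prime]
variable {G : Type u} [Group G] [Fintype G] [IsSimpleGroup G] {Ω : Type v} [MulAction G Ω]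
  [Fintype Ω] {x t : G}

/-- An involution with three fixed points and a given pair among them. -/
theorem eq_of_fixed_three [DecidableEq Ω] {w : G} (h3 : Nat.card (fixedBy Ω w) ≤ 3) {a b c : Ω}
    (hab : a ≠ b) (hac : a ≠ c) (hbc : b ≠ c) (ha : w • a = a) (hb : w • b = b) (hc : w • c = c)
    {y : Ω} (hy : w • y = y) : y = a ∨ y = b ∨ y = c := by
  by_contra h
  simp only [not_or] at h
  obtain ⟨n1, n2, n3⟩ := h
  have hsub : ({a, b, c, y} : Finset Ω) ⊆ Finset.univ.filter fun u => u ∈ fixedBy Ω w := by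
    intro u hu
    simp only [Finset.mem_insert, Finset.mem_singleton] at hu
    rw [Finset.mem_filter, mem_fixedBy]
    refine ⟨Finset.mem_univ _, ?_⟩
    rcases hu with rfl | rfl | rfl | rfl <;> assumption
  have := Finset.card_le_card hsub
  rw [← Fintype.card_subtype, ← Nat.card_eq_fintype_card, Finset.card_insert_of_notMem,
    Finset.card_insert_of_notMem, Finset.card_pair (Ne.symm n3)] at this
  · exact absurd (this.trans h3) (by omega)
  · simp [hbc, Ne.symm n2]
  · simp [hab, hac, Ne.symm n1]

theorem smul_smul_of_sq {g : G} (h : g * g = 1) (y : Ω) : g • g • y = y := by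
  rw [← mul_smul, h, one_smul]

section Sign

variable [FaithfulSMul G Ω]

/-- An element of order four whose square fixes only three points is an odd permutation. -/
theorem no_four (hnc : ¬ IsMulCommutative G) {j : ℕ} (hjo : Odd j)
    (hΩ : Fintype.card Ω = 12 * j + 3) {g : G} (h4 : g ^ 4 = 1) {a b c : Ω} (hab : a ≠ b)
    (hac : a ≠ c) (hbc : b ≠ c) (ha : g • a = a) (hb : g • b = b) (hc : g • c = c)
    (hfree : ∀ y : Ω, g • g • y = y → y = a ∨ y = b ∨ y = c) : False := by
  classical
  set σ : Equiv.Perm Ω := MulAction.toPerm g with hσ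
  have hsupp : σ.support = ({a, b, c} : Finset Ω)ᶜ := by
    ext y
    simp only [Equiv.Perm.mem_support, Finset.mem_compl, Finset.mem_insert, Finset.mem_singleton,
      σ, MulAction.toPerm_apply]
    refine not_congr ⟨fun h => hfree y (by rw [h, h]), ?_⟩
    rintro (rfl | rfl | rfl) <;> assumption
  have hcard : σ.support.card = 12 * j := by
    rw [hsupp, Finset.card_compl, hΩ, Finset.card_insert_of_notMem (by simp [hab, hac]),
      Finset.card_pair hbc]
    omega
  have hall : ∀ n ∈ σ.cycleType, n = 4 := by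
    intro n hn
    have h4' : σ ^ 4 = 1 := by
      rw [hσ, ← MulAction.toPermHom_apply, ← map_pow, h4, map_one]
    have hd : n ∣ 4 := (Equiv.Perm.dvd_of_mem_cycleType hn).trans (orderOf_dvd_of_pow_eq_one h4')
    have h2 := Equiv.Perm.two_le_of_mem_cycleType hn
    have hne : n ≠ 2 := by
      rintro rfl
      obtain ⟨u, w, huw, hdisj, hu, hucard⟩ := Equiv.Perm.mem_cycleType_iff.1 hn
      obtain ⟨y, hy⟩ : u.support.Nonempty := Finset.card_pos.1 (by omega)
      have hw : ∀ z ∈ u.support, σ z = u z := fun z hz => by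
        rw [huw, Equiv.Perm.mul_apply, Equiv.Perm.notMem_support.1
          (Finset.disjoint_left.1 hdisj.disjoint_support hz)]
      have hsq : σ (σ y) = y := by
        rw [hw y hy, hw _ (Equiv.Perm.apply_mem_support.2 hy), ← Equiv.Perm.mul_apply, ← sq,
          show (2 : ℕ) = orderOf u by rw [hu.orderOf, hucard], pow_orderOf_eq_one,
          Equiv.Perm.one_apply]
      have hmem : y ∈ σ.support := by
        rw [Equiv.Perm.mem_support, hw y hy]
        exact Equiv.Perm.mem_support.1 hy
      rw [hsupp, Finset.mem_compl] at hmem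
      exact hmem (by simpa using hfree y hsq)
    have := Nat.le_of_dvd (by norm_num) hd
    interval_cases n <;> omega
  have hrep := Multiset.eq_replicate_of_mem hall
  have hsum := σ.sum_cycleType
  rw [hrep, Multiset.sum_replicate, smul_eq_mul, hcard] at hsum
  have hsign := sign_eq_one hnc (Ω := Ω) g
  rw [Equiv.Perm.sign_of_cycleType, hrep, Multiset.sum_replicate, Multiset.card_replicate,
    smul_eq_mul] at hsign
  have hodd : Odd (Multiset.card σ.cycleType * 4 + Multiset.card σ.cycleType) := by
    rw [Nat.odd_iff] at hjo ⊢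
    omega
  rw [hodd.neg_one_pow] at hsign
  exact absurd hsign (by decide)

end Sign

variable [FaithfulSMul G Ω] [IsPreprimitive G Ω]
variable {θ : G → ℂ} {f j l : ℕ} {r : ℤ} {B : orbitRel.Quotient G (Ω × Ω)}

/-- The generators of a Sylow `2`-subgroup and the points they fix. -/
structure TwoSyl (G : Type u) [Group G] (Ω : Type v) [MulAction G Ω] (S : Sylow 2 G) (σ τ : G)
    (a b c : Ω) : Prop where
  σS : σ ∈ (S : Subgroup G)
  τS : τ ∈ (S : Subgroup G)
  ordσ : orderOf σ = 4
  τsq : τ * τ = 1
  τne : τ ≠ 1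
  rel : τ * σ * τ⁻¹ = σ⁻¹
  gen : Subgroup.closure ({σ, τ} : Set G) = (S : Subgroup G)
  hab : a ≠ b
  hac : a ≠ c
  hbc : b ≠ c
  fixz : (σ * σ) • a = a ∧ (σ * σ) • b = b ∧ (σ * σ) • c = c
  fixτ : τ • a = a ∧ τ • b = b ∧ τ • c = c
  swap : (σ * τ) • a = b ∧ (σ * τ) • b = a ∧ (σ * τ) • c = c

theorem TwoNum.exists_syl (N : TwoNum p G Ω B t θ f j l r) (T : Theta p G Ω x θ 2 f)
    (d : Data p G Ω x t) (hfix : Nat.card (fixedBy Ω t) = 3) :
    ∃ (S : Sylow 2 G) (σ τ : G) (a b c : Ω), TwoSyl G Ω S σ τ a b c := by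
  classical
  haveI : Fact (Nat.Prime 2) := ⟨Nat.prime_two⟩
  obtain ⟨a, b, c, H, hS⟩ := T.exists_semi d hfix
  obtain ⟨S, hHS⟩ := hS.pgrp.exists_le_sylow
  have hj := N.hj
  have hjo := Nat.odd_iff.1 N.oddj
  have hΩ : Fintype.card Ω = 12 * j + 3 := by rw [d.card]; omega
  have hle3 : ∀ w : G, w * w = 1 → w ≠ 1 → Nat.card (fixedBy Ω w) ≤ 3 := fun w h1 h2 =>
    le_of_eq (by rw [T.card_fixed d w h1 h2, hfix])
  -- no subgroup of order eight fixes three points
  have hno : ∀ (K : Subgroup G) (u v w : Ω), u ≠ v → u ≠ w → v ≠ w → Nat.card K = 8 →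
      (∀ g ∈ K, g • u = u ∧ g • v = v ∧ g • w = w) → False := by
    intro K u v w huv huw hvw hK hfixK
    have hsemi : Semi G Ω u v w K := by
      refine ⟨huv, huw, hvw, hfixK, fun g hg hg1 y hy => ?_,
        IsPGroup.of_card (n := 3) (by rw [hK]; norm_num), by rw [N.v2, hK]; norm_num⟩
      have h8 : g ^ 8 = 1 := orderOf_dvd_iff_pow_eq_one.1 (hK ▸ Subgroup.orderOf_dvd_natCard K hg)
      have hpow : ∀ m : ℕ, g ^ m • y = y := fun m => by
        induction m with
        | zero => rw [pow_zero, one_smul]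
        | succ m ih => rw [pow_succ, mul_smul, hy, ih]
      obtain ⟨m, hm1, hm2⟩ : ∃ m : ℕ, g ^ m ≠ 1 ∧ g ^ m * g ^ m = 1 := by
        by_cases e2 : g ^ 2 = 1
        · exact ⟨1, by rwa [pow_one], by rw [pow_one, ← sq, e2]⟩
        by_cases e4 : g ^ 4 = 1
        · exact ⟨2, e2, by rw [← pow_add]; exact e4⟩
        · exact ⟨4, e4, by rw [← pow_add]; exact h8⟩
      obtain ⟨f1, f2, f3⟩ := hfixK _ (K.pow_mem hg m)
      exact eq_of_fixed_three (hle3 _ hm2 hm1) huv huw hvw f1 f2 f3 (hpow m)
    have h := hsemi.dvd_card ({u, v, w} : Finset Ω)ᶜ (fun g hg y hy => by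
      simp only [Finset.mem_compl, Finset.mem_insert, Finset.mem_singleton] at hy ⊢
      obtain ⟨f1, f2, f3⟩ := hfixK g hg
      rintro (e | e | e)
      · exact hy (Or.inl (smul_left_cancel g (e.trans f1.symm)))
      · exact hy (Or.inr (Or.inl (smul_left_cancel g (e.trans f2.symm))))
      · exact hy (Or.inr (Or.inr (smul_left_cancel g (e.trans f3.symm))))) (by simp) (by simp)
      (by simp)
    rw [hK, Finset.card_compl, hΩ, Finset.card_insert_of_notMem (by simp [huv, huw]),
      Finset.card_pair hvw] at h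
    omega
  have hS8 : Nat.card (S : Subgroup G) = 8 := by rw [S.card_eq_multiplicity, N.v2]; norm_num
  have hH4 : Nat.card H = 4 := by
    have hbig := hS.big
    rw [N.v2] at hbig
    have hd : Nat.card H ∣ 2 ^ 3 := by
      have := Subgroup.card_dvd_of_le hHS
      rw [hS8] at this
      exact this
    obtain ⟨i, hi, he⟩ := (Nat.dvd_prime_pow Nat.prime_two).1 hd
    rw [he] at hbig ⊢
    interval_cases i
    · norm_num at hbig
    · norm_num at hbig
    · norm_num
    · exact absurd (hno H a b c hS.hab hS.hac hS.hbc (by rw [he]; norm_num) hS.fix) id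
  -- elements of `H` square to one
  have hsq : ∀ g ∈ H, g * g = 1 := by
    intro g hg
    by_contra hne
    have h4 : g ^ 4 = 1 := orderOf_dvd_iff_pow_eq_one.1 (hH4 ▸ Subgroup.orderOf_dvd_natCard H hg)
    obtain ⟨f1, f2, f3⟩ := hS.fix g hg
    refine no_four d.nc N.oddj hΩ h4 hS.hab hS.hac hS.hbc f1 f2 f3 fun y hy => ?_
    exact hS.free (g * g) (H.mul_mem hg hg) hne y (by rw [mul_smul, hy])
  have hidx : (H.subgroupOf (S : Subgroup G)).index = 2 := by
    have h := (H.subgroupOf (S : Subgroup G)).card_mul_index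
    rw [Nat.card_congr (Subgroup.subgroupOfEquivOfLe hHS).toEquiv, hH4, hS8] at h
    omega
  have hmemH : ∀ g ∈ (S : Subgroup G), g * g ∈ H := fun g hg =>
    Subgroup.mul_self_mem_of_index_two hidx ⟨g, hg⟩
  have hnorm : ∀ g ∈ (S : Subgroup G), ∀ h ∈ H, g * h * g⁻¹ ∈ H := fun g hg h hh =>
    (Subgroup.normal_of_index_eq_two hidx).conj_mem ⟨h, hHS hh⟩ hh ⟨g, hg⟩
  have hcos : ∀ g ∈ (S : Subgroup G), ∀ g' ∈ (S : Subgroup G), g ∉ H → g' ∉ H → g * g' ∈ H :=
    fun g hg g' hg' h h' => (Subgroup.mul_mem_iff_of_index_two hidx (a := ⟨g, hg⟩)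
      (b := ⟨g', hg'⟩)).2 ⟨fun e => absurd e h, fun e => absurd e h'⟩
  -- `S` preserves the three points
  obtain ⟨h₀, hh₀, hh₀1⟩ := H.ne_bot_iff_exists_ne_one.1 (fun e => by
    rw [e, Subgroup.card_bot] at hH4; omega) |> fun ⟨h, hh⟩ =>
      (⟨h.1, h.2, fun e => hh (Subtype.ext e)⟩ : ∃ h, h ∈ H ∧ h ≠ 1)
  have hpres : ∀ g ∈ (S : Subgroup G), ∀ y : Ω, (y = a ∨ y = b ∨ y = c) →
      g • y = a ∨ g • y = b ∨ g • y = c := by
    intro g hg y hy
    refine hS.free h₀ hh₀ hh₀1 _ ?_
    have hh := hnorm g⁻¹ (inv_mem hg) h₀ hh₀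
    rw [inv_inv] at hh
    have hfy : (g⁻¹ * h₀ * g) • y = y := by
      obtain ⟨f1, f2, f3⟩ := hS.fix _ hh
      rcases hy with rfl | rfl | rfl <;> assumption
    rw [mul_smul, mul_smul] at hfy
    exact inv_smul_eq_iff.1 hfy
  -- an element of the Sylow subgroup swaps two points
  obtain ⟨s, hsS, a', b', c', hab', hac', hbc', hset, hsa, hsb, hsc⟩ :
      ∃ s ∈ (S : Subgroup G), ∃ a' b' c' : Ω, a' ≠ b' ∧ a' ≠ c' ∧ b' ≠ c' ∧
        (∀ y, (y = a ∨ y = b ∨ y = c) ↔ (y = a' ∨ y = b' ∨ y = c')) ∧
        s • a' = b' ∧ s • b' = a' ∧ s • c' = c' := by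
    obtain ⟨s, hsS, hs⟩ : ∃ s ∈ (S : Subgroup G), s • a ≠ a ∨ s • b ≠ b ∨ s • c ≠ c := by
      by_contra hcon
      refine hno (S : Subgroup G) a b c hS.hab hS.hac hS.hbc hS8 fun g hg => ?_
      exact ⟨by_contra fun e => hcon ⟨g, hg, Or.inl e⟩,
        by_contra fun e => hcon ⟨g, hg, Or.inr (Or.inl e)⟩,
        by_contra fun e => hcon ⟨g, hg, Or.inr (Or.inr e)⟩⟩
    have hsq2 : ∀ y, (y = a ∨ y = b ∨ y = c) → s • s • y = y := by
      intro y hy
      rw [← mul_smul]
      obtain ⟨f1, f2, f3⟩ := hS.fix _ (hmemH s hsS)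
      rcases hy with rfl | rfl | rfl <;> assumption
    have qa := hsq2 a (Or.inl rfl)
    have qb := hsq2 b (Or.inr (Or.inl rfl))
    have qc := hsq2 c (Or.inr (Or.inr rfl))
    have pa := hpres s hsS a (Or.inl rfl)
    have pb := hpres s hsS b (Or.inr (Or.inl rfl))
    have pc := hpres s hsS c (Or.inr (Or.inr rfl))
    have inj : ∀ {y y' : Ω}, s • y = s • y' → y = y' := fun e => smul_left_cancel s e
    rcases pa with ea | ea | ea
    · have eb : s • b = c := by
        rcases pb with e | e | e
        · exact absurd (inj (ea.trans e.symm)) hS.hab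
        · exfalso
          rcases hs with h | h | h
          · exact h ea
          · exact h e
          · rcases pc with e' | e' | e'
            · exact hS.hac (inj (ea.trans e'.symm))
            · exact hS.hbc (inj (e.trans e'.symm))
            · exact h e'
        · exact e
      exact ⟨s, hsS, b, c, a, hS.hbc, hS.hab.symm, hS.hac.symm, fun y => by tauto,
        eb, by rw [← eb]; exact qb, ea⟩
    · have eb : s • b = a := by rw [← ea]; exact qa
      refine ⟨s, hsS, a, b, c, hS.hab, hS.hac, hS.hbc, fun y => Iff.rfl, ea, eb, ?_⟩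
      rcases pc with e | e | e
      · exact absurd (inj (eb.trans e.symm)) hS.hbc
      · exact absurd (inj (ea.trans e.symm)) hS.hac
      · exact e
    · have ec : s • c = a := by rw [← ea]; exact qa
      refine ⟨s, hsS, a, c, b, hS.hac, hS.hab, hS.hbc.symm, fun y => by tauto, ea, ec, ?_⟩
      rcases pb with e | e | e
      · exact absurd (inj (ec.trans e.symm)) hS.hbc.symm
      · exact e
      · exact absurd (inj (ea.trans e.symm)) hS.hab
  have hfixH : ∀ g ∈ H, g • a' = a' ∧ g • b' = b' ∧ g • c' = c' := by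
    intro g hg
    obtain ⟨f1, f2, f3⟩ := hS.fix g hg
    refine ⟨?_, ?_, ?_⟩
    · rcases (hset a').2 (Or.inl rfl) with e | e | e <;> rw [e] <;> assumption
    · rcases (hset b').2 (Or.inr (Or.inl rfl)) with e | e | e <;> rw [e] <;> assumption
    · rcases (hset c').2 (Or.inr (Or.inr rfl)) with e | e | e <;> rw [e] <;> assumption
  have hfree' : ∀ g ∈ H, g ≠ 1 → ∀ y, g • y = y → y = a' ∨ y = b' ∨ y = c' :=
    fun g hg hg1 y hy => (hset y).1 (hS.free g hg hg1 y hy)
  have hsH : s ∉ H := fun h => hab' ((hfixH s h).1.symm.trans hsa)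
  have hsplit : ∀ g ∈ (S : Subgroup G), g ∈ H ∨ s * g ∈ H := fun g hg => by
    by_cases h : g ∈ H
    · exact Or.inl h
    · exact Or.inr (hcos s hsS g hg hsH h)
  -- `s` does not centralise `H`
  have hnonab : ∃ u ∈ H, s * u ≠ u * s := by
    by_contra hcon
    push Not at hcon
    have hab2 : ∀ g ∈ H, ∀ g' ∈ H, g * g' = g' * g := fun g hg g' hg' => by
      have i1 : g⁻¹ = g := inv_eq_of_mul_eq_one_right (hsq g hg)
      have i2 : g'⁻¹ = g' := inv_eq_of_mul_eq_one_right (hsq g' hg')
      have h := hsq _ (H.mul_mem hg hg')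
      have i3 : (g * g')⁻¹ = g * g' := inv_eq_of_mul_eq_one_right h
      rw [mul_inv_rev, i1, i2] at i3
      exact i3.symm
    have hdec : ∀ g ∈ (S : Subgroup G), ∃ h ∈ H, g = h ∨ g = s * h := fun g hg => by
      rcases hsplit g hg with h | h
      · exact ⟨g, h, Or.inl rfl⟩
      · refine ⟨(s * s)⁻¹ * (s * g), H.mul_mem (inv_mem (hmemH s hsS)) h, Or.inr ?_⟩
        rw [mul_inv_rev]; group
    haveI : IsMulCommutative (S : Subgroup G) := by
      refine ⟨⟨fun g g' => Subtype.ext ?_⟩⟩
      show (g : G) * g' = g' * g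
      obtain ⟨h, hh, hg⟩ := hdec g g.2
      obtain ⟨h', hh', hg'⟩ := hdec g' g'.2
      have c1 : Commute s h := hcon h hh
      have c2 : Commute s h' := hcon h' hh'
      have c3 : Commute h h' := hab2 h hh h' hh'
      rcases hg with e | e <;> rcases hg' with e' | e' <;> rw [e, e']
      · exact c3.eq
      · exact (c1.symm.mul_right c3).eq
      · exact (c2.mul_left c3).eq
      · exact (((Commute.refl s).mul_right c2).mul_left (c1.symm.mul_right c3)).eq
    by_cases hs2 : s * s = 1
    · obtain ⟨d', hd'⟩ : ∃ d' : Ω, s • d' = d' ∧ d' ≠ c' := by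
        by_contra hcon'
        have hsub : (Finset.univ.filter fun y => y ∈ fixedBy Ω s) ⊆ ({c'} : Finset Ω) := by
          intro y hy
          rw [Finset.mem_singleton]
          by_contra hne
          exact hcon' ⟨y, (Finset.mem_filter.1 hy).2, hne⟩
        have h := Finset.card_le_card hsub
        rw [← Fintype.card_subtype, ← Nat.card_eq_fintype_card,
          T.card_fixed d s hs2 (fun e => hsH (e ▸ H.one_mem)), hfix, Finset.card_singleton] at h
        omega
      have hdne : ¬ (d' = a' ∨ d' = b' ∨ d' = c') := by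
        rintro (e | e | e)
        · rw [e, hsa] at hd'; exact hab' hd'.1.symm
        · rw [e, hsb] at hd'; exact hab' hd'.1
        · exact hd'.2 e
      -- `H` acts freely on the fixed points of `s` other than `c'`
      let F := (Finset.univ.filter fun y : Ω => y ∈ fixedBy Ω s).erase c'
      have hF : F.card = 2 := by
        rw [show F.card = _ from Finset.card_erase_of_mem
            (Finset.mem_filter.2 ⟨Finset.mem_univ c', (hsc : s • c' = c')⟩ :
              c' ∈ Finset.univ.filter fun y : Ω => y ∈ fixedBy Ω s),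
          ← Fintype.card_subtype, ← Nat.card_eq_fintype_card,
          T.card_fixed d s hs2 (fun e => hsH (e ▸ H.one_mem)), hfix]
      have hmap : ∀ g ∈ H, g • d' ∈ F := fun g hg => by
        refine Finset.mem_erase.2 ⟨fun e => hd'.2 ?_, Finset.mem_filter.2 ⟨Finset.mem_univ _, ?_⟩⟩
        · exact smul_left_cancel g (e.trans (hfixH g hg).2.2.symm)
        · rw [mem_fixedBy, ← mul_smul, hcon g hg, mul_smul, hd'.1]
      have hinj : Set.InjOn (fun g : G => g • d') (Finset.univ.filter fun g : G => g ∈ H) := by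
        intro g hg g' hg' e
        simp only [Finset.coe_filter, Finset.mem_univ, true_and, Set.mem_setOf_eq] at hg hg'
        have e' : (g'⁻¹ * g) • d' = d' := by
          simp only at e
          rw [mul_smul, e, inv_smul_smul]
        by_contra hne
        exact hdne (hfree' _ (H.mul_mem (inv_mem hg') hg)
          (fun h => hne (inv_mul_eq_one.1 h).symm) d' e')
      have h := Finset.card_le_card_of_injOn (fun g : G => g • d')
        (fun g hg => hmap g (Finset.mem_filter.1 hg).2) hinj
      rw [← Fintype.card_subtype, ← Nat.card_eq_fintype_card, hF] at h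
      change Nat.card H ≤ 2 at h
      omega
    · have hsquares : ∀ g ∈ (S : Subgroup G), g * g = 1 ∨ g * g = s * s := by
        intro g hg
        obtain ⟨h, hh, e | e⟩ := hdec g hg <;> rw [e]
        · exact Or.inl (hsq h hh)
        · refine Or.inr ?_
          have c1 : Commute s h := hcon h hh
          rw [show s * h * (s * h) = s * s * (h * h) by
            rw [mul_assoc, ← mul_assoc h, ← c1.eq]; group, hsq h hh, mul_one]
      obtain ⟨u, hu, hu1, hu2⟩ : ∃ u ∈ H, u ≠ 1 ∧ u ≠ s * s := by
        by_contra hcon'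
        have hsub : (Finset.univ.filter fun g : G => g ∈ H) ⊆ ({1, s * s} : Finset G) := by
          intro g hg
          simp only [Finset.mem_insert, Finset.mem_singleton]
          by_contra hne
          simp only [not_or] at hne
          exact hcon' ⟨g, (Finset.mem_filter.1 hg).2, hne.1, hne.2⟩
        have h := (Finset.card_le_card hsub).trans Finset.card_le_two
        rw [← Fintype.card_subtype, ← Nat.card_eq_fintype_card] at h
        change Nat.card H ≤ 2 at h
        omega
      have hzz : s * s * (s * s) = 1 := hsq _ (hmemH s hsS)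
      obtain ⟨g, hg⟩ := _root_.isConj_iff.1
        (((T.isConj_invol d hzz hs2).symm).trans (T.isConj_invol d (hsq u hu) hu1))
      obtain ⟨n, hn, hn'⟩ := S.conj_eq_normalizer_conj_of_mem (s * s) g⁻¹
        (mul_mem hsS hsS) (by rw [inv_inv, hg]; exact hHS hu)
      rw [inv_inv, hg] at hn'
      have hns : n⁻¹ * s * n ∈ (S : Subgroup G) := (Subgroup.mem_normalizer_iff''.1 hn s).1 hsS
      have e : u = (n⁻¹ * s * n) * (n⁻¹ * s * n) := by rw [hn']; group
      rcases hsquares _ hns with e' | e'
      · exact hu1 (e.trans e')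
      · exact hu2 (e.trans e')
  obtain ⟨u, huH, hsu⟩ := hnonab
  set w := s * u * s⁻¹ with hw
  have hwH : w ∈ H := hnorm s hsS u huH
  have huu := hsq u huH
  have hu1 : u ≠ 1 := fun e => hsu (by rw [e, mul_one, one_mul])
  have hwu : w ≠ u := fun e => hsu (mul_inv_eq_iff_eq_mul.1 e)
  have hui : u⁻¹ = u := inv_eq_of_mul_eq_one_right huu
  -- generators
  have hwi : w⁻¹ = w := inv_eq_of_mul_eq_one_right (hsq w hwH)
  have hsu' : s * u = w * s := by rw [hw]; group
  have hfour : ∀ {g : G}, g * g ≠ 1 → g ^ 4 = 1 → orderOf g = 4 := fun {g} h2 h4 => by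
    refine (orderOf_eq_prime_pow (p := 2) (n := 1) ?_ ?_).trans rfl
    · rwa [pow_one, sq]
    · exact h4
  obtain ⟨σ, hσS, hσH, hσo, hrelσ, hσa, hσb, hσc⟩ : ∃ σ ∈ (S : Subgroup G), σ ∉ H ∧
      orderOf σ = 4 ∧ u * σ * u⁻¹ = σ⁻¹ ∧ σ • a' = b' ∧ σ • b' = a' ∧ σ • c' = c' := by
    obtain ⟨fa, fb, fc⟩ := hfixH u huH
    by_cases hs2 : s * s = 1
    · have hsi : s⁻¹ = s := inv_eq_of_mul_eq_one_right hs2
      refine ⟨u * s, mul_mem (hHS huH) hsS, fun h => hsH ?_, hfour ?_ ?_, ?_, ?_, ?_, ?_⟩
      · have := H.mul_mem (inv_mem huH) h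
        rwa [inv_mul_cancel_left] at this
      · intro e
        apply hwu
        calc w = u⁻¹ * (u * (s * u * s⁻¹)) := by rw [hw, inv_mul_cancel_left]
          _ = u⁻¹ * (u * s * (u * s)) := by rw [hsi]; group
          _ = u := by rw [e, mul_one, hui]
      · have e : u * s * (u * s) = u * w := by
          rw [hw, hsi]; group
        rw [show 4 = 2 + 2 from rfl, pow_add, sq, e, hsq _ (H.mul_mem huH hwH)]
      · rw [hui, mul_inv_rev, hsi, hui]
        calc u * (u * s) * u = (u * u) * (s * u) := by group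
          _ = s * u := by rw [huu, one_mul]
      · rw [mul_smul, hsa, fb]
      · rw [mul_smul, hsb, fa]
      · rw [mul_smul, hsc, fc]
    · refine ⟨s, hsS, hsH, hfour hs2 ?_, ?_, hsa, hsb, hsc⟩
      · rw [show 4 = 2 + 2 from rfl, pow_add, sq, hsq _ (hmemH s hsS)]
      · -- `s * s` is the third involution
        have hz := hmemH s hsS
        have hzu : s * s = u * w := by
          have huwne : u * w ≠ 1 := fun e => hwu (by
            rw [eq_inv_of_mul_eq_one_right e, hui])
          have hcen : s * (s * s) = (s * s) * s := by group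
          have hne1 : s * s ≠ u := fun e => hsu (by rw [← e]; exact hcen)
          have hne2 : s * s ≠ w := fun e => hwu (by
            have h := congrArg (fun g => s⁻¹ * g * s) e
            rw [show s⁻¹ * w * s = u by rw [hw]; group,
              show s⁻¹ * (s * s) * s = s * s by group] at h
            exact e.symm.trans h)
          have hcard : (Finset.univ.filter fun g : G => g ∈ H).card = 4 := by
            rw [← Fintype.card_subtype, ← Nat.card_eq_fintype_card]
            exact hH4
          by_contra hne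
          have hw1 : w ≠ 1 := fun e => hu1 (by
            rw [show u = s⁻¹ * w * s by rw [hw]; group, e]; group)
          have hsub : ({1, s * s, u, w, u * w} : Finset G) ⊆
              Finset.univ.filter fun g : G => g ∈ H := by
            intro g hg
            simp only [Finset.mem_insert, Finset.mem_singleton] at hg
            refine Finset.mem_filter.2 ⟨Finset.mem_univ _, ?_⟩
            rcases hg with rfl | rfl | rfl | rfl | rfl
            exacts [H.one_mem, hz, huH, hwH, H.mul_mem huH hwH]
          have h := Finset.card_le_card hsub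
          rw [hcard, Finset.card_insert_of_notMem, Finset.card_insert_of_notMem,
            Finset.card_insert_of_notMem, Finset.card_pair] at h
          · omega
          · exact fun e => hu1 (by
              have h1 := congrArg (fun g => g * w) e
              simpa [mul_assoc, hsq w hwH] using h1.symm)
          · simp only [Finset.mem_insert, Finset.mem_singleton]
            rintro (e | e)
            · exact hwu e.symm
            · exact hw1 (by simpa using e.symm)
          · simp only [Finset.mem_insert, Finset.mem_singleton]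
            rintro (e | e | e)
            exacts [hne1 e, hne2 e, hne e]
          · simp only [Finset.mem_insert, Finset.mem_singleton]
            rintro (e | e | e | e)
            exacts [hs2 e.symm, hu1 e.symm, hw1 e.symm, huwne e.symm]
        rw [hui]
        refine eq_inv_of_mul_eq_one_left ?_
        calc u * s * u * s = u * (s * u * s⁻¹) * (s * s) := by group
          _ = (u * w) * (u * w) := by rw [← hw, hzu]
          _ = 1 := hsq _ (H.mul_mem huH hwH)
  obtain ⟨fa, fb, fc⟩ := hfixH u huH
  have hz := hmemH σ hσS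
  obtain ⟨za, zb, zc⟩ := hfixH _ hz
  refine ⟨S, σ, u, a', b', c', hσS, hHS huH, hσo, huu, hu1, hrelσ, ?_, hab', hac', hbc',
    ⟨za, zb, zc⟩, ⟨fa, fb, fc⟩, by rw [mul_smul, fa, hσa], by rw [mul_smul, fb, hσb],
    by rw [mul_smul, fc, hσc]⟩
  have hle : Subgroup.closure ({σ, u} : Set G) ≤ (S : Subgroup G) := by
    rw [Subgroup.closure_le]
    rintro g (rfl | rfl)
    exacts [hσS, hHS huH]
  refine Subgroup.eq_of_le_of_card_ge hle ?_
  rw [hS8]
  set K := Subgroup.closure ({σ, u} : Set G)
  have hσK : σ ∈ K := Subgroup.subset_closure (Or.inl rfl)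
  have huK : u ∈ K := Subgroup.subset_closure (Or.inr rfl)
  have hd := Subgroup.card_dvd_of_le (Subgroup.zpowers_le.2 hσK)
  rw [Nat.card_zpowers, hσo] at hd
  have hd8 := Subgroup.card_dvd_of_le hle
  rw [hS8] at hd8
  by_contra hlt
  have h4 : Nat.card K = 4 := by
    obtain ⟨i, hi, he⟩ := (Nat.dvd_prime_pow Nat.prime_two).1 (show Nat.card K ∣ 2 ^ 3 from hd8)
    rw [he] at hd hlt ⊢
    interval_cases i <;> first | omega | exact absurd (Nat.le_of_dvd (by norm_num) hd) (by norm_num) | norm_num
  have heq : Subgroup.zpowers σ = K :=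
    Subgroup.eq_of_le_of_card_ge (Subgroup.zpowers_le.2 hσK) (by rw [Nat.card_zpowers, hσo, h4])
  have hcom : σ * u = u * σ := by
    obtain ⟨i, rfl⟩ := Subgroup.mem_zpowers_iff.1 (heq ▸ huK)
    exact (Commute.refl σ).zpow_right i
  rw [hcom.symm, mul_inv_cancel_right] at hrelσ
  have : σ * σ = 1 := by nth_rewrite 2 [hrelσ]; exact mul_inv_cancel σ
  have h2 : orderOf σ ∣ 2 := orderOf_dvd_iff_pow_eq_one.2 (by rw [sq, this])
  rw [hσo] at h2
  norm_num at h2

end CfsgLib.Deg3P
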