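/-
Degree `3 p`, constituent of degree `2 p - 1`: the group is `A₆`.
-/
import Cfsg.Agent.Deg3P.KTwoSyl
import Cfsg.Agent.Deg3P.Count
import Cfsg.Agent.S0497
import Cfsg.Agent.S4482
import Cfsg.Agent.S0514
import Cfsg.Agent.Blocks.DefectZeroVanish
import Cfsg.Agent.Blocks.Congr
import Cfsg.Agent.BlocksB.RealOddPrincipal
import Mathlib.Data.Nat.Choose.Factorization
import Mathlib.Data.Nat.Squarefree

set_option autoImplicit false
set_option linter.style.haveILetI false
set_option linter.unusedSectionVars false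

namespace CfsgLib.Deg3P

open MulAction CfsgLib.Char CfsgLib.TwoPrime CfsgLib.CentralizerRing

universe u v

variable {p : ℕ} [hp : Fact p.Prime]
variable {G : Type u} [Group G] [Fintype G] [IsSimpleGroup G] {Ω : Type v} [MulAction G Ω]
  [Fintype Ω] [FaithfulSMul G Ω] [IsPreprimitive G Ω]
variable {x t : G} {θ : G → ℂ} {f j l : ℕ} {r : ℤ} {A B : orbitRel.Quotient G (Ω × Ω)}

theorem TwoNum.f_eq (N : TwoNum p G Ω B t θ f j l r) (T : Theta p G Ω x θ 2 f) : f = 8 * j + 1 := by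
  have := T.f_eq
  have := N.hj
  omega

/-- The character is one on elements of even order. -/
theorem TwoNum.apply_even (N : TwoNum p G Ω B t θ f j l r) (T : Theta p G Ω x θ 2 f)
    (d : Data p G Ω x t) {g : G} (hg : 2 ∣ orderOf g) : θ g = 1 := by
  classical
  obtain ⟨γ, hγ, hγ1, hγdef⟩ := exists_gamma d.dih d.ne_two T.irr T.deg (T.three_le d) T.val
  have hd : Cfsg.charDegree γ = 8 * j := by
    refine charDegree_eq_natCast ?_
    rw [hγ1, N.f_eq T]
    push_cast
    ring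
  have hvan : γ g = 0 := by
    refine CfsgLib.Block.eq_zero_of_defectZero Nat.prime_two ⟨γ, hγ⟩ ?_ hg
    rw [N.v2]
    exact (hd ▸ dvd_mul_right 8 j : 2 ^ 3 ∣ Cfsg.charDegree γ)
  have hα : d.dih.alpha g = 0 := by
    rcases d.dih.indFun_zero_or (psi (p := p)) (by simp [psi]) g with h | ⟨m, hm, hc⟩
    · exact h
    · exfalso
      obtain ⟨c, hc⟩ := _root_.isConj_iff.1 hc
      have ho : orderOf g ∣ p := by
        rw [orderOf_dvd_iff_pow_eq_one, ← hc, conj_pow, xpow_pow d.dih.pow_p, ZMod.natCast_self,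
          zero_mul, xpow_zero]
        group
      exact d.ne_two ((Nat.prime_dvd_prime_iff_eq Nat.prime_two hp.out).1 (hg.trans ho)).symm
  rw [hγdef] at hvan
  simp only [hα] at hvan
  linear_combination hvan

theorem TwoNum.card_edge (N : TwoNum p G Ω B t θ f j l r) (W : Two p G Ω x A B r)
    (T : Theta p G Ω x θ 2 f) (d : Data p G Ω x t) (hfix : Nat.card (fixedBy Ω t) = 3)
    {a b : Ω} (hab : orb G a b = B) :
    2 * (f * l) = TwoPrime.valency a B *
      Nat.card {g : G // IsConj t g ∧ g • a = a ∧ g • b = b} := by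
  classical
  let I := Finset.univ.filter fun g : G => IsConj t g
  let E := Finset.univ.filter fun q : Ω × Ω => orb G q.1 q.2 = B
  let n := (I.filter fun g => g • a = a ∧ g • b = b).card
  have hn : Nat.card {g : G // IsConj t g ∧ g • a = a ∧ g • b = b} = n := by
    rw [Nat.card_eq_fintype_card, Fintype.card_subtype]
    exact congrArg Finset.card (Finset.filter_filter _ _ _).symm
  have hI : I.card = p * (f * l) := by
    rw [← N.invol, Nat.card_eq_fintype_card, Fintype.card_subtype]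
  have hE : E.card = 3 * p * TwoPrime.valency a B := by
    rw [Finset.card_filter, Fintype.sum_prod_type, ← d.card]
    exact CfsgLib.TwoPrime.card_pairs a B
  have h1 : ∀ g ∈ I, (E.filter fun q => g • q.1 = q.1 ∧ g • q.2 = q.2).card = 6 := by
    intro g hg
    obtain ⟨hg2, hg1⟩ := (T.isConj_iff d g).1 (Finset.mem_filter.1 hg).2
    have heq : (E.filter fun q => g • q.1 = q.1 ∧ g • q.2 = q.2) =
        (Finset.univ.filter fun w : Ω => g • w = w).offDiag := by
      ext ⟨u, v⟩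
      simp only [E, Finset.mem_filter, Finset.mem_univ, true_and, Finset.mem_offDiag]
      exact ⟨fun ⟨h, hu, hv⟩ => ⟨hu, hv, fun e => W.offB u (by rwa [← e] at h)⟩,
        fun ⟨hu, hv, hne⟩ => ⟨N.tri g hg2 hg1 u v hne hu hv, hu, hv⟩⟩
    have h3 : (Finset.univ.filter fun w : Ω => g • w = w).card = 3 := by
      rw [← hfix, ← T.card_fixed d g hg2 hg1, Nat.card_eq_fintype_card, Fintype.card_subtype]
      rfl
    rw [heq, Finset.offDiag_card, h3]
  have h2 : ∀ q ∈ E, (I.filter fun g => g • q.1 = q.1 ∧ g • q.2 = q.2).card = n := by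
    intro q hq
    obtain ⟨c, hc1, hc2⟩ := exists_smul_of_orb_eq ((Finset.mem_filter.1 hq).2.trans hab.symm)
    refine Finset.card_bij (fun g _ => c⁻¹ * g * c) (fun g hg => ?_) (fun g _ g' _ e => by
      simpa using e) (fun g hg => ⟨c * g * c⁻¹, ?_, by group⟩)
    · simp only [I, Finset.mem_filter, Finset.mem_univ, true_and] at hg ⊢
      refine ⟨hg.1.trans (_root_.isConj_iff.2 ⟨c⁻¹, by rw [inv_inv]⟩), ?_, ?_⟩
      · rw [mul_smul, mul_smul, hc1, hg.2.1, inv_smul_eq_iff, hc1]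
      · rw [mul_smul, mul_smul, hc2, hg.2.2, inv_smul_eq_iff, hc2]
    · simp only [I, Finset.mem_filter, Finset.mem_univ, true_and] at hg ⊢
      refine ⟨hg.1.trans (_root_.isConj_iff.2 ⟨c, rfl⟩), ?_, ?_⟩
      · rw [← hc1, mul_smul, mul_smul, inv_smul_smul, hg.2.1]
      · rw [← hc2, mul_smul, mul_smul, inv_smul_smul, hg.2.2]
  have h3 := Finset.sum_card_bipartiteAbove_eq_sum_card_bipartiteBelow (s := I) (t := E)
    (fun (g : G) (q : Ω × Ω) => g • q.1 = q.1 ∧ g • q.2 = q.2)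
  simp only [Finset.bipartiteAbove, Finset.bipartiteBelow] at h3
  rw [Finset.sum_congr rfl h1, Finset.sum_congr rfl h2, Finset.sum_const, Finset.sum_const,
    smul_eq_mul, smul_eq_mul, hI, hE] at h3
  rw [hn]
  refine Nat.eq_of_mul_eq_mul_left (show 0 < 3 * p by have := hp.out.pos; omega) ?_
  linarith

theorem TwoNum.five (N : TwoNum p G Ω B t θ f j l r) (W : Two p G Ω x A B r)
    (T : Theta p G Ω x θ 2 f) (d : Data p G Ω x t) (hr : r = 1) :
    p = 5 ∧ Nonempty (G ≃* ↥(alternatingGroup (Fin 6))) := by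
  classical
  have hp5 : p = 5 := by
    have := W.rel
    rw [hr] at this
    omega
  refine ⟨hp5, ?_⟩
  subst hp5
  have hj : j = 1 := by have := N.hj; omega
  have hf : f = 9 := by rw [N.f_eq T, hj]
  have hG : Nat.card G = 360 * l ^ 2 := by rw [N.cardG, hj, hf]
  obtain ⟨k, hk⟩ := d.sylow
  have hmod : l ^ 2 % 5 = 1 := by omega
  have hlo := N.oddl
  have hdvd : l ^ 2 ∣ 5040 ^ 2 * 143 := by
    have h : Nat.card G ∣ Nat.factorial (3 * 5) := by
      rw [← d.card, ← Fintype.card_perm, ← Nat.card_eq_fintype_card]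
      exact Subgroup.card_dvd_of_injective (MulAction.toPermHom G Ω) MulAction.toPerm_injective
    rw [hG, show Nat.factorial (3 * 5) = 360 * (5040 ^ 2 * 143) by rfl] at h
    exact Nat.dvd_of_mul_dvd_mul_left (by norm_num) h
  have hl : l ∣ 5040 := by
    have hsf : Squarefree 143 := by
      rw [show (143 : ℕ) = 11 * 13 from rfl, Nat.squarefree_mul (by norm_num)]
      exact ⟨(by norm_num : Nat.Prime 11).squarefree, (by norm_num : Nat.Prime 13).squarefree⟩
    have h0 : l ≠ 0 := by rintro rfl; simp at hlo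
    rw [← Nat.factorization_le_iff_dvd h0 (by norm_num)]
    intro q
    have h1 := (Nat.factorization_le_iff_dvd (pow_ne_zero 2 h0) (by norm_num)).2 hdvd q
    rw [Nat.factorization_mul (by norm_num) (by norm_num), Nat.factorization_pow,
      Nat.factorization_pow] at h1
    simp only [Finsupp.coe_add, Finsupp.coe_smul, Pi.add_apply, Pi.smul_apply, smul_eq_mul] at h1
    have := hsf.natFactorization_le_one q
    omega
  have h5l : Nat.Coprime l 5 := by
    refine ((Nat.prime_five.coprime_iff_not_dvd).2 fun h => ?_).symm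
    obtain ⟨c, rfl⟩ := h
    rw [mul_pow, show (5 : ℕ) ^ 2 = 5 * 5 from rfl, mul_assoc] at hmod
    omega
  have h63 : l ∣ 63 := by
    have h16 : Nat.Coprime l (16 * 5) :=
      Nat.Coprime.mul_right (Nat.Coprime.pow_right 4 (Nat.coprime_two_right.2 hlo)) h5l
    exact h16.dvd_of_dvd_mul_left (show l ∣ 16 * 5 * 63 from hl)
  have hle := Nat.le_of_dvd (by norm_num) h63
  have hcases : l = 1 ∨ l = 9 ∨ l = 21 := by
    rw [Nat.odd_iff] at hlo
    interval_cases l <;> simp_all <;> omega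
  rcases hcases with rfl | rfl | rfl
  · exact Cfsg.Agent.S0497.result (by rw [hG]; rfl)
  · exfalso
    refine d.not_full_sylow (r := 3) (by norm_num) (by norm_num) ?_
    rw [hG, show 360 * 9 ^ 2 = 3 ^ 6 * 40 from rfl, Nat.factorization_mul (by norm_num)
      (by norm_num), Finsupp.add_apply, Nat.Prime.factorization_pow Nat.prime_three,
      Nat.factorization_eq_zero_of_not_dvd (show ¬ 3 ∣ 40 by norm_num),
      Nat.factorization_factorial Nat.prime_three (b := 4) (by decide)]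
    simp
    decide
  · exfalso
    refine d.not_full_sylow (r := 7) (by norm_num) (by norm_num) ?_
    rw [hG, show 360 * 21 ^ 2 = 7 ^ 2 * 3240 from rfl, Nat.factorization_mul (by norm_num)
      (by norm_num), Finsupp.add_apply, Nat.Prime.factorization_pow (by norm_num : Nat.Prime 7),
      Nat.factorization_eq_zero_of_not_dvd (show ¬ 7 ∣ 3240 by norm_num),
      Nat.factorization_factorial (by norm_num : Nat.Prime 7) (b := 3) (by decide)]
    simp
    decide

theorem k_two_arith {r : ℤ} {j n e c c' l f k : ℕ} (hj : 163 ≤ j) (hl : 0 < l) (hn : 0 < n)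
    (hr : r ≠ 0) (hf : (f : ℤ) = 3 * r * (2 * r + 1)) (hf' : f = 8 * j + 1)
    (hk : 2 * (k : ℤ) = (2 * r + 1) * (3 * r + 1)) (he : 2 * (f * l) = k * n)
    (h1 : 2 * n * e ^ 2 ≤ n ^ 2 * c ^ 2)
    (h2 : 2 * (f * l) * e ^ 2 ≤ 3 * ((f * l) ^ 2 * c' ^ 2))
    (hL : 4 * (j * l) ≤ 3 * e)
    (hX : (1 : ℚ) = 4 * l * (1 / c + 1 / c') ^ 2) : False := by
  have hjR : (163 : ℚ) ≤ j := by exact_mod_cast hj
  have hlR : (0 : ℚ) < l := Nat.cast_pos.2 hl
  have hnR : (0 : ℚ) < n := Nat.cast_pos.2 hn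
  have hfR : (f : ℚ) = 8 * j + 1 := by exact_mod_cast hf'
  have hfr : (f : ℚ) = 3 * (r : ℚ) * (2 * r + 1) := by exact_mod_cast hf
  have h2r : (2 * (r : ℚ) + 1) ≠ 0 := by
    have : (2 * r + 1 : ℤ) ≠ 0 := by omega
    exact_mod_cast this
  have hnrel : (12 : ℚ) * r * l = (3 * r + 1) * n := by
    have hk' : 2 * (k : ℚ) = (2 * (r : ℚ) + 1) * (3 * r + 1) := by exact_mod_cast hk
    have he' : 2 * ((f : ℚ) * l) = k * n := by exact_mod_cast he
    rw [hfr] at he'
    apply mul_left_cancel₀ h2r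
    linear_combination 2 * he' + (n : ℚ) * hk'
  have hn6 : (n : ℚ) ≤ 6 * l := by
    rcases lt_or_gt_of_ne hr with h | h
    · have h' : (r : ℚ) ≤ -1 := by exact_mod_cast (by omega : r ≤ -1)
      nlinarith
    · have h' : (1 : ℚ) ≤ r := by exact_mod_cast (by omega : 1 ≤ r)
      nlinarith
  have h1' : 2 * (e : ℚ) ^ 2 ≤ n * (c : ℚ) ^ 2 := by
    have : 2 * (n : ℚ) * (e : ℚ) ^ 2 ≤ (n : ℚ) ^ 2 * (c : ℚ) ^ 2 := by exact_mod_cast h1
    nlinarith
  have h2' : 2 * (e : ℚ) ^ 2 ≤ 3 * ((f : ℚ) * l) * (c' : ℚ) ^ 2 := by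
    have h : 2 * ((f : ℚ) * l) * (e : ℚ) ^ 2 ≤ 3 * (((f : ℚ) * l) ^ 2 * (c' : ℚ) ^ 2) := by
      exact_mod_cast h2
    have hpos : (0 : ℚ) < (f : ℚ) * l := mul_pos (by linarith) hlR
    nlinarith
  have hL' : 4 * ((j : ℚ) * l) ≤ 3 * e := by exact_mod_cast hL
  have he2 : 16 * (j : ℚ) ^ 2 * (l : ℚ) ^ 2 ≤ 9 * (e : ℚ) ^ 2 := by
    have := pow_le_pow_left₀ (by positivity) hL' 2
    linarith
  have hc : 16 * (l : ℚ) < (c : ℚ) ^ 2 := by
    have h3 : n * (c : ℚ) ^ 2 ≤ 6 * l * (c : ℚ) ^ 2 := mul_le_mul_of_nonneg_right hn6 (sq_nonneg _)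
    have h4 : (l : ℚ) * (32 * j ^ 2 * l) ≤ l * (54 * (c : ℚ) ^ 2) := by nlinarith
    have h5 := le_of_mul_le_mul_left h4 hlR
    nlinarith
  have hc' : 16 * (l : ℚ) < (c' : ℚ) ^ 2 := by
    have h4 : (l : ℚ) * (32 * j ^ 2 * l) ≤ l * (27 * f * (c' : ℚ) ^ 2) := by nlinarith
    have h5 := le_of_mul_le_mul_left h4 hlR
    rw [hfR] at h5
    have h6 : 27 * (8 * (j : ℚ) + 1) < 2 * j ^ 2 := by nlinarith
    have h7 : 27 * (8 * (j : ℚ) + 1) * (16 * l) < 2 * (j : ℚ) ^ 2 * (16 * l) :=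
      mul_lt_mul_of_pos_right h6 (by linarith)
    by_contra hle
    rw [not_lt] at hle
    have h8 := mul_le_mul_of_nonneg_left hle (show (0 : ℚ) ≤ 27 * (8 * (j : ℚ) + 1) by linarith)
    linarith
  have hb : ∀ y : ℚ, 16 * (l : ℚ) < y ^ 2 → (1 / y) ^ 2 < 1 / (16 * l) := fun y hy => by
    rw [div_pow, one_pow]
    exact one_div_lt_one_div_of_lt (by linarith) hy
  have h9 : (1 / (c : ℚ) + 1 / c') ^ 2 ≤ 2 * ((1 / (c : ℚ)) ^ 2 + (1 / (c' : ℚ)) ^ 2) := by
    nlinarith [sq_nonneg (1 / (c : ℚ) - 1 / c')]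
  have h10 : (1 / (c : ℚ) + 1 / c') ^ 2 < 4 * (1 / (16 * (l : ℚ))) := by
    linarith [hb _ hc, hb _ hc']
  have h11 := mul_lt_mul_of_pos_left h10 (show (0 : ℚ) < 4 * l by linarith)
  rw [← hX] at h11
  have h12 : 4 * (l : ℚ) * (4 * (1 / (16 * (l : ℚ)))) = 1 := by field_simp; ring
  linarith

theorem TwoNum.big_false (N : TwoNum p G Ω B t θ f j l r) (W : Two p G Ω x A B r)
    (T : Theta p G Ω x θ 2 f) (d : Data p G Ω x t) (hfix : Nat.card (fixedBy Ω t) = 3)
    (hr : r ≠ 1) : False := by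
  classical
  obtain ⟨S, σ, τ, a, b, c, Y⟩ := N.exists_syl T d hfix
  haveI : Fact (Nat.Prime 2) := ⟨Nat.prime_two⟩
  have hf := N.f_eq T
  have hjp := N.hj
  -- size of the parameters
  obtain ⟨s, hs⟩ := N.r16
  have hfr : (f : ℤ) = 3 * r * (2 * r + 1) := by
    have e : (f : ℤ) + 1 = 2 * (p : ℤ) := by exact_mod_cast T.f_eq
    linarith [W.rel]
  have hj163 : 163 ≤ j := by
    have hs0 : s ≠ 0 := fun e => hr (by rw [hs, e]; ring)
    have h1 : (f : ℤ) = 8 * (j : ℤ) + 1 := by exact_mod_cast hf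
    rcases lt_or_gt_of_ne hs0 with h | h
    · nlinarith
    · nlinarith
  set z := σ * σ with hz
  have hσ4 : σ ^ 4 = 1 := Y.ordσ ▸ pow_orderOf_eq_one σ
  have hz2 : z * z = 1 := by rw [hz, ← hσ4]; simp [pow_succ, mul_assoc]
  have hz1 : z ≠ 1 := fun e => by
    have h : orderOf σ ∣ 2 := orderOf_dvd_iff_pow_eq_one.2 (by rw [sq]; exact e)
    rw [Y.ordσ] at h
    norm_num at h
  have hzσ : z * σ = σ * z := by rw [hz, mul_assoc]
  have hτi : τ⁻¹ = τ := inv_eq_of_mul_eq_one_right Y.τsq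
  have hzi : z⁻¹ = z := inv_eq_of_mul_eq_one_right hz2
  have hzτ : z * τ = τ * z := by
    have h : τ * z * τ⁻¹ = z⁻¹ := by
      rw [hz, show τ * (σ * σ) * τ⁻¹ = τ * σ * τ⁻¹ * (τ * σ * τ⁻¹) by group, Y.rel]
      group
    rw [hzi, mul_inv_eq_iff_eq_mul] at h
    exact h.symm
  set w := σ * τ with hwdef
  have hw2 : w * w = 1 := by
    rw [hwdef, show σ * τ * (σ * τ) = σ * (τ * σ * τ⁻¹) * (τ * τ) by group, Y.rel, Y.τsq]
    group
  have hw1 : w ≠ 1 := fun e => Y.hab (by rw [← Y.swap.1, ← hwdef, e, one_smul])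
  have hzw : z * w = w * z := by
    rw [hwdef, ← mul_assoc, hzσ, mul_assoc, hzτ, ← mul_assoc]
  have hτz : τ ≠ z := fun e => by
    have h := Y.rel
    rw [e, hzσ, mul_inv_cancel_right] at h
    exact hz1 (by rw [hz]; exact eq_inv_iff_mul_eq_one.1 h)
  have hwz : w ≠ z := fun e => Y.hab (by rw [← Y.swap.1, ← hwdef, e, Y.fixz.1])
  -- the odd normal subgroup of the centraliser
  have D := CfsgLib.DihPrincipal.data_of_closure (n := 3) le_rfl Y.σS Y.τS (by rw [Y.ordσ]; rfl)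
    (orderOf_eq_prime (by rw [sq, Y.τsq]) Y.τne) Y.rel Y.gen
  have hzo : orderOf z = 2 := orderOf_eq_prime (by rw [sq, hz2]) hz1
  obtain ⟨N₀, hN₀, hN₀odd, k₀, hN₀idx⟩ :=
    Cfsg.Agent.S0514.result S (2 ^ (3 - 1)) (by norm_num) D.iso z hzo
  set O := N₀.map (Subgroup.centralizer ({z} : Set G)).subtype with hOdef
  have hOz : ∀ o ∈ O, z * o = o * z := by
    rintro o ⟨o', -, rfl⟩
    exact (Subgroup.mem_centralizer_singleton_iff.1 o'.2).symm
  have hOn : ∀ g : G, z * g = g * z → ∀ o ∈ O, g * o * g⁻¹ ∈ O := by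
    rintro g hg o ⟨o', ho', rfl⟩
    exact ⟨_, hN₀.conj_mem o' ho' ⟨g, Subgroup.mem_centralizer_singleton_iff.2 hg.symm⟩, rfl⟩
  have hjl : Odd (j * l) := N.oddj.mul N.oddl
  have hCz : Nat.card (Subgroup.centralizer ({z} : Set G)) = 8 * j * l := by
    have h1 : Nat.card {g : G // IsConj z g} = p * (f * l) := by
      rw [← N.invol]
      have hc := T.isConj_invol d hz2 hz1
      exact Nat.card_congr (Equiv.subtypeEquivRight fun g => ⟨hc.trans, hc.symm.trans⟩)
    rw [card_conj_class] at h1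
    have h2 := (Subgroup.centralizer ({z} : Set G)).card_mul_index
    rw [h1, N.cardG] at h2
    refine Nat.eq_of_mul_eq_mul_right (Nat.mul_pos hp.out.pos
      (Nat.mul_pos (by omega : 0 < f) N.oddl.pos)) ?_
    rw [h2]; ring
  have hOcard : Nat.card O = j * l := by
    have hcard : Nat.card O = Nat.card N₀ := (Nat.card_congr
      (Subgroup.equivMapOfInjective _ _ (Subgroup.subtype_injective _)).toEquiv).symm
    have h := N₀.card_mul_index
    rw [hN₀idx, hCz, ← hcard] at h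
    rw [← hcard] at hN₀odd
    refine Nat.dvd_antisymm ?_ ?_
    · exact (Nat.Coprime.pow_right 3 (Nat.coprime_two_right.2 hN₀odd)).dvd_of_dvd_mul_left
        ⟨2 ^ k₀, by rw [h]; ring⟩
    · exact (Nat.Coprime.pow_right k₀ (Nat.coprime_two_right.2 hjl)).dvd_of_dvd_mul_right
        ⟨8, by rw [h]; ring⟩
  set OT := O ⊓ stabilizer G a ⊓ stabilizer G b ⊓ stabilizer G c with hOT
  have hOTmem : ∀ o, o ∈ OT ↔ o ∈ O ∧ o • a = a ∧ o • b = b ∧ o • c = c := fun o => by
    simp only [hOT, Subgroup.mem_inf, mem_stabilizer_iff, and_assoc]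
  have hM : ∀ o ∈ OT, o ^ (j * l) = 1 := fun o ho =>
    hOcard ▸ orderOf_dvd_iff_pow_eq_one.1 (Subgroup.orderOf_dvd_natCard O ((hOTmem o).1 ho).1)
  have hle3 : Nat.card (fixedBy Ω z) ≤ 3 := le_of_eq (by rw [T.card_fixed d z hz2 hz1, hfix])
  obtain ⟨za, zb, zc⟩ := Y.fixz
  have hperm : ∀ o ∈ O, ∀ y : Ω, z • y = y → o • y = a ∨ o • y = b ∨ o • y = c := by
    intro o ho y hy
    exact eq_of_fixed_three hle3 Y.hab Y.hac Y.hbc za zb zc
      (by rw [← mul_smul, hOz o ho, mul_smul, hy])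
  have hOTcard : j * l ≤ 3 * Nat.card OT := by
    let OF := Finset.univ.filter fun o : G => o ∈ O
    have hOF : OF.card = j * l := by
      rw [← hOcard, ← Fintype.card_subtype, ← Nat.card_eq_fintype_card]
    rw [← hOF]
    refine le_trans (Finset.card_le_mul_card_image (f := fun o : G => o • a) OF (Nat.card OT)
      fun y hy => ?_) ?_
    · obtain ⟨o₀, ho₀, rfl⟩ := Finset.mem_image.1 hy
      rw [Nat.card_eq_fintype_card, Fintype.card_subtype]
      refine Finset.card_le_card_of_injOn (fun o => o₀⁻¹ * o) (fun o ho => ?_)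
        fun o _ o' _ h => mul_left_cancel h
      obtain ⟨hoF, heq⟩ := Finset.mem_filter.1 (Finset.mem_coe.1 ho)
      have hg : o₀⁻¹ * o ∈ O :=
        O.mul_mem (inv_mem (Finset.mem_filter.1 ho₀).2) (Finset.mem_filter.1 hoF).2
      refine Finset.mem_coe.2 (Finset.mem_filter.2 ⟨Finset.mem_univ _, ?_⟩)
      set g := o₀⁻¹ * o with hgdef
      have hga : g • a = a := by
        rw [hgdef, mul_smul, heq, inv_smul_smul]
      have hoddg : g ^ (j * l) = 1 :=
        hOcard ▸ orderOf_dvd_iff_pow_eq_one.1 (Subgroup.orderOf_dvd_natCard O hg)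
      have hsq : ∀ y y' : Ω, g • y = y' → g • y' = y → y = y' := by
        intro y y' h h'
        have hev : ∀ m : ℕ, g ^ (2 * m) • y = y := fun m => by
          induction m with
          | zero => rw [Nat.mul_zero, pow_zero, one_smul]
          | succ m ih => rw [Nat.mul_succ, pow_add, mul_smul, sq, mul_smul, h, h', ih]
        obtain ⟨m, hm⟩ := hjl
        have : g ^ (j * l) • y = y' := by
          rw [hm, add_comm, pow_add, pow_one, mul_smul, hev, h]
        rw [hoddg, one_smul] at this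
        exact this
      rw [hOTmem]
      refine ⟨hg, hga, ?_, ?_⟩
      · rcases hperm g hg b zb with e | e | e
        · exact absurd (smul_left_cancel g (hga.trans e.symm)) Y.hab
        · exact e
        · exfalso
          rcases hperm g hg c zc with e' | e' | e'
          · exact Y.hac (smul_left_cancel g (hga.trans e'.symm))
          · exact Y.hbc (hsq b c e e')
          · exact Y.hbc (smul_left_cancel g (e.trans e'.symm))
      · rcases hperm g hg c zc with e | e | e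
        · exact absurd (smul_left_cancel g (hga.trans e.symm)) Y.hac
        · exfalso
          rcases hperm g hg b zb with e' | e' | e'
          · exact Y.hab (smul_left_cancel g (hga.trans e'.symm))
          · exact Y.hbc (smul_left_cancel g (e'.trans e.symm))
          · exact Y.hbc (hsq b c e' e)
        · exact e
    · rw [mul_comm (3 : ℕ)]
      refine Nat.mul_le_mul_left _ ?_
      refine (Finset.card_le_card (t := ({a, b, c} : Finset Ω)) fun y hy => ?_).trans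
        Finset.card_le_three
      obtain ⟨o, ho, rfl⟩ := Finset.mem_image.1 hy
      simp only [Finset.mem_insert, Finset.mem_singleton]
      exact hperm o (Finset.mem_filter.1 ho).2 a za
  obtain ⟨τa, τb, τc⟩ := Y.fixτ
  obtain ⟨wa, wb, wc⟩ := Y.swap
  have hnormτ : ∀ o ∈ OT, τ * o * τ⁻¹ ∈ OT := fun o ho => by
    obtain ⟨h0, ha, hb, hc⟩ := (hOTmem o).1 ho
    rw [hOTmem, hτi]
    exact ⟨(by have h := hOn τ hzτ o h0; rwa [hτi] at h), by rw [mul_smul, mul_smul, τa, ha, τa],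
      by rw [mul_smul, mul_smul, τb, hb, τb], by rw [mul_smul, mul_smul, τc, hc, τc]⟩
  have hwi : w⁻¹ = w := inv_eq_of_mul_eq_one_right hw2
  have hnormw : ∀ o ∈ OT, w * o * w⁻¹ ∈ OT := fun o ho => by
    obtain ⟨h0, ha, hb, hc⟩ := (hOTmem o).1 ho
    rw [hOTmem, hwi]
    exact ⟨(by have h := hOn w hzw o h0; rwa [hwi] at h), by rw [mul_smul, mul_smul, wa, hb, wb],
      by rw [mul_smul, mul_smul, wb, ha, wa], by rw [mul_smul, mul_smul, wc, hc, wc]⟩
  have hOTz : ∀ o ∈ OT, z * o = o * z := fun o ho => hOz o ((hOTmem o).1 ho).1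
  obtain ⟨X₁, Y₁, hX₁, hY₁, hd₁, hL₁, hL₁', hp₁⟩ := local_sets hz2 hz1 Y.τsq Y.τne hτz hzτ OT hjl
    hM hOTz hnormτ
  obtain ⟨X₂, Y₂, hX₂, hY₂, hd₂, hL₂, hL₂', hp₂⟩ := local_sets hz2 hz1 hw2 hw1 hwz hzw OT hjl
    hM hOTz hnormw
  let Iab := Finset.univ.filter fun g : G => IsConj t g ∧ g • a = a ∧ g • b = b
  let Ic := Finset.univ.filter fun g : G => IsConj t g ∧ g • c = c
  have hcls : ∀ {v : G}, v * v = 1 → v ≠ 1 → ∀ o g : G,
      IsConj t (g * (o * v * o⁻¹) * g⁻¹) := fun {v} h1 h2 o g =>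
    (T.isConj_invol d h1 h2).trans (_root_.isConj_iff.2 ⟨g * o, by group⟩)
  have hzτ2 : z * τ * (z * τ) = 1 := by
    rw [show z * τ * (z * τ) = z * (τ * z) * τ by group, ← hzτ, ← mul_assoc, hz2, one_mul, Y.τsq]
  have hzτ1 : z * τ ≠ 1 := fun e => hτz (by rw [← hzi]; exact eq_inv_of_mul_eq_one_right e)
  have hzw2 : z * w * (z * w) = 1 := by
    rw [(show Commute z w from hzw).symm.mul_mul_mul_comm, hz2, hw2, one_mul]
  have hzw1 : z * w ≠ 1 := fun e => hwz (by rw [← hzi]; exact eq_inv_of_mul_eq_one_right e)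
  -- the stabiliser of a pair
  have count₁ : 2 * Iab.card * (4 * Nat.card OT) ^ 2 ≤ Iab.card ^ 2 *
      Nat.card (Subgroup.centralizer ({z, τ} : Set G)) ^ 2 := by
    refine count_bound (M := j * l) fun z' hz' => ?_
    obtain ⟨hz't, hz'a, hz'b⟩ := (Finset.mem_filter.1 hz').2
    obtain ⟨g, hg⟩ := _root_.isConj_iff.1 ((T.isConj_invol d hz2 hz1).symm.trans hz't)
    have hfixg : ∀ y : Ω, z' • y = y → ∀ h ∈ OT, ∀ v : G,
        (v • a = a ∧ v • b = b ∧ v • c = c) → (g * (h * v * h⁻¹) * g⁻¹) • y = y := by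
      intro y hy h hh v hv
      have hy' : z • g⁻¹ • y = g⁻¹ • y := by
        have e : (g * z * g⁻¹) • y = y := by rw [hg]; exact hy
        rw [mul_smul, mul_smul] at e
        exact eq_inv_smul_iff.2 e
      obtain ⟨-, ha, hb, hc⟩ := (hOTmem h).1 hh
      have key : ∀ y₀ : Ω, (y₀ = a ∨ y₀ = b ∨ y₀ = c) → (h * v * h⁻¹) • y₀ = y₀ := by
        intro y₀ h0
        rcases h0 with rfl | rfl | rfl
        · rw [mul_smul, mul_smul, inv_smul_eq_iff.2 ha.symm, hv.1, ha]
        · rw [mul_smul, mul_smul, inv_smul_eq_iff.2 hb.symm, hv.2.1, hb]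
        · rw [mul_smul, mul_smul, inv_smul_eq_iff.2 hc.symm, hv.2.2, hc]
      rw [mul_smul, mul_smul, key _ (eq_of_fixed_three hle3 Y.hab Y.hac Y.hbc za zb zc hy'),
        smul_inv_smul]
    refine ⟨X₁.image (fun i => g * i * g⁻¹), Y₁.image (fun i => g * i * g⁻¹), ?_, ?_, ?_, ?_, ?_, ?_⟩
    · intro i hi
      obtain ⟨i₀, hi₀, rfl⟩ := Finset.mem_image.1 hi
      obtain ⟨o, ho, rfl⟩ := hX₁ i₀ hi₀
      exact Finset.mem_filter.2 ⟨Finset.mem_univ _, hcls Y.τsq Y.τne o g,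
        hfixg a hz'a o ho τ Y.fixτ, hfixg b hz'b o ho τ Y.fixτ⟩
    · intro i hi
      obtain ⟨i₀, hi₀, rfl⟩ := Finset.mem_image.1 hi
      obtain ⟨o, ho, rfl⟩ := hY₁ i₀ hi₀
      have hv : (z * τ) • a = a ∧ (z * τ) • b = b ∧ (z * τ) • c = c :=
        ⟨by rw [mul_smul, τa, za], by rw [mul_smul, τb, zb], by rw [mul_smul, τc, zc]⟩
      exact Finset.mem_filter.2 ⟨Finset.mem_univ _, hcls hzτ2 hzτ1 o g,
        hfixg a hz'a o ho _ hv, hfixg b hz'b o ho _ hv⟩
    · rw [Finset.disjoint_image (f := fun i => g * i * g⁻¹) (MulAut.conj g).injective]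
      exact hd₁
    · rwa [Finset.card_image_of_injective (f := fun i => g * i * g⁻¹) _ (MulAut.conj g).injective]
    · rwa [Finset.card_image_of_injective (f := fun i => g * i * g⁻¹) _ (MulAut.conj g).injective]
    · intro i hi k hk
      obtain ⟨i₀, hi₀, rfl⟩ := Finset.mem_image.1 hi
      obtain ⟨k₀, hk₀, rfl⟩ := Finset.mem_image.1 hk
      obtain ⟨e1, e2⟩ := hp₁ i₀ hi₀ k₀ hk₀
      rw [show g * i₀ * g⁻¹ * (g * k₀ * g⁻¹) = g * (i₀ * k₀) * g⁻¹ by group,
        show g * k₀ * g⁻¹ * (g * i₀ * g⁻¹) = g * (k₀ * i₀) * g⁻¹ by group, conj_pow, conj_pow,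
        e1, e2, hg]
      exact ⟨rfl, rfl⟩
  -- the stabiliser of a point
  let R := Finset.univ.filter fun q : G × Ω => ∃ g : G, g * z * g⁻¹ = q.1 ∧ g • c = q.2
  let Zc := Finset.univ.filter fun v : G => (v, c) ∈ R
  have hZc : f * l ≤ 3 * Zc.card := by
    have h1 : p * (f * l) ≤ R.card := by
      rw [← N.invol, Nat.card_eq_fintype_card, Fintype.card_subtype]
      refine (Finset.card_le_card (t := R.image Prod.fst) fun v hv => ?_).trans
        Finset.card_image_le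
      obtain ⟨g, hg⟩ := _root_.isConj_iff.1
        ((T.isConj_invol d hz2 hz1).symm.trans (Finset.mem_filter.1 hv).2)
      exact Finset.mem_image.2 ⟨(v, g • c), Finset.mem_filter.2 ⟨Finset.mem_univ _, g, hg, rfl⟩,
        rfl⟩
    have h2 : R.card = 3 * p * Zc.card := by
      rw [Finset.card_eq_sum_card_fiberwise (f := Prod.snd) (t := Finset.univ)
        fun _ _ => Finset.mem_univ _, Finset.sum_congr rfl (g := fun _ => Zc.card) fun y _ => ?_,
        Finset.sum_const, Finset.card_univ, d.card, smul_eq_mul]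
      obtain ⟨k, hk⟩ := exists_smul_eq G c y
      refine Finset.card_bij (fun q _ => k⁻¹ * q.1 * k) (fun q hq => ?_)
        (fun q hq q' hq' e => ?_) (fun v hv => ⟨(k * v * k⁻¹, y), ?_, by group⟩)
      · obtain ⟨hqR, hqy⟩ := Finset.mem_filter.1 hq
        obtain ⟨g, hg, hgc⟩ := (Finset.mem_filter.1 hqR).2
        refine Finset.mem_filter.2 ⟨Finset.mem_univ _, Finset.mem_filter.2 ⟨Finset.mem_univ _,
          k⁻¹ * g, ?_, ?_⟩⟩
        · rw [← hg]; group
        · show (k⁻¹ * g) • c = c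
          rw [mul_smul, hgc, hqy, ← hk, inv_smul_smul]
      · exact Prod.ext (by simpa using e)
          ((Finset.mem_filter.1 hq).2.trans (Finset.mem_filter.1 hq').2.symm)
      · obtain ⟨g, hg, hgc⟩ := (Finset.mem_filter.1 (Finset.mem_filter.1 hv).2).2
        refine Finset.mem_filter.2 ⟨Finset.mem_filter.2 ⟨Finset.mem_univ _, k * g, ?_, ?_⟩, rfl⟩
        · simp only at hg ⊢
          rw [← hg]; group
        · simp only at hgc ⊢
          rw [mul_smul, hgc, hk]
    rw [h2] at h1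
    exact Nat.le_of_mul_le_mul_left (by linarith) hp.out.pos
  have count₂ : 2 * Zc.card * (4 * Nat.card OT) ^ 2 ≤ Ic.card ^ 2 *
      Nat.card (Subgroup.centralizer ({z, w} : Set G)) ^ 2 := by
    refine count_bound (M := j * l) fun z' hz' => ?_
    obtain ⟨g, hg, hgc⟩ := (Finset.mem_filter.1 (Finset.mem_filter.1 hz').2).2
    simp only at hg hgc
    have hgc' : g⁻¹ • c = c := inv_smul_eq_iff.2 hgc.symm
    have hfixc : ∀ h ∈ OT, ∀ v : G, v • c = c → (g * (h * v * h⁻¹) * g⁻¹) • c = c := by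
      intro h hh v hv
      obtain ⟨-, -, -, hc⟩ := (hOTmem h).1 hh
      rw [mul_smul, mul_smul, hgc', mul_smul, mul_smul, inv_smul_eq_iff.2 hc.symm, hv, hc, hgc]
    refine ⟨X₂.image (fun i => g * i * g⁻¹), Y₂.image (fun i => g * i * g⁻¹), ?_, ?_, ?_, ?_, ?_, ?_⟩
    · intro i hi
      obtain ⟨i₀, hi₀, rfl⟩ := Finset.mem_image.1 hi
      obtain ⟨o, ho, rfl⟩ := hX₂ i₀ hi₀
      exact Finset.mem_filter.2 ⟨Finset.mem_univ _, hcls hw2 hw1 o g, hfixc o ho w wc⟩
    · intro i hi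
      obtain ⟨i₀, hi₀, rfl⟩ := Finset.mem_image.1 hi
      obtain ⟨o, ho, rfl⟩ := hY₂ i₀ hi₀
      exact Finset.mem_filter.2 ⟨Finset.mem_univ _, hcls hzw2 hzw1 o g,
        hfixc o ho _ (by rw [mul_smul, wc, zc])⟩
    · rw [Finset.disjoint_image (f := fun i => g * i * g⁻¹) (MulAut.conj g).injective]
      exact hd₂
    · rwa [Finset.card_image_of_injective (f := fun i => g * i * g⁻¹) _ (MulAut.conj g).injective]
    · rwa [Finset.card_image_of_injective (f := fun i => g * i * g⁻¹) _ (MulAut.conj g).injective]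
    · intro i hi k hk
      obtain ⟨i₀, hi₀, rfl⟩ := Finset.mem_image.1 hi
      obtain ⟨k₀, hk₀, rfl⟩ := Finset.mem_image.1 hk
      obtain ⟨e1, e2⟩ := hp₂ i₀ hi₀ k₀ hk₀
      rw [show g * i₀ * g⁻¹ * (g * k₀ * g⁻¹) = g * (i₀ * k₀) * g⁻¹ by group,
        show g * k₀ * g⁻¹ * (g * i₀ * g⁻¹) = g * (k₀ * i₀) * g⁻¹ by group, conj_pow, conj_pow,
        e1, e2, hg]
      exact ⟨rfl, rfl⟩
  have hIc : Ic.card = f * l := by
    have h := T.invol_stab d c
    rw [hfix, N.invol, Nat.card_eq_fintype_card, Fintype.card_subtype] at h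
    refine Nat.eq_of_mul_eq_mul_left (show 0 < 3 * p by omega) ?_
    linarith
  -- the order formula
  obtain ⟨M, hMod⟩ := CfsgLib.Block.exists_isPModular Nat.prime_two
  haveI := hMod.2.1.isPrime
  letI := CfsgLib.Block.Chr.irrFintype (G := G)
  have hdeg : Cfsg.charDegree θ = f := charDegree_eq_natCast T.deg
  have hB0 : (⟨θ, T.irr⟩ : Cfsg.IrrCharacter G) ∈ Cfsg.principalBlock M G := by
    refine CfsgLib.BlockB.mem_principalBlock_of_real_mod hMod ?_ fun g => ?_
    · show Odd (Cfsg.charDegree θ)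
      rw [hdeg, hf]
      exact odd_iff_exists_bit1.2 ⟨4 * j, by ring⟩
    · show Cfsg.MemLocalIdeal M (θ g⁻¹ - θ g)
      rw [T.apply_inv, sub_self]
      exact CfsgLib.Block.memLocalIdeal_zero
  have hzpow : σ ^ (2 ^ (3 - 2)) = z := by rw [hz]; norm_num [sq]
  obtain ⟨-, heq⟩ := Cfsg.Agent.S4482.result M hMod 3 le_rfl S σ τ Y.σS Y.τS
    (by rw [Y.ordσ]; rfl) (orderOf_eq_prime (by rw [sq, Y.τsq]) Y.τne) Y.rel Y.gen
    (by
      rw [hzpow]
      exact ⟨(T.isConj_invol d hz2 hz1).symm.trans (T.isConj_invol d Y.τsq Y.τne),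
        (T.isConj_invol d hz2 hz1).symm.trans (T.isConj_invol d hw2 hw1)⟩)
    ⟨θ, T.irr⟩ hB0 T.ne_one 1 (Or.inl rfl) fun i hi0 hi4 => by
      show θ (σ ^ i) = ((1 : ℤ) : ℂ)
      rw [Int.cast_one]
      refine N.apply_even T d ?_
      norm_num at hi4
      interval_cases i <;> rw [orderOf_pow' σ (by norm_num), Y.ordσ] <;> decide
  rw [hzpow] at heq
  change (Nat.card G : ℚ) * ((Cfsg.charDegree θ : ℚ) - ((1 : ℤ) : ℚ)) ^ 2 = 2 *
    (Cfsg.charDegree θ : ℚ) * ((Cfsg.charDegree θ : ℚ) + ((1 : ℤ) : ℚ)) *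
    (Nat.card (Subgroup.centralizer ({z} : Set G)) : ℚ) ^ 3 * _ at heq
  rw [N.cardG, hdeg, hCz] at heq
  set c₁ := Nat.card (Subgroup.centralizer ({z, τ} : Set G)) with hc₁
  set c₂ := Nat.card (Subgroup.centralizer ({z, w} : Set G)) with hc₂
  have hj0 : (j : ℚ) ≠ 0 := Nat.cast_ne_zero.2 (by omega)
  have hl0 : (l : ℚ) ≠ 0 := Nat.cast_ne_zero.2 N.oddl.pos.ne'
  have hX : (1 : ℚ) = 4 * l * (1 / (c₁ : ℚ) + 1 / c₂) ^ 2 := by
    have hfq : (f : ℚ) = 8 * j + 1 := by exact_mod_cast hf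
    have hpq : (p : ℚ) = 4 * j + 1 := by exact_mod_cast hjp.symm
    have hne : 8 * (j : ℚ) * (64 * j ^ 2) * p * f * l ^ 2 ≠ 0 := by
      have : (0 : ℚ) < j := Nat.cast_pos.2 (by omega)
      have : (0 : ℚ) < l := Nat.cast_pos.2 N.oddl.pos
      rw [hfq, hpq]
      positivity
    apply mul_left_cancel₀ hne
    push_cast at heq
    rw [hfq] at heq ⊢
    rw [hpq] at heq ⊢
    linear_combination heq
  have hab' : orb G a b = B := N.tri z hz2 hz1 a b Y.hab za zb
  have hedge := N.card_edge W T d hfix hab'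
  have hIab : Nat.card {g : G // IsConj t g ∧ g • a = a ∧ g • b = b} = Iab.card := by
    rw [Nat.card_eq_fintype_card, Fintype.card_subtype]
  rw [hIab] at hedge
  have hkB : 2 * (TwoPrime.valency a B : ℤ) = (2 * r + 1) * (3 * r + 1) := by
    rw [W.kB a]
    linarith [W.rel]
  refine k_two_arith (e := 4 * Nat.card OT) hj163 N.oddl.pos ?_ (by omega) hfr hf hkB hedge count₁
    ?_ ?_ hX
  · refine Finset.card_pos.2 ⟨z, Finset.mem_filter.2 ⟨Finset.mem_univ _,
      T.isConj_invol d hz2 hz1, za, zb⟩⟩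
  · calc 2 * (f * l) * (4 * Nat.card OT) ^ 2 ≤ 2 * (3 * Zc.card) * (4 * Nat.card OT) ^ 2 := by
          gcongr
      _ = 3 * (2 * Zc.card * (4 * Nat.card OT) ^ 2) := by ring
      _ ≤ 3 * ((f * l) ^ 2 * c₂ ^ 2) := by rw [← hIc]; exact Nat.mul_le_mul_left 3 count₂
  · linarith

theorem k_two (T : Theta p G Ω x θ 2 f) (d : Data p G Ω x t) :
    p = 5 ∧ Nonempty (G ≃* ↥(alternatingGroup (Fin 6))) := by
  obtain ⟨A, B, r, W⟩ := T.exists_two d
  obtain ⟨hfix, -⟩ := W.mod_four T d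
  obtain ⟨j, l, N⟩ := W.exists_num T d
  by_cases hr : r = 1
  · exact N.five W T d hr
  · exact (N.big_false W T d hfix hr).elim

end CfsgLib.Deg3P
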